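import Mathlib

/-!
# Simple groups of order 443520: the facts on centralisers used in the local analysis
-/

set_option autoImplicit false

namespace CfsgLib.M22Order

universe u

/-- Centralisers of elements of order 2, 3 and 5 in a simple group of order 443520. -/
structure Facts (G : Type u) [Group G] [Finite G] : Prop where
  card : Nat.card G = 443520
  invol_conj : ∀ s t : G, orderOf s = 2 → orderOf t = 2 → IsConj s t
  card_invol : ∀ t : G, orderOf t = 2 → Nat.card (Subgroup.centralizer ({t} : Set G)) = 384
  three_conj : ∀ x y : G, orderOf x = 3 → orderOf y = 3 → IsConj x y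
  card_three : ∀ x : G, orderOf x = 3 → Nat.card (Subgroup.centralizer ({x} : Set G)) = 36
  card_six : ∀ t x : G, orderOf t = 2 → orderOf x = 3 → Commute t x →
    Nat.card ↥(Subgroup.centralizer ({t} : Set G) ⊓ Subgroup.centralizer ({x} : Set G)) = 12
  no_elem_sixty_four : ∀ Q : Subgroup G, Nat.card Q = 64 → ¬ ∀ q ∈ Q, q * q = 1
  card_five : ∀ y : G, orderOf y = 5 → Nat.card (Subgroup.centralizer ({y} : Set G)) = 5

end CfsgLib.M22Order
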