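import Cfsg.Agent.Lib.M22Order.CharTable
import Cfsg.Agent.Lib.M22Order.Facts

/-!
# Simple groups of order 443520: centralisers of elements of order 2, 3 and 5
-/

set_option autoImplicit false
set_option linter.unusedSectionVars false
set_option linter.style.haveILetI false
set_option maxHeartbeats 2000000

namespace CfsgLib.M22Order

open Cfsg
open scoped ComplexConjugate CfsgLib.Char
open CfsgLib CfsgLib.BrauerTuan
universe u

/-- The values `a`, `b`, `c` of the characters of degrees `21`, `154`, `210` at an element of order `3`. -/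
def threeRow (a b c : Int) : List Int :=
  let u := b - 1 - a
  let w := 1 - a + c
  [1, a, 1, b, c, u, w, w, -(8 + 5 * a + 10 * b + 2 * c + 7 * u - 16 * w)]

/-- The degrees at the positions of `threeRow`. -/
def threeDegs : List Int := [1, 21, 55, 154, 210, 231, 280, 280, 385]

/-- A row at an element of order `3` passes the orthogonality relations. -/
def threeOK (a b c : Int) : Bool :=
  let v := threeRow a b c
  decide ((List.zipWith (· * ·) v threeDegs).sum = 0) &&
    ([9, 18, 36, 72, 144, 288, 576, 1152] : List Int).contains ((v.map fun A => A * A).sum) &&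
    decide (0 ≤ (List.zipWith (fun A d => A * A * A * (6 * 55 * 7 * 8 / d)) v threeDegs).sum)

theorem key_three_all : ((List.range 23).all fun i : ℕ => (List.range 23).all fun j : ℕ =>
    (List.range 23).all fun l : ℕ => !threeOK (3 * (i : Int) - 33) (3 * (j : Int) - 32) (3 * (l : Int) - 33) ||
      (i == 11 && j == 11 && l == 11) || (i == 12 && j == 11 && l == 12)) = true := by decide +kernel

theorem key_three {i j l : ℕ} (hi : i < 23) (hj : j < 23) (hl : l < 23)
    (h : threeOK (3 * (i : Int) - 33) (3 * (j : Int) - 32) (3 * (l : Int) - 33) = true) :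
    (i = 11 ∧ j = 11 ∧ l = 11) ∨ (i = 12 ∧ j = 11 ∧ l = 12) := by
  have h1 := List.all_eq_true.mp (List.all_eq_true.mp (List.all_eq_true.mp key_three_all i
    (List.mem_range.mpr hi)) j (List.mem_range.mpr hj)) l (List.mem_range.mpr hl)
  simpa [h, and_assoc] using h1

open scoped _root_.Classical

variable {G : Type u} [Group G] [Fintype G] [IsSimpleGroup G]

/-- A character alone with its degree has integer values. -/
theorem Tab.int_of_unique (T : Tab G) {χ : IrrCharacter G}
    (h : ([Blocks.trivIrr G, T.c21, T.a45, T.b45, T.c55, T.c99, T.c154, T.c210, T.c231, T.a280, T.b280,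
      T.c385].map deg).count (deg χ) = 1) (g : G) : (χ : G → ℂ) g = iv χ g := by
  refine iv_spec_of_int (exists_int_value_of_unique (fun ξ hξ => ?_) g)
  by_contra hne
  have h2 := List.subperm_of_subset (l₁ := [ξ, χ]) (by simp [hne])
    (l₂ := ([Blocks.trivIrr G, T.c21, T.a45, T.b45, T.c55, T.c99, T.c154, T.c210, T.c231, T.a280, T.b280,
      T.c385] : List (IrrCharacter G)).filter fun η => decide (deg η = deg χ)) fun η hη => by
    refine List.mem_filter.mpr ⟨T.cover η, decide_eq_true ?_⟩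
    simp only [List.mem_cons, List.not_mem_nil, or_false] at hη
    rcases hη with rfl | rfl
    · exact hξ
    · rfl
  have h3 := h2.length_le
  rw [List.count_eq_countP, List.countP_map, List.countP_eq_length_filter] at h
  simp only [Function.comp_def, beq_eq_decide] at h
  rw [h] at h3
  simp at h3

/-- The squares in the column of `g`. -/
theorem Tab.norm_eq (_T : Tab G) (g : G) :
    ∑ χ : IrrCharacter G, (χ : G → ℂ) g * conj ((χ : G → ℂ) g) = (cC g : ℂ) := by
  rw [Char.column_orthogonality, if_pos (IsConj.refl g)]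
  rfl

theorem Tab.orth (_T : Tab G) {g h : G} (hgh : ¬ IsConj g h) :
    ∑ χ : IrrCharacter G, (χ : G → ℂ) g * conj ((χ : G → ℂ) h) = 0 := by
  rw [Char.column_orthogonality, if_neg hgh]

theorem Tab.d_lookup (T : Tab G) : [Blocks.trivIrr G, T.c21, T.a45, T.b45, T.c55, T.c99, T.c154, T.c210,
    T.c231, T.a280, T.b280, T.c385].map deg = [1, 21, 45, 45, 55, 99, 154, 210, 231, 280, 280, 385] := by
  simp only [List.map_cons, List.map_nil, deg_triv, T.d21, T.d45a, T.d45b, T.d55, T.d99, T.d154, T.d210,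
    T.d231, T.d280a, T.d280b, T.d385]

theorem Tab.value385 (T : Tab G) {g : G} (hg : orderOf g = 2) : (T.c385 : G → ℂ) g = 1 := by
  obtain ⟨-, hv⟩ := T.invol g hg
  simp only [List.cons.injEq, and_true] at hv
  obtain ⟨v1, v2, v3, v4, v5, v6, v7, v8, v9, v10⟩ := hv
  have hgg := mul_self_of_order_two hg
  have h := T.orth (g := g) (h := 1) fun hc => ne_one_of_order_two hg (isConj_one_left.mp hc)
  rw [T.sum_eq] at h
  simp only [value_one', map_natCast, T.d21, T.d45a, T.d45b, T.d55, T.d99, T.d154, T.d210, T.d231, T.d280a,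
    T.d280b, T.d385, deg_triv, iv_spec _ hgg, v1, v2, v3, v4, v5, v6, v7, v8, v9, v10, iv_triv] at h
  push_cast at h
  rw [iv_spec _ hgg]
  linear_combination (1 / 385 : ℂ) * h

theorem Tab.invol_conj (T : Tab G) {s t : G} (hs : orderOf s = 2) (ht : orderOf t = 2) : IsConj s t := by
  by_contra hc
  obtain ⟨-, hv⟩ := T.invol s hs
  obtain ⟨-, hw⟩ := T.invol t ht
  simp only [List.cons.injEq, and_true] at hv hw
  obtain ⟨v1, v2, v3, v4, v5, v6, v7, v8, v9, v10⟩ := hv
  obtain ⟨w1, w2, w3, w4, w5, w6, w7, w8, w9, w10⟩ := hw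
  have hss := mul_self_of_order_two hs
  have htt := mul_self_of_order_two ht
  have h := T.orth hc
  rw [T.sum_eq, T.value385 hs, T.value385 ht] at h
  simp only [iv_spec _ hss, iv_spec _ htt, v1, v2, v3, v4, v5, v6, v7, v8, v9, v10,
    w1, w2, w3, w4, w5, w6, w7, w8, w9, w10, iv_triv, map_intCast, map_one] at h
  norm_num at h

theorem centralizer_three (hn : Nat.card G = 443520) (T : Tab G) {x : G} (hx : orderOf x = 3) :
    ∃ m, cC x = 9 * m ∧ m ∣ 128 := by
  haveI : Fact (Nat.Prime 3) := ⟨Nat.prime_three⟩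
  have hno : ∀ p : ℕ, p = 5 ∨ p = 7 ∨ p = 11 → p.Prime → ¬ p ∣ cC x := fun p hp hpp h => by
    haveI := Fact.mk hpp
    obtain ⟨w, hw⟩ := exists_prime_orderOf_dvd_card' (G := Subgroup.centralizer ({x} : Set G)) p h
    have hwo : orderOf (w : G) = p := by rw [Subgroup.orderOf_coe]; exact hw
    have h1 : 3 ∣ cC (w : G) := by
      rw [cC, ← hx]
      exact Subgroup.orderOf_dvd_natCard _
        (Subgroup.mem_centralizer_singleton_iff.mpr (Subgroup.mem_centralizer_singleton_iff.mp w.2).symm)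
    rw [T.self_cent p hp _ hwo] at h1
    rcases hp with rfl | rfl | rfl <;> norm_num at h1
  have h := cC_dvd hn x
  have h5 := (Nat.prime_five.coprime_iff_not_dvd.mpr (hno 5 (by simp) Nat.prime_five)).symm
  have h7 := ((Nat.Prime.coprime_iff_not_dvd (by norm_num : Nat.Prime 7)).mpr
    (hno 7 (by simp) (by norm_num))).symm
  have h11 := ((Nat.Prime.coprime_iff_not_dvd (by norm_num : Nat.Prime 11)).mpr
    (hno 11 (by simp) (by norm_num))).symm
  have h1152 : cC x ∣ 1152 :=
    (h5.mul_right (h7.mul_right h11)).dvd_of_dvd_mul_left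
      (show cC x ∣ 5 * (7 * 11) * 1152 by norm_num; exact h)
  -- an abelian Sylow subgroup of order `9` centralises `x`
  have hle : IsPGroup 3 (Subgroup.zpowers x) := IsPGroup.of_card (n := 1) (by rw [Nat.card_zpowers, hx, pow_one])
  obtain ⟨S, hS⟩ := hle.exists_le_sylow
  have hS9 : Nat.card (S : Subgroup G) = 3 ^ 2 := by
    rw [S.card_eq_multiplicity, hn]
    congr 1
    rw [show (443520 : ℕ) = 3 ^ 2 * 49280 by norm_num,
      Nat.factorization_mul (by norm_num) (by norm_num), Finsupp.add_apply, Nat.Prime.factorization_pow Nat.prime_three,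
      Finsupp.single_eq_same, Nat.factorization_eq_zero_of_not_dvd (by norm_num)]
  have hxS : x ∈ (S : Subgroup G) := hS (Subgroup.mem_zpowers x)
  have h9 : 9 ∣ cC x := by
    have hle' : (S : Subgroup G) ≤ Subgroup.centralizer ({x} : Set G) := fun a ha =>
      Subgroup.mem_centralizer_singleton_iff.mpr (congrArg Subtype.val
        ((IsPGroup.commGroupOfCardEqPrimeSq hS9).mul_comm ⟨a, ha⟩ ⟨x, hxS⟩))
    have h' := Subgroup.card_dvd_of_le hle'
    rw [hS9] at h'
    exact h'
  obtain ⟨m, hm⟩ := h9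
  refine ⟨m, hm, ?_⟩
  rw [hm, show (1152 : ℕ) = 9 * 128 by norm_num] at h1152
  exact Nat.dvd_of_mul_dvd_mul_left (by norm_num) h1152

/-- The two possible columns at elements of order `3`. -/
theorem Tab.three_cases (T : Tab G) (hn : Nat.card G = 443520) {x : G} (hx : orderOf x = 3) :
    (T.a45 : G → ℂ) x = 0 ∧ (T.b45 : G → ℂ) x = 0 ∧ (T.c55 : G → ℂ) x = 1 ∧ (T.c99 : G → ℂ) x = 0 ∧
      (T.c385 : G → ℂ) x = -2 ∧ (T.c154 : G → ℂ) x = 1 ∧ (T.a280 : G → ℂ) x = 1 ∧ (T.b280 : G → ℂ) x = 1 ∧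
      ((cC x = 9 ∧ (T.c21 : G → ℂ) x = 0 ∧ (T.c210 : G → ℂ) x = 0 ∧ (T.c231 : G → ℂ) x = 0) ∨
        (cC x = 36 ∧ (T.c21 : G → ℂ) x = 3 ∧ (T.c210 : G → ℂ) x = 3 ∧ (T.c231 : G → ℂ) x = -3)) := by
  haveI : Fact (Nat.Prime 3) := ⟨Nat.prime_three⟩
  have hvan : ∀ χ : IrrCharacter G, 9 ∣ deg χ → (χ : G → ℂ) x = 0 := fun χ hd =>
    Char.defect_zero_vanish χ.2 (p := 3) (n := 2) (d := deg χ) (value_one' χ) (by rw [hn]; norm_num)
      (by rw [hn]; norm_num) (by norm_num; exact hd) (by rw [hx])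
  have a0 := hvan T.a45 (by rw [T.d45a]; norm_num)
  have b0 := hvan T.b45 (by rw [T.d45b]; norm_num)
  have n0 := hvan T.c99 (by rw [T.d99]; norm_num)
  have f1 : (T.c55 : G → ℂ) x = 1 := by
    have h := T.rel7 x (by rw [hx]; norm_num)
    rw [a0, n0] at h
    linear_combination h
  have huniq : ∀ (χ : IrrCharacter G) (d : ℕ), deg χ = d →
      ([1, 21, 45, 45, 55, 99, 154, 210, 231, 280, 280, 385] : List ℕ).count d = 1 →
      (χ : G → ℂ) x = iv χ x := fun χ d hd hc => T.int_of_unique (by rw [T.d_lookup, hd]; exact hc) x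
  have i21 := huniq T.c21 21 T.d21 rfl
  have i154 := huniq T.c154 154 T.d154 rfl
  have i210 := huniq T.c210 210 T.d210 rfl
  have i231 := huniq T.c231 231 T.d231 rfl
  have i385 := huniq T.c385 385 T.d385 rfl
  obtain ⟨a, ha⟩ : ∃ a, a = iv T.c21 x := ⟨_, rfl⟩
  obtain ⟨b, hb⟩ : ∃ b, b = iv T.c154 x := ⟨_, rfl⟩
  obtain ⟨c, hc⟩ : ∃ c, c = iv T.c210 x := ⟨_, rfl⟩
  obtain ⟨u, hu⟩ : ∃ u, u = iv T.c231 x := ⟨_, rfl⟩
  obtain ⟨r, hr⟩ : ∃ r, r = iv T.c385 x := ⟨_, rfl⟩
  rw [← ha] at i21; rw [← hb] at i154; rw [← hc] at i210; rw [← hu] at i231; rw [← hr] at i385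
  have hu' : u = b - 1 - a := by
    have h := T.rel5 x (by rw [hx]; norm_num)
    rw [i21, n0, i154, i231] at h
    have h' : ((1 + a - 0 - b + u : ℤ) : ℂ) = ((0 : ℤ) : ℂ) := by push_cast; exact h
    have := Int.cast_injective h'
    omega
  have wA : (T.a280 : G → ℂ) x = ((1 - a + c : ℤ) : ℂ) := by
    rw [T.relA x (by rw [hx]; norm_num), i21, a0, b0, i210]; push_cast; ring
  have wB : (T.b280 : G → ℂ) x = ((1 - a + c : ℤ) : ℂ) := by
    rw [T.relB x (by rw [hx]; norm_num), i21, a0, b0, i210]; push_cast; ring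
  have hx1 : x ≠ 1 := fun h => by rw [h, orderOf_one] at hx; omega
  -- congruences
  have hmod : ∀ (χ : IrrCharacter G) (A : ℤ), (χ : G → ℂ) x = A → (3 : ℤ) ∣ (deg χ : ℤ) + 2 * A := by
    intro χ A hA
    obtain ⟨K, hK⟩ := M12Order.exists_nat_sum_subgroup (Char.isCharacter_of_isIrr χ.2) (Subgroup.zpowers x)
    rw [Nat.card_zpowers, hx] at hK
    have hne : ∀ w : Subgroup.zpowers x, w ≠ 1 → (χ : G → ℂ) (w : G) = A := fun w hw => by
      obtain ⟨i, hi⟩ := Subgroup.mem_zpowers_iff.mp w.2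
      have hi' : x ^ (i % 3) = (w : G) := by rw [← hi, ← zpow_mod_orderOf x i, hx]; norm_num
      rcases (show i % 3 = 0 ∨ i % 3 = 1 ∨ i % 3 = 2 by omega) with e | e | e <;> rw [e] at hi'
      · exact absurd (Subtype.ext (by rw [← hi', zpow_zero]; rfl)) hw
      · rw [← hi', zpow_one, hA]
      · rw [← hi', show x ^ (2 : ℤ) = x⁻¹ by
          rw [eq_inv_iff_mul_eq_one, show (2 : ℤ) = ((2 : ℕ) : ℤ) from rfl, zpow_natCast, ← pow_succ,
            show 2 + 1 = orderOf x by omega, pow_orderOf_eq_one],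
          Char.value_inv_eq_conj (Char.isCharacter_of_isIrr χ.2), hA, map_intCast]
    rw [← Finset.add_sum_erase _ _ (Finset.mem_univ (1 : Subgroup.zpowers x)),
      Finset.sum_congr rfl (g := fun _ => (A : ℂ)) (fun (w : Subgroup.zpowers x) hw =>
        hne w (Finset.ne_of_mem_erase hw)), Finset.sum_const, Finset.card_erase_of_mem (Finset.mem_univ _),
      Finset.card_univ, ← Nat.card_eq_fintype_card, Nat.card_zpowers, hx, Subgroup.coe_one, value_one',
      nsmul_eq_mul] at hK
    refine ⟨K, Int.cast_injective (α := ℂ) ?_⟩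
    push_cast at hK ⊢
    linear_combination hK
  have ma := hmod _ _ i21
  have mb := hmod _ _ i154
  have mc := hmod _ _ i210
  rw [T.d21] at ma; rw [T.d154] at mb; rw [T.d210] at mc
  push_cast at ma mb mc
  -- orthogonality to `1` and to an involution
  haveI : Fact (Nat.Prime 11) := ⟨by norm_num⟩
  haveI : Fact (Nat.Prime 5) := ⟨by norm_num⟩
  haveI : Fact (Nat.Prime 7) := ⟨by norm_num⟩
  obtain ⟨t, ht, -⟩ := exists_two_central hn
  obtain ⟨-, hvt⟩ := T.invol t ht
  simp only [List.cons.injEq, and_true] at hvt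
  obtain ⟨v1, v2, v3, v4, v5, v6, v7, v8, v9, v10⟩ := hvt
  have htt := mul_self_of_order_two ht
  have hO1 := T.orth (g := x) (h := 1) fun h => hx1 (isConj_one_left.mp h)
  rw [T.sum_eq] at hO1
  simp only [value_one', map_natCast, T.d21, T.d45a, T.d45b, T.d55, T.d99, T.d154, T.d210, T.d231, T.d280a,
    T.d280b, T.d385, deg_triv, i21, a0, b0, f1, n0, i154, i210, i231, wA, wB, i385] at hO1
  have htriv : (Blocks.trivIrr G : G → ℂ) x = 1 := by simp [Blocks.trivIrr]
  rw [htriv] at hO1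
  have e1 : 1 + 21 * a + 55 + 154 * b + 210 * c + 231 * u + 560 * (1 - a + c) + 385 * r = 0 := by
    apply Int.cast_injective (α := ℂ)
    push_cast at hO1 ⊢
    linear_combination hO1
  have hO2 := T.orth (g := x) (h := t) fun h => by
    obtain ⟨w, hw⟩ := isConj_iff.mp h
    have := congrArg orderOf hw
    rw [show orderOf (w * x * w⁻¹) = orderOf x from (MulAut.conj w).orderOf_eq x, hx, ht] at this
    omega
  rw [T.sum_eq, T.value385 ht] at hO2
  simp only [iv_spec _ htt, v1, v2, v3, v4, v5, v6, v7, v8, v9, v10, iv_triv, map_intCast, map_one,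
    i21, a0, b0, f1, n0, i154, i210, i231, wA, wB, i385, htriv] at hO2
  have e2 : 1 + 5 * a + 7 + 10 * b + 2 * c + 7 * u - 16 * (1 - a + c) + r = 0 := by
    apply Int.cast_injective (α := ℂ)
    push_cast at hO2 ⊢
    linear_combination hO2
  -- the norm
  have hN := T.norm_eq x
  rw [T.sum_eq] at hN
  simp only [i21, a0, b0, f1, n0, i154, i210, i231, wA, wB, i385, htriv, map_intCast, map_one, map_zero] at hN
  have e3 : 2 + a * a + b * b + c * c + u * u + 2 * ((1 - a + c) * (1 - a + c)) + r * r = (cC x : ℤ) := by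
    apply Int.cast_injective (α := ℂ)
    push_cast at hN ⊢
    linear_combination hN
  obtain ⟨m, hm, hm128⟩ := centralizer_three hn T hx
  obtain ⟨i, hi, rfl⟩ := (Nat.dvd_prime_pow Nat.prime_two).mp (show m ∣ 2 ^ 7 by norm_num; exact hm128)
  have hc9 : (cC x : ℤ) ∈ ([9, 18, 36, 72, 144, 288, 576, 1152] : List ℤ) := by
    rw [hm]
    interval_cases i <;> norm_num
  have hle : (cC x : ℤ) ≤ 1152 := by
    simp only [List.mem_cons, List.not_mem_nil, or_false] at hc9
    omega
  have bA : ∀ A : ℤ, A * A ≤ 1152 → -33 ≤ A ∧ A ≤ 33 := fun A h => by constructor <;> nlinarith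
  have hnn := fun A : ℤ => mul_self_nonneg A
  obtain ⟨a1, a2⟩ := bA a (by linarith [hnn b, hnn c, hnn u, hnn (1 - a + c), hnn r])
  obtain ⟨b1, b2⟩ := bA b (by linarith [hnn a, hnn c, hnn u, hnn (1 - a + c), hnn r])
  obtain ⟨c1, c2⟩ := bA c (by linarith [hnn a, hnn b, hnn u, hnn (1 - a + c), hnn r])
  -- the class multiplication constant
  have hT : (0 : ℤ) ≤ 18480 + 880 * (a * a * a) + 336 + 120 * (b * b * b) + 88 * (c * c * c) + 80 * (u * u * u) +
      132 * ((1 - a + c) * (1 - a + c) * (1 - a + c)) + 48 * (r * r * r) := by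
    have hnum := Char.class_mult x x x
    rw [T.sum_eq] at hnum
    simp only [value_one', T.d21, T.d45a, T.d45b, T.d55, T.d99, T.d154, T.d210, T.d231, T.d280a, T.d280b, T.d385,
      deg_triv, i21, a0, b0, f1, n0, i154, i210, i231, wA, wB, i385, htriv, map_intCast, map_one, map_zero] at hnum
    generalize Nat.card {p : G × G // IsConj x p.1 ∧ IsConj x p.2 ∧ p.1 * p.2 = x} = N at hnum
    generalize hidx : (Subgroup.centralizer ({x} : Set G)).index = J at hnum
    have hJ : 0 < J := hidx ▸ Nat.pos_of_ne_zero Subgroup.index_ne_zero_of_finite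
    rw [hn] at hnum
    have h : ((N * (443520 * 18480) : ℕ) : ℤ) = ((J * J : ℕ) : ℤ) * (18480 + 880 * (a * a * a) + 336 +
        120 * (b * b * b) + 88 * (c * c * c) + 80 * (u * u * u) +
        132 * ((1 - a + c) * (1 - a + c) * (1 - a + c)) + 48 * (r * r * r)) := by
      apply Int.cast_injective (α := ℂ)
      push_cast at hnum ⊢
      rw [hnum]
      field_simp
      ring
    have hp : (0 : ℤ) < ((J * J : ℕ) : ℤ) := by exact_mod_cast Nat.mul_pos hJ hJ
    exact (mul_nonneg_iff_of_pos_left hp).mp (h ▸ Int.natCast_nonneg _)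
  have hr' : r = -(8 + 5 * a + 10 * b + 2 * c + 7 * u - 16 * (1 - a + c)) := by omega
  obtain ⟨i', hi'⟩ : ∃ i' : ℕ, a = 3 * (i' : ℤ) - 33 := ⟨((a + 33) / 3).toNat, by omega⟩
  obtain ⟨j', hj'⟩ : ∃ j' : ℕ, b = 3 * (j' : ℤ) - 32 := ⟨((b + 32) / 3).toNat, by omega⟩
  obtain ⟨l', hl'⟩ : ∃ l' : ℕ, c = 3 * (l' : ℤ) - 33 := ⟨((c + 33) / 3).toNat, by omega⟩
  have hOK : threeOK (3 * (i' : ℤ) - 33) (3 * (j' : ℤ) - 32) (3 * (l' : ℤ) - 33) = true := by
    rw [← hi', ← hj', ← hl']
    have hrow : threeRow a b c = [1, a, 1, b, c, u, 1 - a + c, 1 - a + c, r] := by rw [threeRow, hr', hu']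
    simp only [threeOK, hrow, threeDegs, Bool.and_eq_true, decide_eq_true_eq, List.contains_iff_mem,
      List.zipWith_cons_cons, List.zipWith_nil_left, List.sum_cons, List.sum_nil, List.map_cons, List.map_nil]
    refine ⟨⟨by linarith, ?_⟩, by norm_num; linarith⟩
    convert hc9 using 1
    linarith
  rcases key_three (i := i') (j := j') (l := l') (by omega) (by omega) (by omega) hOK with e | e <;>
    obtain ⟨rfl, rfl, rfl⟩ := e <;> norm_num at hi' hj' hl' <;>
    subst hi' hj' hl'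
  · norm_num at hu'
    subst hu'
    norm_num at hr'
    subst hr'
    refine ⟨a0, b0, f1, n0, by rw [i385]; norm_num, by rw [i154]; norm_num, by rw [wA]; norm_num,
      by rw [wB]; norm_num, Or.inl ⟨?_, by rw [i21]; norm_num, by rw [i210]; norm_num, by rw [i231]; norm_num⟩⟩
    norm_num at e3
    exact_mod_cast e3.symm
  · norm_num at hu'
    subst hu'
    norm_num at hr'
    subst hr'
    refine ⟨a0, b0, f1, n0, by rw [i385]; norm_num, by rw [i154]; norm_num, by rw [wA]; norm_num,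
      by rw [wB]; norm_num, Or.inr ⟨?_, by rw [i21]; norm_num, by rw [i210]; norm_num, by rw [i231]; norm_num⟩⟩
    norm_num at e3
    exact_mod_cast e3.symm

/-- An element of order `3` commuting with an involution exists. -/
theorem exists_three_even (hn : Nat.card G = 443520) (T : Tab G) :
    ∃ x : G, orderOf x = 3 ∧ cC x = 36 ∧ (T.c21 : G → ℂ) x = 3 ∧ (T.c210 : G → ℂ) x = 3 ∧
      (T.c231 : G → ℂ) x = -3 := by
  haveI : Fact (Nat.Prime 3) := ⟨Nat.prime_three⟩
  haveI : Fact (Nat.Prime 11) := ⟨by norm_num⟩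
  haveI : Fact (Nat.Prime 5) := ⟨by norm_num⟩
  haveI : Fact (Nat.Prime 7) := ⟨by norm_num⟩
  obtain ⟨t, ht, -⟩ := exists_two_central hn
  obtain ⟨w, hw⟩ := exists_prime_orderOf_dvd_card' (G := Subgroup.centralizer ({t} : Set G)) 3
    (show 3 ∣ cC t by rw [(T.invol t ht).1]; norm_num)
  have hwo : orderOf (w : G) = 3 := by rw [Subgroup.orderOf_coe]; exact hw
  have h2 : 2 ∣ cC (w : G) := by
    rw [cC, ← ht]
    exact Subgroup.orderOf_dvd_natCard _
      (Subgroup.mem_centralizer_singleton_iff.mpr (Subgroup.mem_centralizer_singleton_iff.mp w.2).symm)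
  obtain ⟨-, -, -, -, -, -, -, -, h | ⟨hc, h⟩⟩ := T.three_cases hn hwo
  · rw [h.1] at h2; norm_num at h2
  · exact ⟨w, hwo, hc, h⟩

theorem Tab.three_conj_aux (T : Tab G) (hn : Nat.card G = 443520) {x₀ : G} (h₀ : orderOf x₀ = 3)
    (v21 : (T.c21 : G → ℂ) x₀ = 3) (v210 : (T.c210 : G → ℂ) x₀ = 3) (v231 : (T.c231 : G → ℂ) x₀ = -3) {y : G}
    (hy : orderOf y = 3) : IsConj x₀ y := by
  by_contra hc
  have h := T.orth hc
  rw [T.sum_eq] at h
  obtain ⟨p1, p2, p3, p4, p5, p6, p7, p8, -⟩ := T.three_cases hn h₀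
  obtain ⟨q1, q2, q3, q4, q5, q6, q7, q8, h'⟩ := T.three_cases hn hy
  have ht : ∀ g : G, (Blocks.trivIrr G : G → ℂ) g = 1 := fun g => by simp [Blocks.trivIrr]
  rcases h' with ⟨-, r1, r2, r3⟩ | ⟨-, r1, r2, r3⟩ <;>
  · rw [ht, ht, p1, p2, p3, p4, p5, p6, p7, p8, v21, v210, v231, q1, q2, q3, q4, q5, q6, q7, q8, r1, r2, r3] at h
    simp only [map_one, map_zero, map_neg, map_ofNat] at h
    norm_num at h

theorem card_six_eq (T : Tab G) {t x : G} (ht : orderOf t = 2) (hx : orderOf x = 3) (hc : Commute t x)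
    (h36 : cC x = 36) :
    Nat.card ↥(Subgroup.centralizer ({t} : Set G) ⊓ Subgroup.centralizer ({x} : Set G)) = 12 := by
  haveI : Fact (Nat.Prime 2) := ⟨Nat.prime_two⟩
  obtain ⟨D, hD⟩ : ∃ D, D = Subgroup.centralizer ({t} : Set G) ⊓ Subgroup.centralizer ({x} : Set G) := ⟨_, rfl⟩
  rw [← hD]
  have htX : t ∈ Subgroup.centralizer ({x} : Set G) := Subgroup.mem_centralizer_singleton_iff.mpr hc
  obtain ⟨C, hC⟩ : ∃ C, C = Subgroup.centralizer ({x} : Set G) := ⟨_, rfl⟩
  have hcard : Nat.card C = 36 := by rw [hC]; exact h36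
  have htC : t ∈ C := hC ▸ htX
  obtain ⟨W, hW⟩ := (IsPGroup.of_card (n := 1) (G := Subgroup.zpowers (⟨t, htC⟩ : C)) (p := 2) (by
    rw [Nat.card_zpowers, Subgroup.orderOf_mk, ht, pow_one])).exists_le_sylow
  have hW4 : Nat.card (W : Subgroup C) = 2 ^ 2 := by
    rw [W.card_eq_multiplicity, hcard]
    congr 1
    rw [show (36 : ℕ) = 2 ^ 2 * 9 by norm_num, Nat.factorization_mul (by norm_num) (by norm_num),
      Finsupp.add_apply, Nat.Prime.factorization_pow Nat.prime_two, Finsupp.single_eq_same,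
      Nat.factorization_eq_zero_of_not_dvd (by norm_num)]
  have hWD : (W : Subgroup C).map C.subtype ≤ D := by
    rintro _ ⟨w, hw, rfl⟩
    rw [hD]
    refine Subgroup.mem_inf.mpr ⟨Subgroup.mem_centralizer_singleton_iff.mpr ?_, hC ▸ w.2⟩
    exact congrArg Subtype.val (congrArg Subtype.val ((IsPGroup.commGroupOfCardEqPrimeSq hW4).mul_comm
      ⟨w, hw⟩ ⟨⟨t, htC⟩, hW (Subgroup.mem_zpowers _)⟩))
  have h4 : 4 ∣ Nat.card D := by
    have h := Subgroup.card_dvd_of_le hWD
    rwa [Nat.card_congr ((W : Subgroup C).equivMapOfInjective _ C.subtype_injective).toEquiv.symm, hW4] at h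
  have h3 : 3 ∣ Nat.card D := by
    rw [← hx]
    refine Subgroup.orderOf_dvd_natCard _ ?_
    rw [hD]
    exact Subgroup.mem_inf.mpr ⟨Subgroup.mem_centralizer_singleton_iff.mpr hc.symm,
      Subgroup.mem_centralizer_singleton_iff.mpr rfl⟩
  have h12 : 12 ∣ Nat.card D := Nat.Coprime.mul_dvd_of_dvd_of_dvd (by norm_num : Nat.Coprime 4 3) h4 h3
  have hd36 : Nat.card D ∣ 36 := by
    have h := Subgroup.card_dvd_of_le (show D ≤ Subgroup.centralizer ({x} : Set G) from hD ▸ inf_le_right)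
    rwa [show Nat.card (Subgroup.centralizer ({x} : Set G)) = 36 from h36] at h
  have hd384 : Nat.card D ∣ 384 := by
    have h := Subgroup.card_dvd_of_le (show D ≤ Subgroup.centralizer ({t} : Set G) from hD ▸ inf_le_left)
    rwa [show Nat.card (Subgroup.centralizer ({t} : Set G)) = 384 from (T.invol t ht).1] at h
  exact Nat.dvd_antisymm (by simpa using Nat.dvd_gcd hd384 hd36) h12

/-- **The facts on centralisers in a simple group of order 443520.** -/
theorem facts_of_card {G : Type u} [Group G] [Finite G] [IsSimpleGroup G] (hn : Nat.card G = 443520) :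
    Facts G := by
  haveI := Fintype.ofFinite G
  haveI : Fact (Nat.Prime 11) := ⟨by norm_num⟩
  haveI : Fact (Nat.Prime 5) := ⟨by norm_num⟩
  haveI : Fact (Nat.Prime 7) := ⟨by norm_num⟩
  obtain ⟨T⟩ := exists_tab (G := G) hn
  obtain ⟨x₀, h₀, hc₀, v21, v210, v231⟩ := exists_three_even hn T
  have h36 : ∀ x : G, orderOf x = 3 → cC x = 36 := fun x hx => by
    obtain ⟨c, hc⟩ := isConj_iff.mp (T.three_conj_aux hn h₀ v21 v210 v231 hx)
    rw [← hc, cC_conj, hc₀]
  refine ⟨hn, fun s t hs ht => T.invol_conj hs ht, fun t ht => (T.invol t ht).1,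
    fun x y hx hy => (T.three_conj_aux hn h₀ v21 v210 v231 hx).symm.trans (T.three_conj_aux hn h₀ v21 v210 v231 hy),
    h36, fun t x ht hx hc => card_six_eq T ht hx hc (h36 x hx), fun Q hQ hel => ?_,
    fun y hy => T.self_cent 5 (Or.inl rfl) y hy⟩
  obtain ⟨K, hK⟩ := M12Order.exists_nat_sum_subgroup (Char.isCharacter_of_isIrr T.c21.2) Q
  rw [hQ, ← Finset.add_sum_erase _ _ (Finset.mem_univ (1 : Q)),
    Finset.sum_congr rfl (g := fun _ => (5 : ℂ)) (fun (w : Q) hw => ?_), Finset.sum_const,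
    Finset.card_erase_of_mem (Finset.mem_univ _), Finset.card_univ, ← Nat.card_eq_fintype_card, hQ,
    Subgroup.coe_one, value_one', T.d21] at hK
  · have h : ((336 : ℕ) : ℂ) = ((64 * K : ℕ) : ℂ) := by
      push_cast
      norm_num at hK
      linear_combination hK
    have := Nat.cast_injective h
    omega
  · have hw1 : (w : G) ≠ 1 := fun e => Finset.ne_of_mem_erase hw (Subtype.ext e)
    have hwo : orderOf (w : G) = 2 := orderOf_eq_prime (by rw [pow_two, hel _ w.2]) hw1
    obtain ⟨-, hv⟩ := T.invol _ hwo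
    simp only [List.cons.injEq] at hv
    rw [iv_spec _ (mul_self_of_order_two hwo), hv.1]
    norm_num

end CfsgLib.M22Order
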