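import Cfsg.Agent.Lib.M22Order.Facts
import Cfsg.Agent.Lib.M23Order.Points
import Cfsg.Agent.Lib.SmallOrder.PrimeDegree
import Cfsg.Agent.Lib.Golay.MathieuFacts
import Cfsg.Prelude.Def_Spor_Mathieu

/-!
# A group with the order and the element-order counts of M22 is simple
-/

set_option autoImplicit false
set_option linter.unusedSectionVars false
set_option linter.style.haveILetI false

namespace CfsgLib.M22Order.Counts

open Cfsg CfsgLib CfsgLib.M23Order

universe u

/-- The Sylow `11`-subgroups have order `11`. -/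
theorem card_sylow_eleven22 {G : Type u} [Group G] [Finite G] [Fact (Nat.Prime 11)] {m : ℕ}
    (hn : Nat.card G = 11 * m) (hm : ¬ 11 ∣ m) (P : Sylow 11 G) : Nat.card (P : Subgroup G) = 11 := by
  have h0 : m ≠ 0 := fun e => hm (e ▸ dvd_zero 11)
  rw [P.card_eq_multiplicity, hn, Nat.factorization_mul (by norm_num) h0, Finsupp.add_apply,
    Nat.Prime.factorization_self (by norm_num), Nat.factorization_eq_zero_of_not_dvd hm]
  rfl

/-- The centraliser of a cyclic subgroup is that of its generator. -/
theorem centralizer_zpowers_eq {G : Type u} [Group G] (v : G) :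
    Subgroup.centralizer (Subgroup.zpowers v : Set G) = Subgroup.centralizer ({v} : Set G) := by
  rw [Subgroup.zpowers_eq_closure, Subgroup.centralizer_closure]

/-- A group of order `443520` whose counts are among those of `M₁₂` is simple. -/
theorem isSimple_of_counts {G : Type u} [Group G] [Finite G] (hn : Nat.card G = 443520)
    (hc : ∀ n, 0 < Nat.card {g : G // orderOf g = n} → Nat.card {g : G // orderOf g = n} = 1 ∨
      Nat.card {g : G // orderOf g = n} = 80640 ∨ 11 ∣ Nat.card {g : G // orderOf g = n}) :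
    IsSimpleGroup G := by
  classical
  haveI : Fact (Nat.Prime 11) := ⟨by norm_num⟩
  haveI : Nontrivial G := Finite.one_lt_card_iff_nontrivial.mp (by rw [hn]; norm_num)
  have hG11 := card_sylow_eleven22 (G := G) (m := 40320) (hn.trans (by norm_num)) (by norm_num)
  have hcount := SmallOrder.card_orderOf_eq_prime hG11
  have hmod := card_sylow_modEq_one 11 G
  unfold Nat.ModEq at hmod
  have hpos : 0 < Nat.card (Sylow 11 G) := Nat.card_pos
  have hn11 : Nat.card (Sylow 11 G) = 8064 := by
    rcases hc 11 (by rw [hcount]; omega) with e | e | e <;> rw [hcount] at e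
    · omega
    · omega
    · exfalso; obtain ⟨k, hk⟩ := e; omega
  -- the normaliser of a subgroup of order `11`
  have hcent : ∀ v : G, orderOf v = 11 → Nat.card (Subgroup.centralizer ({v} : Set G)) ∣ 55 := by
    intro v hv
    obtain ⟨P, hP⟩ := (IsPGroup.of_card (n := 1) (p := 11)
      (by rw [Nat.card_zpowers, hv, pow_one] : Nat.card (Subgroup.zpowers v) = 11 ^ 1)).exists_le_sylow
    have heq : Subgroup.zpowers v = (P : Subgroup G) := Subgroup.eq_of_le_of_card_ge hP (by
      rw [hG11 P, Nat.card_zpowers, hv])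
    have hN : Nat.card (Subgroup.normalizer ((P : Subgroup G) : Set G)) = 55 := by
      have h := Subgroup.card_mul_index (Subgroup.normalizer ((P : Subgroup G) : Set G))
      rw [show (Subgroup.normalizer ((P : Subgroup G) : Set G)).index = 8064 from
        P.card_eq_index_normalizer.symm.trans hn11, hn] at h
      omega
    rw [← hN]
    refine Subgroup.card_dvd_of_le fun g hg => ?_
    rw [← centralizer_zpowers_eq v, heq] at hg
    exact Subgroup.centralizer_le_normalizer _ hg
  -- every nontrivial normal subgroup has order divisible by `11`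
  have hdvd : ∀ M : Subgroup G, M.Normal → M ≠ ⊥ → 11 ∣ Nat.card M := by
    intro M hM hMb
    by_contra hM11
    haveI := hM
    have hkey : ∀ p, p.Prime → p ∣ Nat.card M →
        ∃ R₀ : Sylow p M, p = 5 ∧ Nat.card ((R₀ : Subgroup M).map M.subtype) = 5 := by
     intro p hp hpM
     haveI : Fact p.Prime := ⟨hp⟩
     obtain ⟨R₀⟩ := (inferInstance : Nonempty (Sylow p M))
     refine ⟨R₀, ?_⟩
     set R : Subgroup G := (R₀ : Subgroup M).map M.subtype with hR
     have hRc : Nat.card R = Nat.card (R₀ : Subgroup M) := Subgroup.card_map_of_injective M.subtype_injective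
     have hRM : R ≤ M := Subgroup.map_subtype_le _
     have hsup := Sylow.normalizer_sup_eq_top R₀
     have h11N : 11 ∣ Nat.card (Subgroup.normalizer (R : Set G)) := by
       have h1 := Subgroup.relIndex_sup_right (H := Subgroup.normalizer (R : Set G)) (K := M)
       rw [show Subgroup.normalizer (R : Set G) ⊔ M = ⊤ from hsup, Subgroup.relIndex_top_right] at h1
       have h3 : 11 ∣ Nat.card M * M.index := by rw [M.card_mul_index, hn]; norm_num
       rcases (Nat.Prime.dvd_mul (by norm_num)).mp h3 with h | h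
       · exact absurd h hM11
       · exact (h1 ▸ h).trans (Subgroup.relIndex_dvd_card M _)
     obtain ⟨v, hv⟩ := exists_prime_orderOf_dvd_card' (G := Subgroup.normalizer (R : Set G)) 11 h11N
     have hvG : orderOf (v : G) = 11 := by rw [Subgroup.orderOf_coe, hv]
     obtain ⟨k, hk⟩ := IsPGroup.iff_card.mp R₀.2
     rw [← hRc] at hk
     have hk1 : 1 ≤ k := by
       by_contra h0
       have := R₀.dvd_card_of_dvd_card hpM
       rw [← hRc, hk, show k = 0 by omega, pow_zero] at this
       exact hp.ne_one (Nat.dvd_one.mp this)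
     have hRdvd : p ^ k ∣ 443520 := by rw [← hk, ← hn]; exact Subgroup.card_subgroup_dvd_card R
     -- the fixed points
     let f : Function.End R := fun r => ⟨(v : G) * r * (v : G)⁻¹,
       (Subgroup.mem_normalizer_iff.mp v.2 r).mp r.2⟩
     have hiter : ∀ i (r : R), ((f^[i]) r : G) = (v : G) ^ i * r * ((v : G) ^ i)⁻¹ := by
       intro i
       induction i with
       | zero => intro r; show (r : G) = _; simp
       | succ i ih =>
         intro r
         rw [Function.iterate_succ_apply']
         show (v : G) * (f^[i] r : G) * (v : G)⁻¹ = _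
         rw [ih, pow_succ']
         group
     letI : Fintype R := Fintype.ofFinite R
     have hfix := Equiv.Perm.card_fixedPoints_modEq (α := R) (f := f) (p := 11) (n := 1) (by
       funext r
       refine Subtype.ext ?_
       show ((f^[11 ^ 1]) r : G) = (r : G)
       rw [pow_one, hiter, ← hvG, pow_orderOf_eq_one, one_mul, inv_one, mul_one])
     simp only [← Nat.card_eq_fintype_card] at hfix
     have hF : Nat.card (R ⊓ Subgroup.centralizer ({(v : G)} : Set G) : Subgroup G) =
         Nat.card {r : R // f r = r} := Nat.card_congr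
       { toFun := fun r => ⟨⟨r.1, r.2.1⟩, Subtype.ext (mul_inv_eq_iff_eq_mul.mpr (mem_cen.mp r.2.2).symm)⟩
         invFun := fun r => ⟨r.1.1, r.1.2, mem_cen.mpr (mul_inv_eq_iff_eq_mul.mp (congrArg Subtype.val r.2)).symm⟩
         left_inv := fun _ => rfl
         right_inv := fun _ => rfl }
     have hF55 := (Subgroup.card_dvd_of_le (inf_le_right : R ⊓ Subgroup.centralizer ({(v : G)} : Set G) ≤ _)).trans
       (hcent _ hvG)
     have hFp := hk ▸ Subgroup.card_dvd_of_le (inf_le_left : R ⊓ Subgroup.centralizer ({(v : G)} : Set G) ≤ R)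
     have hfix' : p ^ k % 11 = Nat.card (R ⊓ Subgroup.centralizer ({(v : G)} : Set G) : Subgroup G) % 11 := by
       rw [hF, ← hk]; exact hfix
     have hple : p = 2 ∨ p = 3 ∨ p = 5 ∨ p = 7 := by
       have h := (dvd_pow_self p (by omega : k ≠ 0)).trans hRdvd
       rw [show (443520 : ℕ) = 2 ^ 7 * (3 ^ 2 * (5 * (7 * 11))) by norm_num] at h
       rcases hp.dvd_mul.mp h with h | h
       · exact Or.inl ((Nat.prime_dvd_prime_iff_eq hp Nat.prime_two).mp (hp.dvd_of_dvd_pow h))
       rcases hp.dvd_mul.mp h with h | h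
       · exact Or.inr (Or.inl ((Nat.prime_dvd_prime_iff_eq hp Nat.prime_three).mp (hp.dvd_of_dvd_pow h)))
       rcases hp.dvd_mul.mp h with h | h
       · exact Or.inr (Or.inr (Or.inl ((Nat.prime_dvd_prime_iff_eq hp (by norm_num)).mp h)))
       rcases hp.dvd_mul.mp h with h | h
       · exact Or.inr (Or.inr (Or.inr ((Nat.prime_dvd_prime_iff_eq hp (by norm_num)).mp h)))
       · exact absurd ((Nat.prime_dvd_prime_iff_eq hp (by norm_num)).mp h ▸ hpM) hM11
     obtain ⟨i, hi, hFi⟩ := (Nat.dvd_prime_pow hp).mp hFp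
     rw [hFi] at hfix' hF55
     have hk7 : k ≤ 7 := by
       by_contra h7
       have : p ^ 8 ∣ 443520 := (pow_dvd_pow p (by omega)).trans hRdvd
       rcases hple with rfl | rfl | rfl | rfl <;> norm_num at this
     have h5 : p = 5 ∧ k = 1 := by
       rcases hple with rfl | rfl | rfl | rfl <;> interval_cases k <;> (try norm_num at hRdvd) <;>
         interval_cases i <;> (try norm_num at hfix') <;> (try norm_num at hF55) <;> norm_num
     obtain ⟨rfl, rfl⟩ := h5
     exact ⟨rfl, hk.trans (pow_one _)⟩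
    -- a normal subgroup of order five
    obtain ⟨p, hp, hpM⟩ := Nat.exists_prime_and_dvd (n := Nat.card M) (fun h => hMb (M.eq_bot_of_card_eq h))
    obtain ⟨R₀, rfl, hk⟩ := hkey p hp hpM
    haveI : Fact (Nat.Prime 5) := ⟨hp⟩
    set R : Subgroup G := (R₀ : Subgroup M).map M.subtype with hR
    have hMR : M = R := by
      have htop : (R₀ : Subgroup M) = ⊤ := by
        rw [← Subgroup.index_eq_one]
        by_contra h1
        obtain ⟨q, hq, hqi⟩ := Nat.exists_prime_and_dvd h1
        obtain ⟨-, rfl, -⟩ := hkey q hq (hqi.trans (Subgroup.index_dvd_card _))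
        exact R₀.not_dvd_index hqi
      rw [hR, htop, ← MonoidHom.range_eq_map, Subgroup.range_subtype]
    have hnorm : (R : Subgroup G).Normal := hMR ▸ hM
    have hS5 : ∀ P : Sylow 5 G, Nat.card (P : Subgroup G) = 5 := fun P => by
      rw [P.card_eq_multiplicity, hn, show (443520 : ℕ) = 5 * 88704 by norm_num,
        Nat.factorization_mul (by norm_num) (by norm_num), Finsupp.add_apply,
        Nat.Prime.factorization_self (by norm_num), Nat.factorization_eq_zero_of_not_dvd (by norm_num)]
      rfl
    obtain ⟨P, hP⟩ := (IsPGroup.of_card (n := 1) (p := 5) (G := R) (by rw [hk, pow_one])).exists_le_sylow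
    haveI : (P : Subgroup G).Normal := by
      rw [← Subgroup.eq_of_le_of_card_ge hP (by rw [hS5, hk])]; exact hnorm
    haveI := P.unique_of_normal inferInstance
    have h4 := SmallOrder.card_orderOf_eq_prime hS5
    rw [Nat.card_unique (α := Sylow 5 G), one_mul] at h4
    rcases hc 5 (by rw [h4]; norm_num) with e | e | e <;> rw [h4] at e <;> norm_num at e
  refine ⟨fun M hM => ?_⟩
  by_contra hne
  push Not at hne
  obtain ⟨hMb, hMt⟩ := hne
  haveI := hM
  have h11 := hdvd M hM hMb
  -- all elements of order `11` lie in `M`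
  obtain ⟨w, hw⟩ := exists_prime_orderOf_dvd_card' (G := M) 11 h11
  have hall : ∀ g : G, orderOf g = 11 → g ∈ M := by
    intro g hg
    have hwG : orderOf (w : G) = 11 := by rw [Subgroup.orderOf_coe, hw]
    obtain ⟨P, hP⟩ := (IsPGroup.of_card (n := 1) (p := 11)
      (by rw [Nat.card_zpowers, hwG, pow_one] : Nat.card (Subgroup.zpowers (w : G)) = 11 ^ 1)).exists_le_sylow
    have hPM : (P : Subgroup G) ≤ M := by
      rw [← Subgroup.eq_of_le_of_card_ge hP (by rw [hG11 P, Nat.card_zpowers, hwG])]
      exact Subgroup.zpowers_le.mpr w.2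
    obtain ⟨R, hR⟩ := (IsPGroup.of_card (n := 1) (p := 11)
      (by rw [Nat.card_zpowers, hg, pow_one] : Nat.card (Subgroup.zpowers g) = 11 ^ 1)).exists_le_sylow
    obtain ⟨c, rfl⟩ := MulAction.exists_smul_eq G P R
    have hgR : g ∈ (((c • P : Sylow 11 G)) : Subgroup G) := hR (Subgroup.mem_zpowers g)
    rw [Sylow.coe_subgroup_smul, Subgroup.mem_smul_pointwise_iff_exists] at hgR
    obtain ⟨y, hy, rfl⟩ := hgR
    exact hM.conj_mem y (hPM hy) c
  have hMd : Nat.card M ∣ 443520 := hn ▸ Subgroup.card_subgroup_dvd_card M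
  obtain ⟨m, hm⟩ := h11
  have hm11 : ¬ 11 ∣ m := fun h => by
    have := (Nat.mul_dvd_mul_left 11 h).trans (hm ▸ hMd)
    norm_num at this
  have hM11c := card_sylow_eleven22 hm hm11
  have hMn : Nat.card (Sylow 11 M) = 8064 := by
    have h := SmallOrder.card_orderOf_eq_prime hM11c
    rw [show Nat.card {g : M // orderOf g = 11} = Nat.card {g : G // orderOf g = 11} from Nat.card_congr
      { toFun := fun g => ⟨g.1, by rw [Subgroup.orderOf_coe, g.2]⟩
        invFun := fun g => ⟨⟨g.1, hall g.1 g.2⟩, by rw [Subgroup.orderOf_mk, g.2]⟩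
        left_inv := fun _ => rfl
        right_inv := fun _ => rfl }, hcount, hn11] at h
    omega
  obtain ⟨P⟩ := (inferInstance : Nonempty (Sylow 11 M))
  set N := Subgroup.normalizer ((P : Subgroup M) : Set M) with hN
  have hNi : N.index = 8064 := P.card_eq_index_normalizer.symm.trans hMn
  have hNc := N.card_mul_index
  rw [hNi] at hNc
  have hPN : (P : Subgroup M) ≤ N := Subgroup.le_normalizer
  obtain ⟨j, hj⟩ := (hM11c P) ▸ Subgroup.card_dvd_of_le hPN
  have hMlt : Nat.card M ≠ 443520 := fun e => hMt (Subgroup.eq_top_of_card_eq M (e.trans hn.symm))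
  rw [← hNc, hj] at hMlt hMd
  have hj5 : j ∣ 5 := by
    rw [show (443520 : ℕ) = 11 * 8064 * 5 by norm_num, mul_right_comm] at hMd
    exact Nat.dvd_of_mul_dvd_mul_left (by norm_num) hMd
  rcases (Nat.dvd_prime (by norm_num : Nat.Prime 5)).mp hj5 with rfl | rfl
  swap
  · exact hMlt (by norm_num)
  have hNP : N = (P : Subgroup M) :=
    (Subgroup.eq_of_le_of_card_ge hPN (by rw [hM11c P, hj])).symm
  haveI : IsCyclic (P : Subgroup M) := isCyclic_of_prime_card (hM11c P)
  have hcomm : N ≤ Subgroup.centralizer ((P : Subgroup M) : Set M) := by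
    rw [hNP]
    intro a ha
    refine Subgroup.mem_centralizer_iff.mpr fun b hb => ?_
    letI := IsCyclic.commGroup (α := (P : Subgroup M))
    exact congrArg Subtype.val (mul_comm (⟨b, hb⟩ : (P : Subgroup M)) ⟨a, ha⟩)
  set τ := MonoidHom.transferSylow P hcomm with hτ
  have hc' := MonoidHom.ker_transferSylow_isComplement' P hcomm
  have hKc : Nat.card τ.ker * 11 = Nat.card M := by
    have h := hc'.card_mul
    rwa [hM11c P] at h
  have hK : Nat.card τ.ker = 8064 := by
    rw [← hNc, hj] at hKc
    omega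
  have hKn : (τ.ker.map M.subtype).Normal := by
    refine ⟨?_⟩
    rintro _ ⟨a, ha, rfl⟩ g
    refine ⟨⟨g * a * g⁻¹, hM.conj_mem a a.2 g⟩, MonoidHom.mem_ker.mpr ?_, rfl⟩
    set b : M := ⟨g * a * g⁻¹, hM.conj_mem a a.2 g⟩ with hb
    have ho : orderOf b ∣ 8064 := by
      rw [← hK, ← Subgroup.orderOf_coe b, show ((b : M) : G) = MulAut.conj g (a : G) from rfl,
        MulEquiv.orderOf_eq, Subgroup.orderOf_coe]
      exact Subgroup.orderOf_dvd_natCard _ ha
    have h1 : orderOf (τ b) ∣ 8064 := (orderOf_map_dvd τ b).trans ho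
    have h2 : orderOf (τ b) ∣ 11 := (orderOf_dvd_natCard (τ b)).trans (hM11c P).dvd
    exact orderOf_eq_one_iff.mp (Nat.dvd_one.mp (show orderOf (τ b) ∣ 1 from
      (Nat.dvd_gcd h1 h2).trans (by norm_num)))
  have hKb : τ.ker.map M.subtype ≠ ⊥ := fun e => by
    have := Subgroup.card_map_of_injective (K := τ.ker) (f := M.subtype) M.subtype_injective
    rw [e, Subgroup.card_bot, hK] at this
    norm_num at this
  have := hdvd _ hKn hKb
  rw [Subgroup.card_map_of_injective (K := τ.ker) (f := M.subtype) M.subtype_injective, hK] at this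
  norm_num at this


/-- The counts of a group with the facts of `M₂₂`. -/
theorem counts_of_facts {M : Type u} [Group M] [Finite M] (F : M22Order.Facts M) (n : ℕ) :
    Nat.card {g : M // orderOf g = n} = 1 ∨ Nat.card {g : M // orderOf g = n} = 80640 ∨
      11 ∣ Nat.card {g : M // orderOf g = n} := by
  classical
  haveI : Fact (Nat.Prime 11) := ⟨by norm_num⟩
  rcases eq_or_ne n 1 with rfl | hn1
  · left
    exact Nat.card_eq_one_iff_exists.mpr ⟨⟨1, orderOf_one⟩, fun g => Subtype.ext (orderOf_eq_one_iff.mp g.2)⟩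
  obtain ⟨v, hv⟩ := exists_prime_orderOf_dvd_card' (G := M) 11 (by rw [F.card]; norm_num)
  obtain ⟨d, m, hd, hm, h1, h2⟩ := card_norm_prime (K := (⊤ : Subgroup M)) (by norm_num) hv
    (Subgroup.mem_top v) (by rw [Subgroup.card_top, F.card]; norm_num)
  rw [top_inf_eq] at h1 h2
  rw [top_inf_eq] at h1
  rw [Subgroup.card_top, F.card, h1] at h2
  have hd' := Nat.le_of_dvd (by norm_num) hd
  have hc11 : 11 ∣ Nat.card (cen v) := hv ▸ Subgroup.orderOf_dvd_natCard _ (mem_cen.mpr rfl)
  have hpr : ∀ q : ℕ, q.Prime → q ∣ Nat.card (cen v) → q ≠ 2 ∧ q ≠ 3 ∧ q ≠ 5 := by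
    intro q hq hdvd
    haveI := Fact.mk hq
    obtain ⟨x, hx⟩ := exists_prime_orderOf_dvd_card' (G := cen v) q hdvd
    have hxv : 11 ∣ Nat.card (Subgroup.centralizer ({(x : M)} : Set M)) :=
      hv ▸ Subgroup.orderOf_dvd_natCard _ (mem_cen.mpr (mem_cen.mp x.2).symm)
    have hxo : orderOf (x : M) = q := by rw [Subgroup.orderOf_coe, hx]
    refine ⟨?_, ?_, ?_⟩ <;> rintro rfl
    · rw [F.card_invol _ hxo] at hxv; norm_num at hxv
    · rw [F.card_three _ hxo] at hxv; norm_num at hxv
    · rw [F.card_five _ hxo] at hxv; norm_num at hxv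
  have hcd : Nat.card (cen v) = 11 ∧ d = 5 := by
    have hcM : Nat.card (cen v) ∣ 443520 := F.card ▸ Subgroup.card_subgroup_dvd_card _
    have h77 : Nat.card (cen v) ∣ 77 := by
      refine Nat.Coprime.dvd_of_dvd_mul_right (m := 77) (n := 5760) (k := Nat.card (cen v)) ?_ (by simpa using hcM)
      refine Nat.coprime_of_dvd fun q hq hq1 hq2 => ?_
      obtain ⟨a, b, c⟩ := hpr q hq hq1
      have hq' : q ∣ 2 ^ 7 * (3 ^ 2 * 5) := hq2
      rcases hq.dvd_mul.mp hq' with h | h
      · exact a ((Nat.prime_dvd_prime_iff_eq hq Nat.prime_two).mp (hq.dvd_of_dvd_pow h))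
      rcases hq.dvd_mul.mp h with h | h
      · exact b ((Nat.prime_dvd_prime_iff_eq hq Nat.prime_three).mp (hq.dvd_of_dvd_pow h))
      · exact c ((Nat.prime_dvd_prime_iff_eq hq (by norm_num)).mp h)
    have hle := Nat.le_of_dvd (by norm_num) h77
    generalize Nat.card (cen v) = c at hc11 h77 h2 hle ⊢
    interval_cases c <;> first | omega | (interval_cases d <;> omega)
  obtain ⟨hcv, rfl⟩ := hcd
  rw [hcv] at h1
  rcases eq_or_ne n 11 with rfl | hn11
  · right; left
    have hS : ∀ P : Sylow 11 M, Nat.card (P : Subgroup M) = 11 :=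
      card_sylow_eleven22 (m := 40320) (F.card.trans (by norm_num)) (by norm_num)
    rw [SmallOrder.card_orderOf_eq_prime hS]
    have hY : Nat.card (Subgroup.zpowers v) = 11 := by rw [Nat.card_zpowers, hv]
    obtain ⟨P, hP⟩ := (IsPGroup.of_card (n := 1) (by rw [hY, pow_one]) :
      IsPGroup 11 (Subgroup.zpowers v)).exists_le_sylow
    have heq : Subgroup.zpowers v = (P : Subgroup M) :=
      Subgroup.eq_of_le_of_card_ge hP (by rw [hS P, hY])
    have hidx := (norZ v).index_mul_card
    rw [h1, F.card] at hidx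
    rw [P.card_eq_index_normalizer]
    change (Subgroup.normalizer (((P : Subgroup M)) : Set M)).index * (11 - 1) = 80640
    rw [← heq]
    change (norZ v).index * (11 - 1) = 80640
    omega
  right; right
  let α := {g : M // orderOf g = n}
  let f : Function.End α := fun g => ⟨v * g * v⁻¹, by rw [order_conj, g.2]⟩
  have hiter : ∀ k (g : α), ((f^[k]) g : M) = v ^ k * g * (v ^ k)⁻¹ := by
    intro k
    induction k with
    | zero => intro g; show (g : M) = _; simp
    | succ k ih =>
      intro g
      rw [Function.iterate_succ_apply']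
      show v * (f^[k] g : M) * v⁻¹ = _
      rw [ih, pow_succ']
      group
  letI : Fintype α := Fintype.ofFinite α
  have h := Equiv.Perm.card_fixedPoints_modEq (α := α) (f := f) (p := 11) (n := 1) (by
    funext g
    refine Subtype.ext ?_
    show ((f^[11 ^ 1]) g : M) = (g : M)
    rw [pow_one, hiter, pow_self_of_order hv, one_mul, inv_one, mul_one])
  haveI : IsEmpty (Function.fixedPoints f) := ⟨fun z => by
    have hz : v * (z.1.1 : M) * v⁻¹ = z.1.1 := congrArg Subtype.val z.2
    have hd := Subgroup.orderOf_dvd_natCard (cen v) (mem_cen.mpr (mul_inv_eq_iff_eq_mul.mp hz).symm)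
    rw [hcv, z.1.2] at hd
    rcases (Nat.dvd_prime (by norm_num)).mp hd with e | e
    · exact hn1 e
    · exact hn11 e⟩
  rw [← Nat.card_eq_fintype_card, ← Nat.card_eq_fintype_card, Nat.card_of_isEmpty (α := Function.fixedPoints f)] at h
  exact Nat.modEq_zero_iff_dvd.mp h

theorem eq_fix22 : Cfsg.Spor.M22 = Golay.fixH Cfsg.M24 Golay.F22 := by
  ext h
  rw [Golay.mem_fix22_iff, show Golay.pt 23 = none from if_pos rfl, show Golay.pt 0 = some 0 from rfl]
  exact and_assoc

theorem natCard_M22 : Nat.card ↥Cfsg.Spor.M22 = 443520 := by rw [eq_fix22, Golay.natCard_fix22]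

theorem isSimple_M22 : IsSimpleGroup ↥Cfsg.Spor.M22 := by
  haveI := Golay.isSimpleGroup_fix22
  exact (MulEquiv.subgroupCongr eq_fix22).isSimpleGroup

/-- A group with the order and the counts of `M₂₂` is simple, given the facts for `M₂₂`. -/
theorem isSimple_of_nse {G : Type u} [Group G] [Finite G] (FM : M22Order.Facts ↥Cfsg.Spor.M22)
    (hcard : Nat.card G = Nat.card ↥Cfsg.Spor.M22)
    (hnse : {c : ℕ | 0 < c ∧ ∃ n : ℕ, c = Nat.card {g : G // orderOf g = n}} =
      {c : ℕ | 0 < c ∧ ∃ n : ℕ, c = Nat.card {g : ↥Cfsg.Spor.M22 // orderOf g = n}}) : IsSimpleGroup G :=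
  isSimple_of_counts (hcard.trans natCard_M22) fun n hpos => by
    obtain ⟨-, m, hm⟩ := Set.ext_iff.mp hnse (Nat.card {g : G // orderOf g = n}) |>.mp ⟨hpos, n, rfl⟩
    rw [hm]
    exact counts_of_facts FM m

end CfsgLib.M22Order.Counts
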