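import Cfsg.Agent.Lib.M22Order.Facts
import Cfsg.Agent.Lib.Fitting.Basic
import Cfsg.Agent.Lib.HallHigman.FermatSeries

/-!
# Simple groups of order 443520: the centraliser of an element of order three
-/

set_option autoImplicit false
set_option linter.unusedSectionVars false
set_option linter.style.haveILetI false

namespace CfsgLib.M22Order

open Cfsg CfsgLib

universe u

variable {G : Type u} [Group G] [Finite G]

theorem mem_cen {s y : G} : y ∈ Subgroup.centralizer ({s} : Set G) ↔ y * s = s * y :=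
  Subgroup.mem_centralizer_singleton_iff

theorem mem_cen_self (s : G) : s ∈ Subgroup.centralizer ({s} : Set G) := mem_cen.mpr rfl

theorem pow_three_eq {x : G} (hx : orderOf x = 3) : x ^ 3 = 1 := by rw [← hx, pow_orderOf_eq_one]

theorem ne_one_of_order {g : G} {n : ℕ} (hg : orderOf g = n) (hn : 2 ≤ n) : g ≠ 1 := fun e => by
  rw [e, orderOf_one] at hg; omega

theorem sq_of_order {g : G} (hg : orderOf g = 2) : g * g = 1 := by rw [← pow_two, ← hg, pow_orderOf_eq_one]

theorem order_of_sq {g : G} (h : g * g = 1) (h1 : g ≠ 1) : orderOf g = 2 :=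
  orderOf_eq_prime (by rw [pow_two, h]) h1

theorem three_dvd_of_order {g : G} {m : ℕ} (hg : g ^ m = 1) (h : orderOf g = 3) : 3 ∣ m :=
  h ▸ orderOf_dvd_of_pow_eq_one hg

/-- A map of order dividing three has as many fixed points as points, modulo three. -/
theorem card_mod_three {α : Type*} [Finite α] (f : α → α) (h3 : ∀ a, f (f (f a)) = a) :
    Nat.card α % 3 = Nat.card {a : α // f a = a} % 3 := by
  classical
  letI : Fintype α := Fintype.ofFinite α
  haveI : Fact (Nat.Prime 3) := ⟨Nat.prime_three⟩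
  have h := Equiv.Perm.card_fixedPoints_modEq (α := α) (f := (f : Function.End α)) (p := 3) (n := 1)
    (by funext a; exact h3 a)
  simp only [← Nat.card_eq_fintype_card] at h
  rw [h]
  rfl

/-- A subgroup invariant under an element of order three and its fixed points agree modulo three. -/
theorem card_mod_fixed {x : G} (hx : x ^ 3 = 1) (K : Subgroup G) (hinv : ∀ k ∈ K, x * k * x⁻¹ ∈ K) :
    Nat.card K % 3 = Nat.card ↥(K ⊓ Subgroup.centralizer ({x} : Set G)) % 3 := by
  set f : K → K := fun k => ⟨x * k * x⁻¹, hinv k k.2⟩ with hf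
  have hx3 : x * x * x = 1 := by rw [← pow_three', hx]
  rw [card_mod_three f fun k => Subtype.ext (by
    show x * (x * (x * (k : G) * x⁻¹) * x⁻¹) * x⁻¹ = (k : G)
    calc x * (x * (x * (k : G) * x⁻¹) * x⁻¹) * x⁻¹ = (x * x * x) * k * (x * x * x)⁻¹ := by group
      _ = k := by rw [hx3, one_mul, inv_one, mul_one])]
  refine congrArg (· % 3) (Nat.card_congr
    { toFun := fun k => ⟨(k.1 : G), k.1.2, mem_cen.mpr ?_⟩
      invFun := fun k => ⟨⟨k.1, k.2.1⟩, Subtype.ext ?_⟩
      left_inv := fun _ => rfl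
      right_inv := fun _ => rfl })
  · exact (mul_inv_eq_iff_eq_mul.mp (congrArg Subtype.val k.2 : x * (k.1 : G) * x⁻¹ = (k.1 : G))).symm
  · show x * k.1 * x⁻¹ = k.1
    rw [← mem_cen.mp k.2.2, mul_inv_cancel_right]

/-- A subgroup of order prime to three, invariant and with trivial fixed points, or a prescribed fixed part. -/
theorem card_mod_of_fixed {x : G} (hx : x ^ 3 = 1) (K D : Subgroup G) (hinv : ∀ k ∈ K, x * k * x⁻¹ ∈ K)
    (hD : K ⊓ Subgroup.centralizer ({x} : Set G) = D) : Nat.card K % 3 = Nat.card D % 3 := by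
  rw [card_mod_fixed hx K hinv, hD]

/-- The four-group of an element of order three: generated by the involutions commuting with it. -/
def four (x : G) : Subgroup G := Subgroup.closure {g | g * x = x * g ∧ g * g = 1}

variable (F : Facts G)
include F

theorem card_cen_three {x : G} (hx : orderOf x = 3) : Nat.card (Subgroup.centralizer ({x} : Set G)) = 36 :=
  F.card_three x hx

/-- The structure of the centraliser of an element of order three. -/
theorem exists_four {x : G} (hx : orderOf x = 3) :
    ∃ V : Subgroup G, Nat.card V = 4 ∧ V ≤ Subgroup.centralizer ({x} : Set G) ∧ (∀ v ∈ V, v * v = 1) ∧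
      (∀ g ∈ Subgroup.centralizer ({x} : Set G), g ^ 4 = 1 → g ∈ V) ∧
      (∀ g ∈ Subgroup.centralizer ({x} : Set G), ∀ v ∈ V, g * v * g⁻¹ ∈ V) := by
  classical
  haveI : Fact (Nat.Prime 2) := ⟨Nat.prime_two⟩
  haveI : Fact (Nat.Prime 3) := ⟨Nat.prime_three⟩
  set C := Subgroup.centralizer ({x} : Set G) with hC
  obtain ⟨t', ht'⟩ := exists_prime_orderOf_dvd_card' (G := C) 2 (by rw [card_cen_three F hx]; norm_num)
  have key : ∀ i : C, orderOf i = 2 → Nat.card ↥(Subgroup.centralizer ({i} : Set C)) = 12 := by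
    intro i hi
    have h12 := F.card_six (i : G) x (by rw [Subgroup.orderOf_coe]; exact hi) hx
      ((show Commute (i : G) x from mem_cen.mp i.2))
    rw [← h12]
    refine Nat.card_congr
      { toFun := fun g => ⟨(g.1 : G), mem_cen.mpr (congrArg Subtype.val (mem_cen.mp g.2)), g.1.2⟩
        invFun := fun g => ⟨⟨g.1, g.2.2⟩, mem_cen.mpr (Subtype.ext (mem_cen.mp g.2.1))⟩
        left_inv := fun _ => rfl
        right_inv := fun _ => rfl }
  -- a Sylow 2-subgroup is normal
  have hfac : (Nat.card C).factorization 2 = 2 := by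
    rw [card_cen_three F hx, show (36 : ℕ) = 2 ^ 2 * 9 by norm_num, Nat.factorization_mul (by norm_num)
      (by norm_num), Finsupp.add_apply, Nat.factorization_pow, Finsupp.smul_apply,
      Nat.Prime.factorization_self Nat.prime_two,
      Nat.factorization_eq_zero_of_not_dvd (show ¬ 2 ∣ 9 by norm_num)]
    rfl
  have hfac3 : (Nat.card C).factorization 3 = 2 := by
    rw [card_cen_three F hx, show (36 : ℕ) = 3 ^ 2 * 4 by norm_num, Nat.factorization_mul (by norm_num)
      (by norm_num), Finsupp.add_apply, Nat.factorization_pow, Finsupp.smul_apply,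
      Nat.Prime.factorization_self Nat.prime_three,
      Nat.factorization_eq_zero_of_not_dvd (show ¬ 3 ∣ 4 by norm_num)]
    rfl
  have hP4 : ∀ P : Sylow 2 C, Nat.card (P : Subgroup C) = 4 := fun P => by
    rw [P.card_eq_multiplicity, hfac]; norm_num
  have hS9 : ∀ S : Sylow 3 C, Nat.card (S : Subgroup C) = 9 := fun S => by
    rw [S.card_eq_multiplicity, hfac3]; norm_num
  set x' : C := ⟨x, mem_cen_self x⟩ with hx'
  have hx'c : ∀ g : C, g * x' = x' * g := fun g => Subtype.ext (mem_cen.mp g.2)
  have hx'o : orderOf x' = 3 := by rw [hx', Subgroup.orderOf_mk]; exact hx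
  -- no normal Sylow 3-subgroup
  have hS : ∀ S : Sylow 3 C, ¬ (S : Subgroup C).Normal := by
    intro S hn
    haveI := hn
    have hxS : x' ∈ (S : Subgroup C) := by
      obtain ⟨S', hS'⟩ := (IsPGroup.of_card (p := 3) (n := 1)
        (show Nat.card (Subgroup.zpowers x') = 3 ^ 1 by rw [Nat.card_zpowers, hx'o, pow_one])).exists_le_sylow
      haveI := Sylow.unique_of_normal S hn
      rw [Subsingleton.elim S' S] at hS'
      exact hS' (Subgroup.mem_zpowers _)
    -- every involution centralises exactly three elements of the Sylow subgroup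
    have h3 : ∀ i : C, orderOf i = 2 → Nat.card ↥((S : Subgroup C) ⊓ Subgroup.centralizer ({i} : Set C)) = 3 := by
      intro i hi
      have hd1 := Subgroup.card_dvd_of_le
        (inf_le_left : (S : Subgroup C) ⊓ Subgroup.centralizer ({i} : Set C) ≤ (S : Subgroup C))
      rw [hS9] at hd1
      have hd2 := Subgroup.card_dvd_of_le
        (inf_le_right : (S : Subgroup C) ⊓ Subgroup.centralizer ({i} : Set C) ≤ _)
      rw [key i hi] at hd2
      have hd : Nat.card ↥((S : Subgroup C) ⊓ Subgroup.centralizer ({i} : Set C)) ∣ 3 :=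
        (Nat.dvd_gcd hd1 hd2 : _ ∣ Nat.gcd 9 12)
      rcases (Nat.dvd_prime Nat.prime_three).mp hd with h | h
      · have hm : (⟨x', hxS, mem_cen.mpr (hx'c i).symm⟩ :
            ↥((S : Subgroup C) ⊓ Subgroup.centralizer ({i} : Set C))) = 1 :=
          ((Nat.card_eq_one_iff_unique.mp h).1).elim _ _
        exact absurd (congrArg Subtype.val hm) (ne_one_of_order hx'o (by norm_num))
      · exact h
    obtain ⟨P⟩ := (inferInstance : Nonempty (Sylow 2 C))
    letI : Fintype (S : Subgroup C) := Fintype.ofFinite _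
    -- the conjugations by P on the quotient of S by x
    set X := (Subgroup.zpowers x').subgroupOf (S : Subgroup C) with hX
    haveI hXn : X.Normal := by
      refine ⟨fun a ha g => ?_⟩
      obtain ⟨k, hk⟩ := Subgroup.mem_zpowers_iff.mp (Subgroup.mem_subgroupOf.mp ha)
      rw [hX, Subgroup.mem_subgroupOf, Subgroup.coe_mul, Subgroup.coe_mul, Subgroup.coe_inv, ← hk,
        ((show Commute (g : C) x' from hx'c _).zpow_right k).eq, mul_inv_cancel_right]
      exact Subgroup.zpow_mem _ (Subgroup.mem_zpowers _) k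
    have hXi : X.index = 3 := by
      have h := X.index_mul_card
      rw [Nat.card_congr (Subgroup.subgroupOfEquivOfLe (Subgroup.zpowers_le.mpr hxS)).toEquiv,
        Nat.card_zpowers, hx'o, hS9] at h
      omega
    obtain ⟨y, hy⟩ : ∃ y : (S : Subgroup C), y ∉ X := by
      by_contra h; push Not at h
      rw [(Subgroup.eq_top_iff' X).mpr h, Subgroup.index_top] at hXi; omega
    -- an involution inverts the quotient
    have hinv : ∀ i : C, orderOf i = 2 → ((i * y * i⁻¹ * y : C)) ∈ Subgroup.zpowers x' := by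
      intro i hi
      have hym : i * y * i⁻¹ ∈ (S : Subgroup C) := hn.conj_mem _ y.2 i
      set z : (S : Subgroup C) := ⟨i * y * i⁻¹, hym⟩ with hz
      have hne : ¬ (y⁻¹ * z : (S : Subgroup C)) ∈ X := by
        intro hmem
        obtain ⟨k, hk⟩ := Subgroup.mem_zpowers_iff.mp (Subgroup.mem_subgroupOf.mp hmem)
        rw [Subgroup.coe_mul, Subgroup.coe_inv] at hk
        have hcomm : Commute i (x' ^ k) := (show Commute i x' from hx'c i).zpow_right k
        have hk' : i * (y : C) * i⁻¹ = y * x' ^ k := by rw [hk, hz]; group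
        have hii : i * i = 1 := by rw [← pow_two, ← hi, pow_orderOf_eq_one]
        have h2 : i * (i * (y : C) * i⁻¹) * i⁻¹ = y := by
          calc i * (i * (y : C) * i⁻¹) * i⁻¹ = (i * i) * y * (i * i)⁻¹ := by group
            _ = y := by rw [hii, one_mul, inv_one, mul_one]
        rw [hk', show i * ((y : C) * x' ^ k) * i⁻¹ = (i * y * i⁻¹) * (i * x' ^ k * i⁻¹) by group, hk',
          hcomm.eq, mul_inv_cancel_right, mul_assoc] at h2
        have hk2 : x' ^ k * x' ^ k = 1 := mul_left_cancel (by rw [h2, mul_one] : (y : C) * _ = y * 1)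
        have hk0 : x' ^ k = 1 := by
          have hx3 : x' ^ k * x' ^ k * x' ^ k = 1 := by
            rw [← zpow_add, ← zpow_add, ← orderOf_dvd_iff_zpow_eq_one, hx'o]
            exact ⟨k, by push_cast; ring⟩
          rwa [hk2, one_mul] at hx3
        rw [hk0, mul_one] at hk'
        have hmem' : (y : C) ∈ (S : Subgroup C) ⊓ Subgroup.centralizer ({i} : Set C) :=
          ⟨y.2, mem_cen.mpr (mul_inv_eq_iff_eq_mul.mp hk').symm⟩
        have hle : Subgroup.zpowers x' = (S : Subgroup C) ⊓ Subgroup.centralizer ({i} : Set C) :=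
          Subgroup.eq_of_le_of_card_ge (Subgroup.zpowers_le.mpr ⟨hxS, mem_cen.mpr (hx'c i).symm⟩)
            (by rw [h3 i hi, Nat.card_zpowers, hx'o])
        exact hy (Subgroup.mem_subgroupOf.mpr (hle ▸ hmem'))
      have hzX : z ∉ X := by
        intro hmem
        obtain ⟨k, hk⟩ := Subgroup.mem_zpowers_iff.mp (Subgroup.mem_subgroupOf.mp hmem)
        refine hy (Subgroup.mem_subgroupOf.mpr ?_)
        have hcomm : Commute i (x' ^ k) := (show Commute i x' from hx'c i).zpow_right k
        have : (y : C) = x' ^ k := by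
          have e : (y : C) = i⁻¹ * x' ^ k * i := by rw [hk, hz]; group
          rw [e, mul_assoc, ← hcomm.eq, inv_mul_cancel_left]
        rw [this]; exact Subgroup.zpow_mem _ (Subgroup.mem_zpowers _) k
      have hq : ∀ a b : (S : Subgroup C) ⧸ X, a ≠ 1 → b ≠ 1 → a ≠ b → a * b = 1 := by
        haveI : Fact (Nat.Prime 3) := ⟨Nat.prime_three⟩
        letI : Fintype ((S : Subgroup C) ⧸ X) := Fintype.ofFinite _
        have hc : Nat.card ((S : Subgroup C) ⧸ X) = 3 := hXi
        intro a b ha hb hab
        have hab' : a⁻¹ = b := by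
          have hu : (Finset.univ : Finset ((S : Subgroup C) ⧸ X)) = {1, a, b} :=
            (Finset.eq_univ_of_card _ (by
              rw [Finset.card_insert_of_notMem (by simp [Ne.symm ha, Ne.symm hb]), Finset.card_pair hab,
                ← Nat.card_eq_fintype_card, hc])).symm
          have hm := Finset.mem_univ a⁻¹
          rw [hu] at hm
          simp only [Finset.mem_insert, Finset.mem_singleton] at hm
          rcases hm with e | e | e
          · exact absurd (inv_eq_one.mp e) ha
          · exfalso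
            have h2 : a * a = 1 := by nth_rw 2 [← e]; exact mul_inv_cancel a
            have h3' := pow_card_eq_one' (x := a)
            rw [hc] at h3'
            rw [pow_succ, pow_two, h2, one_mul] at h3'
            exact ha h3'
          · exact e
        rw [← hab', mul_inv_cancel]
      have h1 := hq (z : (S : Subgroup C) ⧸ X) (y : (S : Subgroup C) ⧸ X)
        (fun e => hzX ((QuotientGroup.eq_one_iff z).mp e)) (fun e => hy ((QuotientGroup.eq_one_iff y).mp e))
        (fun e => hne (QuotientGroup.eq.mp e.symm))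
      rw [← QuotientGroup.mk_mul, QuotientGroup.eq_one_iff, hX, Subgroup.mem_subgroupOf] at h1
      exact h1
    obtain ⟨i, hi⟩ : ∃ i : C, orderOf i = 2 := ⟨t', ht'⟩
    obtain ⟨P', hP'⟩ := (IsPGroup.of_card (p := 2) (n := 1)
      (show Nat.card (Subgroup.zpowers i) = 2 ^ 1 by rw [Nat.card_zpowers, hi, pow_one])).exists_le_sylow
    -- an element of the Sylow 2-subgroup outside the involution
    obtain ⟨w, hwP, hwi⟩ : ∃ w ∈ (P' : Subgroup C), w ∉ Subgroup.zpowers i := by
      by_contra h; push Not at h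
      have := Subgroup.card_le_of_le (show (P' : Subgroup C) ≤ Subgroup.zpowers i from h)
      rw [hP4, Nat.card_zpowers, hi] at this; omega
    have hw4 : w ^ 4 = 1 := by
      have : (⟨w, hwP⟩ : (P' : Subgroup C)) ^ 4 = 1 := hP4 P' ▸ pow_card_eq_one'
      exact congrArg Subtype.val this
    have hxz : ∀ (a : C) (m : C), m ∈ Subgroup.zpowers x' → a * m * a⁻¹ = m := by
      intro a m hm
      obtain ⟨k, rfl⟩ := Subgroup.mem_zpowers_iff.mp hm
      rw [((show Commute a x' from hx'c a).zpow_right k).eq, mul_inv_cancel_right]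
    by_cases hww : w * w = 1
    · have hw2 : orderOf w = 2 := order_of_sq hww fun e => hwi (by rw [e]; exact one_mem _)
      have hwi' : w * i ≠ 1 := fun e => hwi (by
        rw [show w = i⁻¹ from eq_inv_of_mul_eq_one_left e]; exact inv_mem (Subgroup.mem_zpowers i))
      have hii : i * i = 1 := by rw [← pow_two, ← hi, pow_orderOf_eq_one]
      have hP'c : w * i = i * w := by
        haveI hc : IsMulCommutative (P' : Subgroup C) :=
          IsPGroup.isMulCommutative_of_card_eq_prime_sq (p := 2) (by rw [hP4]; norm_num)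
        exact congrArg Subtype.val (hc.is_comm.comm ⟨w, hwP⟩ ⟨i, hP' (Subgroup.mem_zpowers i)⟩)
      have hwi2 : orderOf (w * i) = 2 := order_of_sq (by
        rw [show w * i * (w * i) = w * (i * w) * i by group, ← hP'c, ← mul_assoc, hww, one_mul, hii]) hwi'
      have h1 := hinv i hi
      have h2 := hinv w hw2
      have h12 := hinv (w * i) hwi2
      -- the product of two inversions centralises modulo x
      refine hy (Subgroup.mem_subgroupOf.mpr ?_)
      have e : w * i * (y : C) * (w * i)⁻¹ * ((y : C))⁻¹ ∈ Subgroup.zpowers x' := by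
        set m := i * (y : C) * i⁻¹ * y with hm
        set l := w * (y : C) * w⁻¹ * y with hl
        have hiy : i * (y : C) * i⁻¹ = m * (y : C)⁻¹ := by rw [hm]; group
        have e1 : w * i * (y : C) * (w * i)⁻¹ * (y : C)⁻¹ = m * l⁻¹ * (l * ((y : C)) * l⁻¹ * (y : C)⁻¹) := by
          calc w * i * (y : C) * (w * i)⁻¹ * (y : C)⁻¹ = w * (i * (y : C) * i⁻¹) * w⁻¹ * (y : C)⁻¹ := by group
            _ = (w * m * w⁻¹) * (w * (y : C) * w⁻¹)⁻¹ * (y : C)⁻¹ := by rw [hiy]; group
            _ = m * (w * (y : C) * w⁻¹)⁻¹ * (y : C)⁻¹ := by rw [hxz w m h1]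
            _ = _ := by rw [hl]; group
        rw [e1, show l * (y : C) * l⁻¹ * (y : C)⁻¹ = l * ((y : C) * l⁻¹ * (y : C)⁻¹) by group,
          hxz (y : C) l⁻¹ (inv_mem h2), mul_inv_cancel, mul_one]
        exact mul_mem h1 (inv_mem h2)
      have h5 := mul_mem (inv_mem e) h12
      rw [show (w * i * (y : C) * (w * i)⁻¹ * (y : C)⁻¹)⁻¹ * (w * i * (y : C) * (w * i)⁻¹ * (y : C)) =
        (y : C) * (y : C) by group] at h5
      have hy9 : (y : C) ^ 9 = 1 := by
        have : y ^ 9 = 1 := hS9 S ▸ pow_card_eq_one'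
        exact congrArg Subtype.val this
      have h6 := Subgroup.pow_mem _ h5 5
      rwa [← pow_two, ← pow_mul, show 2 * 5 = 9 + 1 by norm_num, pow_succ, hy9, one_mul] at h6
    · -- an element of order four squaring to the involution
      have hw2 : orderOf (w * w) = 2 := order_of_sq (by
        rw [← pow_two, ← pow_two, ← pow_mul]; exact hw4) hww
      have h1 := hinv (w * w) hw2
      refine hy (Subgroup.mem_subgroupOf.mpr ?_)
      have hym : w * (y : C) * w⁻¹ ∈ (S : Subgroup C) := hn.conj_mem _ y.2 w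
      have hqq : ∀ a : (S : Subgroup C) ⧸ X, a = 1 ∨ a = (y : (S : Subgroup C) ⧸ X) ∨
          a = ((y : (S : Subgroup C) ⧸ X))⁻¹ := by
        letI : Fintype ((S : Subgroup C) ⧸ X) := Fintype.ofFinite _
        have hc : Nat.card ((S : Subgroup C) ⧸ X) = 3 := hXi
        set b := (y : (S : Subgroup C) ⧸ X) with hb
        have hb1 : b ≠ 1 := fun e => hy ((QuotientGroup.eq_one_iff y).mp e)
        have hbb : b ≠ b⁻¹ := fun e => hb1 (by
          have h2 : b * b = 1 := by nth_rw 2 [e]; exact mul_inv_cancel b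
          have h3' := pow_card_eq_one' (x := b)
          rw [hc] at h3'
          rwa [pow_succ, pow_two, h2, one_mul] at h3')
        have hu : (Finset.univ : Finset ((S : Subgroup C) ⧸ X)) = {1, b, b⁻¹} :=
          (Finset.eq_univ_of_card _ (by
            rw [Finset.card_insert_of_notMem (by
              simp only [Finset.mem_insert, Finset.mem_singleton, not_or]
              exact ⟨Ne.symm hb1, fun e => hb1 (inv_eq_one.mp e.symm)⟩),
              Finset.card_pair hbb, ← Nat.card_eq_fintype_card, hc])).symm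
        intro a
        have hm := Finset.mem_univ a
        rw [hu] at hm
        simpa using hm
      have hsq : w * w * (y : C) * (w * w)⁻¹ * (y : C)⁻¹ ∈ Subgroup.zpowers x' := by
        set z : (S : Subgroup C) := ⟨w * y * w⁻¹, hym⟩ with hz
        rcases hqq (z : (S : Subgroup C) ⧸ X) with e | e | e
        · exfalso
          refine hy (Subgroup.mem_subgroupOf.mpr ?_)
          obtain ⟨k, hk⟩ := Subgroup.mem_zpowers_iff.mp (Subgroup.mem_subgroupOf.mp
            ((QuotientGroup.eq_one_iff z).mp e))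
          have hy' : (y : C) = w⁻¹ * x' ^ k * w := by rw [hk, hz]; group
          have := hxz w⁻¹ (x' ^ k) (Subgroup.zpow_mem _ (Subgroup.mem_zpowers _) k)
          rw [inv_inv] at this
          rw [hy', this]
          exact Subgroup.zpow_mem _ (Subgroup.mem_zpowers _) k
        · have hmem := Subgroup.mem_subgroupOf.mp (QuotientGroup.eq.mp e.symm)
          rw [Subgroup.coe_mul, Subgroup.coe_inv] at hmem
          set l := (y : C)⁻¹ * (w * (y : C) * w⁻¹) with hl
          have hwy : w * (y : C) * w⁻¹ = y * l := by rw [hl]; group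
          rw [show w * w * (y : C) * (w * w)⁻¹ * (y : C)⁻¹ = w * (w * (y : C) * w⁻¹) * w⁻¹ * (y : C)⁻¹ by group,
            hwy, show w * ((y : C) * l) * w⁻¹ = (w * (y : C) * w⁻¹) * (w * l * w⁻¹) by group, hwy,
            hxz w l hmem, show (y : C) * l * l * (y : C)⁻¹ = (y : C) * (l * l) * (y : C)⁻¹ by group,
            hxz (y : C) (l * l) (mul_mem hmem hmem)]
          exact mul_mem hmem hmem
        · have hmem := Subgroup.mem_subgroupOf.mp (QuotientGroup.eq.mp e.symm)
          rw [Subgroup.coe_mul, inv_inv] at hmem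
          set l := (y : C) * (w * (y : C) * w⁻¹) with hl
          have hwy : w * (y : C) * w⁻¹ = (y : C)⁻¹ * l := by rw [hl]; group
          rw [show w * w * (y : C) * (w * w)⁻¹ * (y : C)⁻¹ = w * (w * (y : C) * w⁻¹) * w⁻¹ * (y : C)⁻¹ by group,
            hwy, show w * ((y : C)⁻¹ * l) * w⁻¹ = (w * (y : C) * w⁻¹)⁻¹ * (w * l * w⁻¹) by group, hwy,
            hxz w l hmem,
            show ((y : C)⁻¹ * l)⁻¹ * l * (y : C)⁻¹ = l⁻¹ * ((y : C) * l * (y : C)⁻¹) by group,
            hxz (y : C) l hmem, inv_mul_cancel]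
          exact one_mem _
      have h5 := mul_mem (inv_mem hsq) h1
      rw [show (w * w * (y : C) * (w * w)⁻¹ * (y : C)⁻¹)⁻¹ * (w * w * (y : C) * (w * w)⁻¹ * (y : C)) =
        (y : C) * (y : C) by group] at h5
      have hy9 : (y : C) ^ 9 = 1 := by
        have : y ^ 9 = 1 := hS9 S ▸ pow_card_eq_one'
        exact congrArg Subtype.val this
      have h6 := Subgroup.pow_mem _ h5 5
      rwa [← pow_two, ← pow_mul, show 2 * 5 = 9 + 1 by norm_num, pow_succ, hy9, one_mul] at h6
  obtain ⟨S⟩ := (inferInstance : Nonempty (Sylow 3 C))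
  have hn3 : Nat.card (Sylow 3 C) = 4 := by
    have hidx : (S : Subgroup C).index = 4 := by
      have := (S : Subgroup C).index_mul_card
      rw [hS9, card_cen_three F hx] at this; omega
    have hd : Nat.card (Sylow 3 C) ∣ 4 := hidx ▸ S.card_dvd_index
    have hm := card_sylow_modEq_one 3 C
    rw [Nat.ModEq] at hm
    have hle := Nat.le_of_dvd (by norm_num) hd
    have hne : Nat.card (Sylow 3 C) ≠ 1 := fun h => hS S (by
      haveI := (Nat.card_eq_one_iff_unique.mp h).1
      exact S.normal_of_subsingleton)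
    omega
  have hNS : ∀ R : Sylow 3 C, Subgroup.normalizer ((R : Subgroup C) : Set C) = (R : Subgroup C) := by
    intro R
    refine (Subgroup.eq_of_le_of_card_ge Subgroup.le_normalizer ?_).symm
    have h := (Subgroup.normalizer ((R : Subgroup C) : Set C)).index_mul_card
    rw [show (Subgroup.normalizer ((R : Subgroup C) : Set C)).index = 4 from
      R.card_eq_index_normalizer.symm.trans hn3, card_cen_three F hx] at h
    rw [hS9]; omega
  letI : Fintype (Sylow 3 C) := Fintype.ofFinite _
  let e : Sylow 3 C ≃ Fin 4 := Finite.equivFinOfCardEq hn3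
  let ψ : C →* Equiv.Perm (Sylow 3 C) := MulAction.toPermHom C (Sylow 3 C)
  let φ : C →* Equiv.Perm (Fin 4) := (e.permCongrHom.toMonoidHom).comp ψ
  have hkle : ∀ R : Sylow 3 C, φ.ker ≤ (R : Subgroup C) := by
    intro R a ha
    have ha' : ψ a = 1 := by simpa [φ, MonoidHom.mem_ker] using ha
    rw [← hNS R]
    erw [← Sylow.stabilizer_eq_normalizer]
    rw [MulAction.mem_stabilizer_iff]
    exact DFunLike.congr_fun ha' R
  have hxk : x' ∈ φ.ker := by
    have : ψ x' = 1 := Equiv.ext fun R => by
      show x' • R = R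
      rw [← MulAction.mem_stabilizer_iff, Sylow.stabilizer_eq_normalizer]
      refine Subgroup.mem_normalizer_iff.mpr fun h => ?_
      rw [← hx'c h, mul_inv_cancel_right]
    simp [φ, MonoidHom.mem_ker, this]
  have hker : Nat.card φ.ker = 3 := by
    have hd : Nat.card φ.ker ∣ 9 := hS9 S ▸ Subgroup.card_dvd_of_le (hkle S)
    have h3 : 3 ∣ Nat.card φ.ker := hx'o ▸ Subgroup.orderOf_dvd_natCard _ hxk
    obtain ⟨q, hq⟩ := h3
    rw [hq, show (9 : ℕ) = 3 * 3 from rfl] at hd
    rcases (Nat.dvd_prime Nat.prime_three).mp (Nat.dvd_of_mul_dvd_mul_left (by norm_num) hd) with h | h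
    · rw [hq, h]
    · exfalso
      refine hS S ?_
      rw [← Subgroup.eq_of_le_of_card_ge (hkle S) (by rw [hS9, hq, h])]
      exact φ.normal_ker
  have hr : φ.range = alternatingGroup (Fin 4) := by
    apply Equiv.Perm.eq_alternatingGroup_of_index_eq_two
    have h := φ.ker.index_mul_card
    rw [Subgroup.index_ker, hker, card_cen_three F hx] at h
    have h2 := φ.range.index_mul_card
    rw [Nat.card_perm, Nat.card_fin] at h2
    rw [show Nat.factorial 4 = 24 from rfl] at h2
    have : Nat.card φ.range = 12 := by omega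
    rw [this] at h2
    omega
  have hkey : ∀ σ : Equiv.Perm (Fin 4), Equiv.Perm.sign σ = 1 → σ ^ 4 = 1 →
      σ * σ = 1 ∧ σ ∈ ([1, Equiv.swap 0 1 * Equiv.swap 2 3, Equiv.swap 0 2 * Equiv.swap 1 3,
        Equiv.swap 0 3 * Equiv.swap 1 2] : List (Equiv.Perm (Fin 4))) := by decide +kernel
  have hmemA : ∀ g : C, Equiv.Perm.sign (φ g) = 1 := fun g => by
    have h : φ g ∈ alternatingGroup (Fin 4) := hr ▸ (⟨g, rfl⟩ : φ g ∈ φ.range)
    exact Equiv.Perm.mem_alternatingGroup.mp h
  have hk1 : ∀ g : C, g ^ 4 = 1 → φ g = 1 → g = 1 := by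
    intro g h4 hg
    have h3 : (⟨g, hg⟩ : φ.ker) ^ 3 = 1 := hker ▸ pow_card_eq_one'
    have h3' : g ^ 3 = 1 := congrArg Subtype.val h3
    rwa [pow_succ, h3', one_mul] at h4
  obtain ⟨P⟩ := (inferInstance : Nonempty (Sylow 2 C))
  have hP4' : ∀ p ∈ (P : Subgroup C), p ^ 4 = 1 := fun p hp => by
    have : (⟨p, hp⟩ : (P : Subgroup C)) ^ 4 = 1 := hP4 P ▸ pow_card_eq_one'
    exact congrArg Subtype.val this
  have hall : ∀ g : C, g ^ 4 = 1 → g ∈ (P : Subgroup C) := by
    intro g hg
    have hinj : Function.Injective fun p : (P : Subgroup C) => φ p := fun a b hab => by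
      have h := hk1 ((a * b⁻¹ : (P : Subgroup C)) : C) (hP4' _ (a * b⁻¹).2) (by
        rw [Subgroup.coe_mul, Subgroup.coe_inv, map_mul, map_inv, (show φ a = φ b from hab), mul_inv_cancel])
      exact mul_inv_eq_one.mp (Subtype.ext h)
    set L : Finset (Equiv.Perm (Fin 4)) := ([1, Equiv.swap 0 1 * Equiv.swap 2 3,
      Equiv.swap 0 2 * Equiv.swap 1 3, Equiv.swap 0 3 * Equiv.swap 1 2] : List (Equiv.Perm (Fin 4))).toFinset
      with hL
    letI : Fintype (P : Subgroup C) := Fintype.ofFinite _
    have himg : Finset.univ.image (fun p : (P : Subgroup C) => φ p) = L := by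
      refine Finset.eq_of_subset_of_card_le (fun σ hσ => ?_) ?_
      · obtain ⟨p, -, rfl⟩ := Finset.mem_image.mp hσ
        exact List.mem_toFinset.mpr (hkey _ (hmemA _) (by rw [← map_pow, hP4' _ p.2, map_one])).2
      · rw [Finset.card_image_of_injective _ hinj, Finset.card_univ, ← Nat.card_eq_fintype_card, hP4]
        exact (List.toFinset_card_le _).trans (by simp)
    obtain ⟨p, -, hp⟩ := Finset.mem_image.mp
      (show φ g ∈ Finset.univ.image (fun p : (P : Subgroup C) => φ p) by
        rw [himg]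
        exact List.mem_toFinset.mpr (hkey _ (hmemA g) (by rw [← map_pow, hg, map_one])).2)
    -- the quotient lies in the kernel and has order dividing three
    have hq : (p : C)⁻¹ * g ∈ φ.ker := by rw [MonoidHom.mem_ker, map_mul, map_inv, hp, inv_mul_cancel]
    obtain ⟨k, hk⟩ : ∃ k : ℤ, (p : C)⁻¹ * g = x' ^ k := by
      have : φ.ker = Subgroup.zpowers x' :=
        (Subgroup.eq_of_le_of_card_ge (Subgroup.zpowers_le.mpr hxk) (by rw [hker, Nat.card_zpowers, hx'o])).symm
      rw [this] at hq
      obtain ⟨k, hk⟩ := Subgroup.mem_zpowers_iff.mp hq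
      exact ⟨k, hk.symm⟩
    have hg' : g = (p : C) * x' ^ k := by rw [← hk]; group
    have hc : Commute (p : C) (x' ^ k) := (show Commute (p : C) x' from hx'c _).zpow_right k
    rw [hg', hc.mul_pow, hP4' _ p.2, one_mul] at hg
    have h3 : (x' ^ k) ^ 3 = 1 := by
      rw [← zpow_natCast, ← zpow_mul, mul_comm, zpow_mul, zpow_natCast, ← hx'o, pow_orderOf_eq_one, one_zpow]
    rw [pow_succ, h3, one_mul] at hg
    rw [hg', hg, mul_one]
    exact p.2
  refine ⟨(P : Subgroup C).map C.subtype, by rw [Subgroup.card_map_of_injective C.subtype_injective, hP4],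
    Subgroup.map_subtype_le _, ?_, fun g hg h4 => ⟨⟨g, hg⟩, hall _ (Subtype.ext h4), rfl⟩, ?_⟩
  · rintro _ ⟨p, hp, rfl⟩
    have h := hk1 (p * p) (hP4' _ (mul_mem hp hp)) (by
      rw [map_mul]; exact (hkey _ (hmemA p) (by rw [← map_pow, hP4' _ hp, map_one])).1)
    exact congrArg Subtype.val h
  · rintro g hg _ ⟨p, hp, rfl⟩
    exact ⟨⟨g, hg⟩ * p * ⟨g, hg⟩⁻¹, hall _ (by rw [conj_pow, hP4' _ hp, mul_one, mul_inv_cancel]), rfl⟩

theorem four_props {x : G} (hx : orderOf x = 3) :
    Nat.card (four x) = 4 ∧ four x ≤ Subgroup.centralizer ({x} : Set G) ∧ (∀ v ∈ four x, v * v = 1) ∧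
      (∀ g ∈ Subgroup.centralizer ({x} : Set G), g ^ 4 = 1 → g ∈ four x) ∧
      (∀ g ∈ Subgroup.centralizer ({x} : Set G), ∀ v ∈ four x, g * v * g⁻¹ ∈ four x) := by
  obtain ⟨V, hc, hle, hsq, hall, hn⟩ := exists_four F hx
  have hV : four x = V := by
    refine le_antisymm ((Subgroup.closure_le _).mpr fun g hg => hall g (mem_cen.mpr hg.1) ?_)
      fun v hv => Subgroup.subset_closure ⟨mem_cen.mp (hle hv), hsq v hv⟩
    rw [show (4 : ℕ) = 2 * 2 from rfl, pow_mul, pow_two g, hg.2, one_pow]
  exact hV.symm ▸ ⟨hc, hle, hsq, hall, hn⟩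

theorem card_four {x : G} (hx : orderOf x = 3) : Nat.card (four x) = 4 := (four_props F hx).1

theorem four_le {x : G} (hx : orderOf x = 3) : four x ≤ Subgroup.centralizer ({x} : Set G) := (four_props F hx).2.1

theorem four_sq {x v : G} (hx : orderOf x = 3) (hv : v ∈ four x) : v * v = 1 := (four_props F hx).2.2.1 v hv

theorem mem_four {x g : G} (hx : orderOf x = 3) (hg : g * x = x * g) (h : g ^ 4 = 1) : g ∈ four x :=
  (four_props F hx).2.2.2.1 g (mem_cen.mpr hg) h

theorem four_conj {x g v : G} (hx : orderOf x = 3) (hg : g * x = x * g) (hv : v ∈ four x) :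
    g * v * g⁻¹ ∈ four x :=
  (four_props F hx).2.2.2.2 g (mem_cen.mpr hg) v hv

theorem four_comm {x v : G} (hx : orderOf x = 3) (hv : v ∈ four x) : v * x = x * v :=
  mem_cen.mp (four_le F hx hv)

/-- A 2-element commuting with an element of order three lies in its four-group. -/
theorem two_mem_four {x g : G} (hx : orderOf x = 3) (hg : g * x = x * g) (h : g ^ 128 = 1) : g ∈ four x := by
  refine mem_four F hx hg ?_
  have h36 : (⟨g, mem_cen.mpr hg⟩ : Subgroup.centralizer ({x} : Set G)) ^ 36 = 1 :=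
    card_cen_three F hx ▸ pow_card_eq_one'
  have h36' : g ^ 36 = 1 := congrArg Subtype.val h36
  rw [← orderOf_dvd_iff_pow_eq_one] at h h36' ⊢
  exact (Nat.dvd_gcd h h36' : orderOf g ∣ Nat.gcd 128 36)

/-- An element of the centraliser of `x` fixing a non-trivial element of the four-group. -/
theorem cen_fix {x v g : G} (hx : orderOf x = 3) (hv : v ∈ four x) (hv1 : v ≠ 1) (hgx : g * x = x * g)
    (hgv : g * v = v * g) : ∃ w ∈ four x, ∃ i : ℕ, g = w * x ^ i := by
  classical
  set D := Subgroup.centralizer ({v} : Set G) ⊓ Subgroup.centralizer ({x} : Set G) with hD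
  have hcD : Nat.card D = 12 :=
    F.card_six v x (order_of_sq (four_sq F hx hv) hv1) hx (four_comm F hx hv)
  have hVc : ∀ w ∈ four x, w * v = v * w := by
    intro w hw
    have h1 := four_sq F hx hw
    have h2 := four_sq F hx hv
    have h3 := four_sq F hx (mul_mem hw hv)
    calc w * v = w * v * ((v * w) * (v * w)) := by rw [four_sq F hx (mul_mem hv hw), mul_one]
      _ = w * (v * v) * (w * (v * w)) := by group
      _ = v * w := by rw [h2, mul_one, ← mul_assoc, h1, one_mul]
  have hx3 := pow_three_eq hx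
  letI : Fintype D := Fintype.ofFinite _
  letI : Fintype (four x) := Fintype.ofFinite _
  let f : four x × Fin 3 → D := fun p => ⟨(p.1 : G) * x ^ (p.2 : ℕ),
    mem_cen.mpr (by
      have hxv : Commute x v := (four_comm F hx hv).symm
      rw [mul_assoc, (hxv.pow_left _).eq, ← mul_assoc, hVc _ p.1.2, mul_assoc]),
    Subgroup.mul_mem _ (four_le F hx p.1.2) (Subgroup.pow_mem _ (mem_cen_self x) _)⟩
  have hf : Function.Bijective f := by
    refine (Fintype.bijective_iff_injective_and_card f).mpr ⟨fun a b hab => ?_, ?_⟩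
    · have h := congrArg Subtype.val hab
      simp only [f] at h
      have hm : (b.1 : G)⁻¹ * (a.1 : G) = x ^ (b.2 : ℕ) * (x ^ (a.2 : ℕ))⁻¹ := by
        rw [eq_mul_inv_iff_mul_eq, mul_assoc, h]; group
      have h4 : ((b.1 : G)⁻¹ * (a.1 : G)) * ((b.1 : G)⁻¹ * (a.1 : G)) = 1 :=
        four_sq F hx (mul_mem (inv_mem b.1.2) a.1.2)
      have h6 : ((b.1 : G)⁻¹ * (a.1 : G)) ^ 3 = 1 := by
        rw [hm, ((Commute.refl x).pow_pow _ _).inv_right.mul_pow, inv_pow, ← pow_mul, ← pow_mul, mul_comm _ 3,
          mul_comm _ 3, pow_mul, pow_mul, hx3, one_pow, one_pow, inv_one, one_mul]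
      have h1 : (b.1 : G)⁻¹ * (a.1 : G) = 1 := by rwa [pow_succ, pow_two, h4, one_mul] at h6
      have e1 : a.1 = b.1 := Subtype.ext (inv_mul_eq_one.mp h1).symm
      rw [h1] at hm
      have e2 : x ^ (b.2 : ℕ) = x ^ (a.2 : ℕ) := mul_inv_eq_one.mp hm.symm
      refine Prod.ext e1 (Fin.ext ?_)
      exact (pow_injOn_Iio_orderOf (Set.mem_Iio.mpr (hx.symm ▸ b.2.isLt))
        (Set.mem_Iio.mpr (hx.symm ▸ a.2.isLt)) e2).symm
    · rw [← Nat.card_eq_fintype_card, ← Nat.card_eq_fintype_card, Nat.card_prod, card_four F hx, hcD,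
        Nat.card_fin]
  obtain ⟨⟨w, i⟩, hwi⟩ := hf.2 ⟨g, mem_cen.mpr hgv, mem_cen.mpr hgx⟩
  exact ⟨w, w.2, i, (congrArg Subtype.val hwi).symm⟩

end CfsgLib.M22Order
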