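import Cfsg.Agent.Lib.M22Order.Pair

/-!
# Simple groups of order 443520: the sixteen over a four-group is not of order 64
-/

set_option autoImplicit false
set_option linter.unusedSectionVars false
set_option linter.style.haveILetI false

namespace CfsgLib.M22Order

open Cfsg CfsgLib

universe u

variable {G : Type u} [Group G] [Finite G]

theorem prod_injective {H K : Subgroup G} (h : H ⊓ K = ⊥) :
    Function.Injective fun p : H × K => (p.1 : G) * p.2 := by
  rintro ⟨a, b⟩ ⟨a', b'⟩ he
  have he' : (a : G) * b = a' * b' := he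
  have he2 : (a' : G)⁻¹ * a = b' * (b : G)⁻¹ := by
    rw [eq_mul_inv_iff_mul_eq, mul_assoc, he', inv_mul_cancel_left]
  have h1 : (a' : G)⁻¹ * a ∈ H ⊓ K :=
    ⟨H.mul_mem (H.inv_mem a'.2) a.2, by rw [he2]; exact K.mul_mem b'.2 (K.inv_mem b.2)⟩
  rw [h, Subgroup.mem_bot, inv_mul_eq_one] at h1
  have ha : a' = a := Subtype.ext h1
  subst ha
  exact Prod.ext rfl (Subtype.ext (mul_left_cancel he'))

theorem mul_card_le {H K L : Subgroup G} (h : H ⊓ K = ⊥) (hH : H ≤ L) (hK : K ≤ L) :
    Nat.card H * Nat.card K ≤ Nat.card L := by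
  rw [← Nat.card_prod]
  refine Nat.card_le_card_of_injective (fun p : H × K => (⟨p.1 * p.2, mul_mem (hH p.1.2) (hK p.2.2)⟩ : L)) ?_
  exact fun p q he => prod_injective h (congrArg Subtype.val he)

theorem exists_mul {H K L : Subgroup G} (h : H ⊓ K = ⊥) (hH : H ≤ L) (hK : K ≤ L)
    (hc : Nat.card L = Nat.card H * Nat.card K) {l : G} (hl : l ∈ L) :
    ∃ a ∈ H, ∃ b ∈ K, l = a * b := by
  have hb : Function.Bijective (fun p : H × K => (⟨p.1 * p.2, mul_mem (hH p.1.2) (hK p.2.2)⟩ : L)) :=
    (Nat.bijective_iff_injective_and_card _).mpr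
      ⟨fun p q he => prod_injective h (congrArg Subtype.val he), by rw [Nat.card_prod, hc]⟩
  obtain ⟨p, hp⟩ := hb.2 ⟨l, hl⟩
  exact ⟨p.1, p.1.2, p.2, p.2.2, (congrArg Subtype.val hp).symm⟩

/-- A proper subgroup of a finite 2-group grows in its normaliser. -/
theorem exists_norm {H Q : Subgroup G} (hle : H ≤ Q) (hlt : Nat.card H < Nat.card Q) (hp : IsPGroup 2 Q) :
    ∃ g ∈ Q, g ∉ H ∧ ∀ h ∈ H, g * h * g⁻¹ ∈ H := by
  haveI : Fact (Nat.Prime 2) := ⟨Nat.prime_two⟩
  haveI : Group.IsNilpotent Q := hp.isNilpotent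
  have hne : H.subgroupOf Q ≠ ⊤ := fun he => by
    have := Subgroup.card_le_of_le (Subgroup.subgroupOf_eq_top.mp he)
    omega
  obtain ⟨g, hg, hg'⟩ := SetLike.exists_of_lt
    (Group.normalizerCondition_of_isNilpotent _ (lt_top_iff_ne_top.mpr hne))
  refine ⟨g, g.2, fun h => hg' h, fun h hh => ?_⟩
  exact (Subgroup.mem_normalizer_iff.mp hg ⟨h, hle hh⟩).mp hh

theorem mem_norm {g : G} {H : Subgroup G} (h : ∀ k ∈ H, g * k * g⁻¹ ∈ H) :
    g ∈ Subgroup.normalizer (H : Set G) := by
  refine Subgroup.mem_normalizer_iff.mpr fun k => ⟨h k, fun hk => ?_⟩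
  have := conj_mem_inv h hk
  rwa [show g⁻¹ * (g * k * g⁻¹) * g = k by group] at this

theorem norm_conj {g k : G} {H : Subgroup G} (hg : g ∈ Subgroup.normalizer (H : Set G)) (hk : k ∈ H) :
    g * k * g⁻¹ ∈ H :=
  (Subgroup.mem_normalizer_iff.mp hg k).mp hk

variable (F : Facts G)
include F

/-- An element of order three fixing an element outside the four-group of `x` is not a power of `x`. -/
theorem fixer_not_mem {x y a : G} (hx : orderOf x = 3) (hy : orderOf y = 3) (ha : a ∉ four x)
    (hay : a * y = y * a) (hp : a ^ 128 = 1) : y ∉ Subgroup.zpowers x := fun h => by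
  refine ha (two_mem_four F hx ?_ hp)
  have he : Subgroup.zpowers y = Subgroup.zpowers x :=
    Subgroup.eq_of_le_of_card_ge (Subgroup.zpowers_le.mpr h) (by rw [Nat.card_zpowers, Nat.card_zpowers, hx, hy])
  obtain ⟨i, hi⟩ := Subgroup.mem_zpowers_iff.mp (he ▸ Subgroup.mem_zpowers x : x ∈ Subgroup.zpowers y)
  rw [← hi]
  exact ((show Commute a y from hay).zpow_right i).eq

/-- An `x`-invariant subgroup meets the four-group of a partner trivially or contains it. -/
theorem four_le_of_mem {x y a : G} (hx : orderOf x = 3) (hy : orderOf y = 3) (hxy : x * y = y * x)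
    (hne : y ∉ Subgroup.zpowers x) {K : Subgroup G} (hinv : ∀ k ∈ K, x * k * x⁻¹ ∈ K) (ha : a ∈ K)
    (ha4 : a ∈ four y) (ha1 : a ≠ 1) : four y ≤ K := by
  set D := K ⊓ four y with hD
  have hfix : D ⊓ Subgroup.centralizer ({x} : Set G) = ⊥ := by
    refine (Subgroup.eq_bot_iff_forall _).mpr fun k hk => ?_
    exact four_fix F hy hx hxy.symm (not_mem_zpowers_symm F hx hy hne) hk.1.2 (mem_cen.mp hk.2)
  have hmod := card_mod_of_fixed (pow_three_eq hx) D ⊥
    (fun k hk => ⟨hinv k hk.1, four_conj F hy hxy hk.2⟩) hfix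
  rw [Subgroup.card_bot] at hmod
  have hd : Nat.card D ∣ 4 := card_four F hy ▸ Subgroup.card_dvd_of_le inf_le_right
  have hne1 : Nat.card D ≠ 1 := fun h => ha1 (by
    have haD : a ∈ D := ⟨ha, ha4⟩
    rwa [Subgroup.card_eq_one.mp h, Subgroup.mem_bot] at haD)
  have hle := Nat.le_of_dvd (by norm_num) hd
  have h4 : Nat.card D = 4 := by interval_cases h : Nat.card D <;> omega
  exact (Subgroup.eq_of_le_of_card_ge (inf_le_right : D ≤ four y) (by rw [h4, card_four F hy])).ge.trans inf_le_left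

/-- An invariant subgroup of a 2-group containing the fixed points has order congruent to one. -/
theorem card_mod_four {x : G} (hx : orderOf x = 3) (K : Subgroup G) (hinv : ∀ k ∈ K, x * k * x⁻¹ ∈ K)
    (h2 : ∀ k ∈ K, k ^ 128 = 1) (hV : four x ≤ K) : Nat.card K % 3 = 1 := by
  rw [card_mod_of_fixed (pow_three_eq hx) K (four x) hinv
    (by rw [inf_cen_eq F hx K h2]; exact inf_eq_right.mpr hV), card_four F hx]

/-- The 2-group of order 64 normalises an invariant subgroup of order 16 over the four-group. -/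
theorem norm_of_sixteen {x : G} (hx : orderOf x = 3) {E Q : Subgroup G} (hQ : Nat.card Q = 64)
    (hE : Nat.card E = 16) (hle : E ≤ Q) (hV : four x ≤ E) (hQinv : ∀ k ∈ Q, x * k * x⁻¹ ∈ Q)
    (hEinv : ∀ k ∈ E, x * k * x⁻¹ ∈ E) {q : G} (hq : q ∈ Q) : q ∈ Subgroup.normalizer (E : Set G) := by
  set N := Q ⊓ Subgroup.normalizer (E : Set G) with hN
  have hxN : x ∈ Subgroup.normalizer (E : Set G) := mem_norm hEinv
  have h128 : ∀ k ∈ Q, k ^ 128 = 1 := fun k hk => by
    have h : (⟨k, hk⟩ : Q) ^ 64 = 1 := hQ ▸ pow_card_eq_one'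
    rw [show 128 = 64 * 2 by norm_num, pow_mul, show k ^ 64 = 1 from congrArg Subtype.val h, one_pow]
  have hEN : E ≤ N := le_inf hle Subgroup.le_normalizer
  have hmod := card_mod_four F hx N
    (fun k hk => ⟨hQinv k hk.1,
      Subgroup.mul_mem _ (Subgroup.mul_mem _ hxN hk.2) (Subgroup.inv_mem _ hxN)⟩) (fun k hk => h128 k hk.1) (hV.trans hEN)
  obtain ⟨g, hg, hgE, hgn⟩ := exists_norm hle (by omega) (IsPGroup.of_card (n := 6) (by rw [hQ]; norm_num))
  have hlt : Nat.card E < Nat.card N := by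
    refine Nat.lt_of_le_of_ne (Subgroup.card_le_of_le hEN) fun e => hgE ?_
    rw [Subgroup.eq_of_le_of_card_ge hEN e.ge]
    exact ⟨hg, mem_norm hgn⟩
  have hd : Nat.card N ∣ 64 := hQ ▸ Subgroup.card_dvd_of_le inf_le_left
  have hd' : 16 ∣ Nat.card N := hE ▸ Subgroup.card_dvd_of_le hEN
  obtain ⟨m, hm⟩ := hd'
  rw [hm] at hd hmod hlt
  have hm4 : m ∣ 4 := Nat.dvd_of_mul_dvd_mul_left (by norm_num : 0 < 16) hd
  have h64 : Nat.card N = 64 := by
    have hle4 := Nat.le_of_dvd (by norm_num) hm4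
    rw [hm]
    interval_cases m <;> omega
  exact ((Subgroup.eq_of_le_of_card_ge (inf_le_left : N ≤ Q) (by rw [h64, hQ])).ge hq).2

/-- A partner relation is symmetric. -/
theorem partner_symm {x y : G} (hx : orderOf x = 3) (hy : orderOf y = 3) (hxy : x * y = y * x)
    (hle : four y ≤ sixteen x) : four x ≤ sixteen y := by
  obtain ⟨u, hu, hou⟩ := four_ne_bot F hy
  have hyu := (four_comm F hy hu).symm
  rw [sixteen_eq F hou hy hyu]
  refine le_inf (le_core F hou hy hyu ?_ ?_ fun k hk => four_conj F hx hxy.symm hk) ?_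
  · exact fun v hv => mem_cen.mpr (sixteen_comm F (hle hu) hv).symm
  · exact fun k hk => by rw [show (128 : ℕ) = 2 * 64 from rfl, pow_mul, pow_two k, four_sq F hx hk, one_pow]
  · exact fun v hv => Subgroup.mem_centralizer_iff.mpr fun b hb => sixteen_comm F (hle hb) hv

variable (hbig : ∀ x : G, orderOf x = 3 → Nat.card (sixteen x) = 64)
include hbig

theorem core_eq_sixteen {t x : G} (ht : orderOf t = 2) (hx : orderOf x = 3) (htx : t ∈ four x) :
    sixteen x = core t := by
  refine Subgroup.eq_of_le_of_card_ge ?_ (by rw [card_core F ht, hbig x hx])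
  rw [sixteen_eq F ht hx (four_comm F hx htx).symm]
  exact inf_le_left

/-- The centre of the sixteen is the four-group. -/
theorem sixteen_center {x q : G} (hx : orderOf x = 3) (hq : q ∈ sixteen x)
    (hc : ∀ a ∈ sixteen x, a * q = q * a) : q ∈ four x := by
  classical
  set A := sixteen x with hA
  set V := four x with hV
  set Z := A ⊓ Subgroup.centralizer (A : Set G) with hZ
  have hVA : V ≤ A := four_le_sixteen F hx
  have hVZ : V ≤ Z := le_inf hVA fun v hv => Subgroup.mem_centralizer_iff.mpr fun a ha => sixteen_comm F ha hv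
  have hAc : ∀ g : G, g * x = x * g → ∀ a ∈ A, g * a * g⁻¹ ∈ A := fun g hg a ha =>
    sixteen_conj F (fun v hv => four_conj F hx hg hv) ha
  have hZc : ∀ g : G, g * x = x * g → ∀ a ∈ Z, g * a * g⁻¹ ∈ Z := by
    intro g hg a ha
    refine ⟨hAc g hg a ha.1, Subgroup.mem_centralizer_iff.mpr fun b hb => ?_⟩
    have h := Subgroup.mem_centralizer_iff.mp ha.2 _ (conj_mem_inv (hAc g hg) hb)
    calc b * (g * a * g⁻¹) = g * (g⁻¹ * b * g * a) * g⁻¹ := by group
      _ = g * a * g⁻¹ * b := by rw [h]; group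
  have hmod := card_mod_four F hx Z (hZc x rfl) (fun k hk => sixteen_pow F hx hk.1) hVZ
  have hdZ : Nat.card Z ∣ 64 := hbig x hx ▸ Subgroup.card_dvd_of_le inf_le_left
  have h4 : 4 ∣ Nat.card Z := card_four F hx ▸ Subgroup.card_dvd_of_le hVZ
  have hqZ : q ∈ Z := ⟨hq, Subgroup.mem_centralizer_iff.mpr hc⟩
  by_contra hqV
  have hZne : Nat.card Z ≠ 4 := fun h => hqV (by
    rw [Subgroup.eq_of_le_of_card_ge hVZ (by rw [h, card_four F hx])]; exact hqZ)
  have hZ' : Nat.card Z = 16 ∨ Nat.card Z = 64 := by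
    obtain ⟨m, hm⟩ := h4
    rw [hm] at hdZ hmod hZne ⊢
    have h16 : m ∣ 16 := Nat.dvd_of_mul_dvd_mul_left (by norm_num : 0 < 4) hdZ
    have := Nat.le_of_dvd (by norm_num) h16
    interval_cases m <;> omega
  rcases hZ' with h16 | h64
  · -- a second four-group generates the sixteen over the centre
    have hTn : ((A : Set G) \ (Z : Set G)).ncard = 48 := by
      rw [Set.ncard_sdiff (show (Z : Set G) ⊆ A from fun a ha => ha.1), ← Nat.card_coe_set_eq,
        ← Nat.card_coe_set_eq]
      show Nat.card A - Nat.card Z = 48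
      rw [hbig x hx, h16]
    obtain ⟨y, hy, hyx, a, ha, hay⟩ := exists_fixer F hx ((A : Set G) \ Z) (fun g hg _ a ha =>
        ⟨hAc g hg a ha.1, fun h => ha.2 (by
          have := conj_mem_inv (hZc g hg) h
          rwa [show g⁻¹ * (g * a * g⁻¹) * g = a by group] at this)⟩) (by rw [hTn]; norm_num)
    have ha2 := sixteen_pow F hx ha.1
    have hne := fixer_not_mem F hx hy (fun h => ha.2 (hVZ h)) hay ha2
    have ha4 : a ∈ four y := two_mem_four F hy hay ha2
    have ha1 : a ≠ 1 := fun e => ha.2 (e ▸ one_mem Z)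
    have hyA : four y ≤ A := four_le_of_mem F hx hy hyx.symm hne (hAc x rfl) ha.1 ha4 ha1
    have hdis : Z ⊓ four y = ⊥ := by
      refine (Subgroup.eq_bot_iff_forall _).mpr fun b hb => ?_
      by_contra hb1
      exact ha.2 (four_le_of_mem F hx hy hyx.symm hne (hZc x rfl) hb.1 hb.2 hb1 ha4)
    refine ha.2 ⟨ha.1, Subgroup.mem_centralizer_iff.mpr fun b hb => ?_⟩
    obtain ⟨c, hc', d, hd', rfl⟩ := exists_mul hdis inf_le_left hyA
      (by rw [hbig x hx, h16, card_four F hy]) hb
    exact (((show Commute c a from (Subgroup.mem_centralizer_iff.mp hc'.2 a ha.1).symm)).mul_left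
      (four_comm_four F hy hd' ha4)).eq
  · -- the sixteen is abelian
    have hZA : Z = A := Subgroup.eq_of_le_of_card_ge inf_le_left (by rw [h64, hbig x hx])
    have hab : ∀ a ∈ A, ∀ b ∈ A, b * a = a * b := fun a ha b hb =>
      Subgroup.mem_centralizer_iff.mp (hZA.ge ha).2 b hb
    let O : Subgroup G :=
      { carrier := {a | a ∈ A ∧ a * a = 1}
        one_mem' := ⟨one_mem _, one_mul 1⟩
        mul_mem' := fun {a b} ha hb => ⟨mul_mem ha.1 hb.1, by
          rw [show a * b * (a * b) = a * (b * a) * b by group, hab a ha.1 b hb.1, ← mul_assoc, ha.2, one_mul,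
            hb.2]⟩
        inv_mem' := fun {a} ha => ⟨inv_mem ha.1, by rw [← mul_inv_rev, ha.2, inv_one]⟩ }
    have hOA : O ≤ A := fun a ha => ha.1
    have hVO : V ≤ O := fun v hv => ⟨hVA hv, four_sq F hx hv⟩
    have hOc : ∀ g : G, g * x = x * g → ∀ a ∈ O, g * a * g⁻¹ ∈ O := fun g hg a ha =>
      ⟨hAc g hg a ha.1, by rw [show g * a * g⁻¹ * (g * a * g⁻¹) = g * (a * a) * g⁻¹ by group, ha.2]; group⟩
    have hlt : Nat.card O ≠ 64 := by
      intro h
      have hOe : O = A := Subgroup.eq_of_le_of_card_ge hOA (by rw [h, hbig x hx])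
      exact F.no_elem_sixty_four A (hbig x hx) fun a ha => (hOe.ge ha).2
    have hd : Nat.card O ∣ 64 := hbig x hx ▸ Subgroup.card_dvd_of_le hOA
    have hd4 : 4 ∣ Nat.card O := card_four F hx ▸ Subgroup.card_dvd_of_le hVO
    have hm := card_mod_four F hx O (hOc x rfl) (fun k hk => sixteen_pow F hx hk.1) hVO
    have h9 : ¬ 9 ∣ 64 - Nat.card O := by
      obtain ⟨m, hm'⟩ := hd4
      rw [hm'] at hd hm hlt ⊢
      have h16' : m ∣ 16 := Nat.dvd_of_mul_dvd_mul_left (by norm_num : 0 < 4) hd
      have := Nat.le_of_dvd (by norm_num) h16'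
      interval_cases m <;> omega
    obtain ⟨y, hy, -, a, ha, hay⟩ := exists_fixer F hx ((A : Set G) \ O) (fun g hg _ a ha =>
        ⟨hAc g hg a ha.1, fun h => ha.2 (by
          have := conj_mem_inv (hOc g hg) h
          rwa [show g⁻¹ * (g * a * g⁻¹) * g = a by group] at this)⟩) (by
      rw [Set.ncard_sdiff (show (O : Set G) ⊆ A from hOA), ← Nat.card_coe_set_eq, ← Nat.card_coe_set_eq]
      show ¬ 9 ∣ Nat.card A - Nat.card O
      rwa [hbig x hx])
    exact ha.2 ⟨ha.1, four_sq F hy (two_mem_four F hy hay (sixteen_pow F hx ha.1))⟩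

/-- Two four-groups sharing an involution coincide. -/
theorem four_eq_of_common {x z u : G} (hx : orderOf x = 3) (hz : orderOf z = 3) (hu : orderOf u = 2)
    (hux : u ∈ four x) (huz : u ∈ four z) : four z = four x := by
  refine Subgroup.eq_of_le_of_card_ge (fun v hv => ?_) (by rw [card_four F hx, card_four F hz])
  have he : sixteen z = sixteen x :=
    (core_eq_sixteen F hbig hu hz huz).trans (core_eq_sixteen F hbig hu hx hux).symm
  exact sixteen_center F hbig hx (he ▸ four_le_sixteen F hz hv)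
    fun a ha => sixteen_comm F (he ▸ ha) hv

variable {x y : G} (hx : orderOf x = 3) (hy : orderOf y = 3) (hxy : x * y = y * x)
  (hne : y ∉ Subgroup.zpowers x) (hle : four y ≤ sixteen x)
include hx hy hxy hne hle

theorem card_pair : Nat.card ↥(sixteen x ⊓ Subgroup.centralizer (four y : Set G)) = 16 := by
  set E := sixteen x ⊓ Subgroup.centralizer (four y : Set G) with hE
  have hVE : four x ≤ E := le_inf (four_le_sixteen F hx)
    fun v hv => Subgroup.mem_centralizer_iff.mpr fun b hb => sixteen_comm F (hle hb) hv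
  have hYE : four y ≤ E := le_inf hle
    fun v hv => Subgroup.mem_centralizer_iff.mpr fun b hb => four_comm_four F hy hb hv
  have hge := mul_card_le (four_inf_four F hx hy hxy hne) hVE hYE
  rw [card_four F hx, card_four F hy] at hge
  have hinv : ∀ k ∈ E, x * k * x⁻¹ ∈ E := by
    intro k hk
    refine ⟨sixteen_conj F (fun v hv => four_conj F hx rfl hv) hk.1, Subgroup.mem_centralizer_iff.mpr ?_⟩
    intro b hb
    have h := Subgroup.mem_centralizer_iff.mp hk.2 _ (conj_mem_inv (fun w hw => four_conj F hy hxy hw) hb)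
    calc b * (x * k * x⁻¹) = x * (x⁻¹ * b * x * k) * x⁻¹ := by group
      _ = x * k * x⁻¹ * b := by rw [h]; group
  have hmod := card_mod_four F hx E hinv (fun k hk => sixteen_pow F hx hk.1) hVE
  have hd : Nat.card E ∣ 64 := hbig x hx ▸ Subgroup.card_dvd_of_le inf_le_left
  have hne64 : Nat.card E ≠ 64 := by
    intro h
    have he : E = sixteen x := Subgroup.eq_of_le_of_card_ge inf_le_left (by rw [h, hbig x hx])
    obtain ⟨u, hu, hou⟩ := four_ne_bot F hy
    have huV := sixteen_center F hbig hx (hle hu)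
      fun a ha => (Subgroup.mem_centralizer_iff.mp (he.ge ha).2 u hu).symm
    have hb : u ∈ four x ⊓ four y := ⟨huV, hu⟩
    rw [four_inf_four F hx hy hxy hne, Subgroup.mem_bot] at hb
    exact ne_one_of_order hou le_rfl hb
  obtain ⟨k, hk, hk'⟩ := (Nat.dvd_prime_pow Nat.prime_two (m := 6)).mp hd
  rw [hk'] at hmod hne64 hge ⊢
  revert hmod hne64 hge
  interval_cases k <;> norm_num

theorem four_le_pair : four x ≤ sixteen x ⊓ Subgroup.centralizer (four y : Set G) ∧
    four y ≤ sixteen x ⊓ Subgroup.centralizer (four y : Set G) :=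
  ⟨le_inf (four_le_sixteen F hx)
      fun _ hv => Subgroup.mem_centralizer_iff.mpr fun _ hb => sixteen_comm F (hle hb) hv,
    le_inf hle fun _ hv => Subgroup.mem_centralizer_iff.mpr fun _ hb => four_comm_four F hy hb hv⟩

theorem mem_pair {e : G} (he : e ∈ sixteen x ⊓ Subgroup.centralizer (four y : Set G)) :
    ∃ v ∈ four x, ∃ b ∈ four y, e = v * b :=
  exists_mul (four_inf_four F hx hy hxy hne) (four_le_pair F hbig hx hy hxy hne hle).1
    (four_le_pair F hbig hx hy hxy hne hle).2
    (by rw [card_pair F hbig hx hy hxy hne hle, card_four F hx, card_four F hy]) he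

theorem pair_symm : sixteen y ⊓ Subgroup.centralizer (four x : Set G) =
    sixteen x ⊓ Subgroup.centralizer (four y : Set G) := by
  have hne' := not_mem_zpowers_symm F hx hy hne
  have hle' := partner_symm F hx hy hxy hle
  obtain ⟨h1, h2⟩ := four_le_pair F hbig hx hy hxy hne hle
  refine Subgroup.eq_of_le_of_card_ge (fun e he => ?_)
    (by rw [card_pair F hbig hx hy hxy hne hle, card_pair F hbig hy hx hxy.symm hne' hle'])
  obtain ⟨v, hv, b, hb, rfl⟩ := mem_pair F hbig hy hx hxy.symm hne' hle' he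
  exact mul_mem (h2 hv) (h1 hb)

/-- An element of the sixteen normalising the four-group of the partner lies in the pair group. -/
theorem norm_four_mem {q : G} (hq : q ∈ sixteen x) (hn : ∀ b ∈ four y, q * b * q⁻¹ ∈ four y) :
    q ∈ sixteen x ⊓ Subgroup.centralizer (four y : Set G) := by
  classical
  set A := sixteen x with hA
  set E := A ⊓ Subgroup.centralizer (four y : Set G) with hE
  set N := A ⊓ Subgroup.normalizer (four y : Set G) with hN
  have hEN : E ≤ N := le_inf inf_le_left fun k hk => mem_norm fun b hb => by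
    rw [← Subgroup.mem_centralizer_iff.mp hk.2 b hb, mul_inv_cancel_right]; exact hb
  obtain ⟨h1, -⟩ := four_le_pair F hbig hx hy hxy hne hle
  have hxN : x ∈ Subgroup.normalizer (four y : Set G) := mem_norm fun b hb => four_conj F hy hxy hb
  have hmod := card_mod_four F hx N
    (fun k hk => ⟨sixteen_conj F (fun v hv => four_conj F hx rfl hv) hk.1,
      Subgroup.mul_mem _ (Subgroup.mul_mem _ hxN hk.2) (Subgroup.inv_mem _ hxN)⟩) (fun k hk => sixteen_pow F hx hk.1) (h1.trans hEN)
  have hd : Nat.card N ∣ 64 := hbig x hx ▸ Subgroup.card_dvd_of_le inf_le_left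
  have hge := Subgroup.card_le_of_le hEN
  rw [card_pair F hbig hx hy hxy hne hle] at hge
  have hne64 : Nat.card N ≠ 64 := by
    intro h
    have he : N = A := Subgroup.eq_of_le_of_card_ge inf_le_left (by rw [h, hbig x hx])
    haveI : Fact (Nat.Prime 2) := ⟨Nat.prime_two⟩
    letI : MulAction A (four y) :=
      { smul := fun a b => ⟨(a : G) * b * (a : G)⁻¹, norm_conj (he.ge a.2).2 b.2⟩
        one_smul := fun b => Subtype.ext (by show (1 : G) * b * (1 : G)⁻¹ = b; group)
        mul_smul := fun a a' b => Subtype.ext (by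
          show (a : G) * a' * b * ((a : G) * a')⁻¹ = (a : G) * ((a' : G) * b * (a' : G)⁻¹) * (a : G)⁻¹
          group) }
    obtain ⟨b, hb, hb1⟩ := (IsPGroup.of_card (G := A) (p := 2) (n := 6) (by rw [hA, hbig x hx]; norm_num)
      ).exists_fixed_point_of_prime_dvd_card_of_fixed_point (four y) (by rw [card_four F hy]; norm_num)
      (a := 1) (fun a => Subtype.ext (by show (a : G) * (1 : G) * (a : G)⁻¹ = 1; group))
    have hbV := sixteen_center F hbig hx (hle b.2) fun a ha => by
      have h' : a * (b : G) * a⁻¹ = b := congrArg Subtype.val (hb ⟨a, ha⟩)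
      exact mul_inv_eq_iff_eq_mul.mp h'
    have hbb : (b : G) ∈ four x ⊓ four y := ⟨hbV, b.2⟩
    rw [four_inf_four F hx hy hxy hne, Subgroup.mem_bot] at hbb
    exact hb1 (Subtype.ext hbb).symm
  have h16 : Nat.card N = 16 := by
    obtain ⟨k, hk, hk'⟩ := (Nat.dvd_prime_pow Nat.prime_two (m := 6)).mp hd
    rw [hk'] at hmod hne64 hge ⊢
    revert hmod hne64 hge
    interval_cases k <;> norm_num
  rw [Subgroup.eq_of_le_of_card_ge hEN (by rw [h16, card_pair F hbig hx hy hxy hne hle])]
  exact ⟨hq, mem_norm hn⟩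

theorem pair_norm {q : G} (hq : q ∈ sixteen x) :
    q ∈ Subgroup.normalizer ((sixteen x ⊓ Subgroup.centralizer (four y : Set G) : Subgroup G) : Set G) := by
  refine norm_of_sixteen F hx (hbig x hx) (card_pair F hbig hx hy hxy hne hle) inf_le_left
    (four_le_pair F hbig hx hy hxy hne hle).1
    (fun k hk => sixteen_conj F (fun v hv => four_conj F hx rfl hv) hk) ?_ hq
  intro k hk
  refine ⟨sixteen_conj F (fun v hv => four_conj F hx rfl hv) hk.1, Subgroup.mem_centralizer_iff.mpr ?_⟩
  intro b hb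
  have h := Subgroup.mem_centralizer_iff.mp hk.2 _ (conj_mem_inv (fun w hw => four_conj F hy hxy hw) hb)
  calc b * (x * k * x⁻¹) = x * (x⁻¹ * b * x * k) * x⁻¹ := by group
    _ = x * k * x⁻¹ * b := by rw [h]; group

end CfsgLib.M22Order
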