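import Cfsg.Agent.Lib.M22Order.CharDefs
import Cfsg.Agent.Lib.M12Order.Entries

/-!
# Simple groups of order 443520: the principal blocks as lists
-/

set_option autoImplicit false
set_option linter.unusedSectionVars false
set_option linter.style.haveILetI false

namespace CfsgLib.M22Order

open Cfsg
open scoped ComplexConjugate CfsgLib.Char
open CfsgLib CfsgLib.BrauerTuan
open scoped _root_.Classical

universe u

/-- Every list with entries in `l` is a permutation of one of the combinations. -/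
theorem exists_mem_combos : ∀ (l s : List ℤ), (∀ a ∈ s, a ∈ l) → ∃ s' ∈ combos l s.length, s'.Perm s
  | [], s, h => by
    cases s with
    | nil => exact ⟨[], by simp [combos], List.Perm.refl _⟩
    | cons a s => exact absurd (h a List.mem_cons_self) (by simp)
  | a :: l, s, h => by
    obtain ⟨s', hs', hperm⟩ := exists_mem_combos l (s.filter fun x => !decide (x = a)) fun x hx => by
      obtain ⟨h1, h2⟩ := List.mem_filter.mp hx
      rcases List.mem_cons.mp (h x h1) with e | e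
      · simp [e] at h2
      · exact e
    have hrep : s.filter (fun x => decide (x = a)) = List.replicate (s.count a) a := by
      rw [List.filter_eq]
    have hp := List.filter_append_perm (fun x => decide (x = a)) s
    rw [hrep] at hp
    have hlen := hp.length_eq
    rw [List.length_append, List.length_replicate] at hlen
    refine ⟨List.replicate (s.count a) a ++ s', ?_, (hperm.append_left _).trans hp⟩
    simp only [combos, List.mem_flatMap, List.mem_range, List.mem_map]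
    refine ⟨s.count a, by omega, s', ?_, rfl⟩
    rwa [show s.length - s.count a = (s.filter fun x => !decide (x = a)).length by omega]

/-- A permutation of the image of a list comes from a permutation of the list. -/
theorem exists_perm_map {α β : Type*} (f : α → β) :
    ∀ (s : List β) (l : List α), s.Perm (l.map f) → ∃ l' : List α, l'.Perm l ∧ l'.map f = s
  | [], l, h => ⟨l, List.Perm.refl _, by rw [← List.nil_perm.mp h]⟩
  | b :: s, l, h => by
    obtain ⟨a, ha, hab⟩ := List.mem_map.mp (h.subset List.mem_cons_self)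
    have h1 := List.perm_cons_erase ha
    obtain ⟨l', hl', hmap⟩ := exists_perm_map f s (l.erase a) (by
      refine List.Perm.cons_inv (a := b) (h.trans ?_)
      rw [← hab, ← List.map_cons]
      exact h1.map f)
    exact ⟨a :: l', (hl'.cons a).trans h1.symm, by rw [List.map_cons, hab, hmap]⟩

theorem sgn_mul {δ : ℤ} (hδ : δ = 1 ∨ δ = -1) {d : ℕ} (hd : 0 < d) :
    sgn (δ * (d : ℤ)) = δ ∧ (δ * (d : ℤ)).natAbs = d := by
  rcases hδ with rfl | rfl
  · rw [sgn, if_pos (by omega)]; exact ⟨rfl, by omega⟩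
  · rw [sgn, if_neg (by omega)]; exact ⟨rfl, by omega⟩

variable {G : Type u} [Group G] [Fintype G]

/-- The degree of a character. -/
noncomputable def deg (χ : IrrCharacter G) : ℕ := charDegree (χ : G → ℂ)

theorem deg_pos (χ : IrrCharacter G) : 0 < deg χ := Char.OddDegreeSum.charDegree_pos χ

theorem value_one' (χ : IrrCharacter G) : (χ : G → ℂ) 1 = (deg χ : ℂ) := BrauerReynolds.value_one χ

theorem deg_triv : deg (Blocks.trivIrr G) = 1 := BrauerReynolds.degree_triv

/-- A principal block, numbered, with the candidate that describes it. -/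
structure PBlk (G : Type u) [Group G] [Fintype G] (p : ℕ) [Fact p.Prime] (o : Opt) where
  T : OrderCtx G 443520 p [5, 7, 11] 665 o.k
  p_eq : o.p = p
  e_eq : T.D.e = o.e
  xl : List (IrrCharacter G)
  yl : List (IrrCharacter G)
  nodup : (Blocks.trivIrr G :: (xl ++ yl)).Nodup
  xs_sgn : ∀ χ ∈ xl, ∃ x ∈ o.xs, x.natAbs = deg χ
  xs_map : ∃ σ : IrrCharacter G → ℤ, (∀ χ ∈ xl, σ χ = 1 ∨ σ χ = -1) ∧
    o.xs = xl.map (fun χ => σ χ * (deg χ : ℤ)) ∧
    (∀ χ ∈ xl, ∀ v ∈ (T.P : Subgroup G), v ≠ 1 → ∀ y ∈ Subgroup.centralizer ((T.P : Subgroup G) : Set G),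
      ¬ p ∣ orderOf y → (χ : G → ℂ) (v * y) = σ χ) ∧
    (o.y = none → ∀ g, ¬ p ∣ orderOf g → 1 + (xl.map fun χ : IrrCharacter G => (σ χ : ℂ) * (χ : G → ℂ) g).sum = 0) ∧
    (∀ y, o.y = some y → ∀ ψ ∈ yl, ∀ g, ¬ p ∣ orderOf g →
      (sgn y : ℂ) * (ψ : G → ℂ) g = 1 + (xl.map fun χ : IrrCharacter G => (σ χ : ℂ) * (χ : G → ℂ) g).sum)
  yl_none : o.y = none → yl = []
  yl_some : ∀ y, o.y = some y → yl.length = o.t ∧ (∀ ψ ∈ yl, deg ψ = y.natAbs) ∧
    (∀ v ∈ (T.P : Subgroup G), v ≠ 1 → (yl.map fun ψ : IrrCharacter G => (ψ : G → ℂ) v).sum = -(sgn y : ℂ))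
  degs_eq : (xl ++ yl).map deg = o.degs
  not_dvd : ∀ χ ∈ xl ++ yl, ¬ p ∣ deg χ
  cover : ∀ χ ∈ T.D.X ∪ T.D.Y, χ ∈ Blocks.trivIrr G :: (xl ++ yl)

variable [IsSimpleGroup G] {p : ℕ} [Fact p.Prime]

theorem not_dvd_of_mod {d : ℕ} {a : ℤ} (ha : ¬ (p : ℤ) ∣ a) (h : (d : ℤ) ≡ a [ZMOD p]) : ¬ p ∣ d := by
  intro hd
  refine ha ?_
  have h1 := Int.modEq_iff_dvd.mp h
  have h2 : (p : ℤ) ∣ (d : ℤ) := Int.natCast_dvd_natCast.mpr hd
  simpa using dvd_add h1 h2

/-- The principal block fits one of the candidates. -/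
theorem exists_pblk {k : ℕ} (T : OrderCtx G 443520 p [5, 7, 11] 665 k) {e : ℕ} (he : T.D.e = e)
    {X Y : List ℤ} (kp : ℤ → Bool)
    (hkp : ∀ χ ∈ T.D.X ∪ T.D.Y, χ ≠ Blocks.trivIrr G → ∀ s : ℤ, (s = 1 ∨ s = -1) → kp (s * (deg χ : ℤ)) = true)
    (hX : (xList 443520 p k (e * (1 + T.D.n * p)) [5, 7, 11] 665).filter kp = X)
    (hY : e + 1 ≠ p → (yList 443520 p k (e * (1 + T.D.n * p)) e [5, 7, 11] 665).filter kp = Y) :
    ∃ xs y, (⟨p, k, e, xs, y⟩ : Opt) ∈ optsFrom p k e X Y ∧ Nonempty (PBlk G p ⟨p, k, e, xs, y⟩) := by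
  subst he
  have hp : p.Prime := Fact.out
  have het := T.D.het
  have h1 : ∀ s : ℤ, (s = 1 ∨ s = -1) → ¬ (p : ℤ) ∣ s := by
    intro s hs h
    have := Int.le_of_dvd (by norm_num) (show (p : ℤ) ∣ 1 by rcases hs with rfl | rfl <;> simpa using h)
    have := hp.two_le
    omega
  by_cases ht : T.D.t = 1
  · obtain ⟨E, σ, hEc, hET, hins, hσT, hprop, hmem, hrel⟩ := M12Order.exists_block_one T ht
    have hsub : ∀ χ ∈ E, χ ∈ T.D.X ∪ T.D.Y := fun χ hχ => hins ▸ Finset.mem_insert_of_mem hχ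
    have hne : ∀ χ ∈ E, χ ≠ Blocks.trivIrr G := fun χ hχ h => hET (h ▸ hχ)
    obtain ⟨s', hs', hperm⟩ := exists_mem_combos X (E.toList.map fun χ => σ χ * (deg χ : ℤ)) fun a ha => by
      obtain ⟨χ, hχ, rfl⟩ := List.mem_map.mp ha
      rw [Finset.mem_toList] at hχ
      rw [← hX, List.mem_filter]
      exact ⟨hmem χ hχ, hkp χ (hsub χ hχ) (hne χ hχ) _ (hprop χ (Finset.mem_insert_of_mem hχ)).1⟩
    rw [List.length_map, Finset.length_toList, hEc] at hs'
    obtain ⟨xl, hxl, hmap⟩ := exists_perm_map _ s' E.toList hperm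
    have hxmem : ∀ χ, χ ∈ xl ↔ χ ∈ E := fun χ => hxl.mem_iff.trans Finset.mem_toList
    have hnd : xl.Nodup := hxl.nodup_iff.mpr E.nodup_toList
    have hsum : ∀ f : IrrCharacter G → ℂ, (xl.map f).sum = ∑ χ ∈ E, f χ := fun f => by
      rw [(hxl.map f).sum_eq, Finset.sum_map_toList]
    have hxs : s'.sum = -1 := by
      have h := hrel 1 (orderOf_one (G := G) ▸ hp.not_dvd_one)
      have h' : ((1 + ∑ χ ∈ E, σ χ * (deg χ : ℤ) : ℤ) : ℂ) = ((0 : ℤ) : ℂ) := by
        push_cast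
        simp only [deg]
        rw [← h]
        simp only [BrauerReynolds.value_one]
      have h'' := Int.cast_injective h'
      rw [hperm.sum_eq, Finset.sum_map_toList]
      omega
    have hd : ∀ χ ∈ xl, (σ χ * (deg χ : ℤ)).natAbs = deg χ := fun χ hχ =>
      (sgn_mul (hprop χ (Finset.mem_insert_of_mem ((hxmem χ).mp hχ))).1 (deg_pos χ)).2
    refine ⟨s', none, ?_, ⟨⟨T, rfl, rfl, xl, [], ?_, ?_, ⟨σ, ?_, hmap.symm, ?_, ?_, ?_⟩, fun _ => rfl, ?_, ?_,
      ?_, ?_⟩⟩⟩
    · rw [optsFrom, if_pos (by rw [ht, mul_one] at het; omega)]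
      exact List.mem_filterMap.mpr ⟨s', hs', by rw [if_pos hxs]⟩
    · rw [List.append_nil, List.nodup_cons]
      exact ⟨fun h => hET ((hxmem _).mp h), hnd⟩
    · intro χ hχ
      exact ⟨σ χ * (deg χ : ℤ), hmap ▸ List.mem_map_of_mem hχ, hd χ hχ⟩
    · exact fun χ hχ => (hprop χ (Finset.mem_insert_of_mem ((hxmem χ).mp hχ))).1
    · exact fun χ hχ => (hprop χ (Finset.mem_insert_of_mem ((hxmem χ).mp hχ))).2
    · intro _ g hg
      rw [hsum]
      exact hrel g hg
    · intro y h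
      simp at h
    · intro y h
      simp at h
    · simp only [List.append_nil, Opt.degs, ← hmap, List.map_map]
      exact (List.map_congr_left fun χ hχ => by simp only [Function.comp, hd χ hχ]).symm
    · intro χ hχ
      rw [List.append_nil] at hχ
      have hx := hsub χ ((hxmem χ).mp hχ)
      rcases Finset.mem_union.mp hx with h | h
      · exact not_dvd_of_mod (h1 _ (T.D.hδ χ h)) (T.D.degX χ h)
      · refine not_dvd_of_mod ?_ (T.D.degY χ h)
        intro hdv
        rcases (Int.prime_iff_natAbs_prime.mpr (by simpa using hp)).dvd_or_dvd hdv with h' | h'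
        · exact h1 _ T.D.hε h'
        · have := Nat.le_of_dvd (by have := T.D.two_le_e; omega) (Int.natCast_dvd_natCast.mp h')
          rw [ht, mul_one] at het
          omega
    · intro χ hχ
      rw [← hins, Finset.mem_insert] at hχ
      rw [List.append_nil, List.mem_cons]
      exact hχ.imp_right (hxmem χ).mpr
  · have ht2 : 2 ≤ T.D.t := by have := T.D.one_le_t; omega
    have hone : ¬ p ∣ orderOf (1 : G) := orderOf_one (G := G) ▸ hp.not_dvd_one
    obtain ⟨v, hv, hv1⟩ := M12Order.exists_ne_one_P T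
    have hT : Blocks.trivIrr G ∈ T.D.X := by
      rcases Finset.mem_union.mp T.D.triv with h | h
      · exact h
      exfalso
      obtain ⟨ψ', hψ', hne⟩ := Finset.exists_mem_ne (show 1 < T.D.Y.card by rw [T.D.card_Y]; omega)
        (Blocks.trivIrr G)
      have h1 := T.D.degY_eq ψ' hψ' _ h
      rw [BrauerReynolds.degree_triv] at h1
      exact (BrauerReynolds.one_lt_degree_of_simple T.noncomm hne).ne' h1
    have hδT : T.D.δ (Blocks.trivIrr G) = 1 := by
      have h := T.D.valX _ hT v hv hv1 1 (one_mem _) hone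
      have h' : ((1 : ℤ) : ℂ) = (T.D.δ (Blocks.trivIrr G) : ℂ) := by rw [← h]; simp [Blocks.trivIrr]
      exact (Int.cast_injective h').symm
    obtain ⟨E, hE⟩ : ∃ E, E = T.D.X.erase (Blocks.trivIrr G) := ⟨_, rfl⟩
    have hsub : ∀ χ ∈ E, χ ∈ T.D.X := fun χ hχ => Finset.mem_of_mem_erase (hE ▸ hχ)
    have hne : ∀ χ ∈ E, χ ≠ Blocks.trivIrr G := fun χ hχ => Finset.ne_of_mem_erase (hE ▸ hχ)
    have hEc : E.card = T.D.e - 1 := by rw [hE, Finset.card_erase_of_mem hT, T.D.card_X]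
    obtain ⟨s', hs', hperm⟩ := exists_mem_combos X (E.toList.map fun χ => T.D.δ χ * (deg χ : ℤ)) fun a ha => by
      obtain ⟨χ, hχ, rfl⟩ := List.mem_map.mp ha
      rw [Finset.mem_toList] at hχ
      rw [← hX, List.mem_filter]
      exact ⟨M12Order.entry_mem T (hne χ hχ) (T.D.dvdX χ (hsub χ hχ)) (T.D.hδ χ (hsub χ hχ))
          (Int.modEq_iff_dvd.mp (T.D.degX χ (hsub χ hχ)).symm) (T.D.valX χ (hsub χ hχ)),
        hkp χ (Finset.mem_union_left _ (hsub χ hχ)) (hne χ hχ) _ (T.D.hδ χ (hsub χ hχ))⟩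
    rw [List.length_map, Finset.length_toList, hEc] at hs'
    obtain ⟨xl, hxl, hmap⟩ := exists_perm_map _ s' E.toList hperm
    have hxmem : ∀ χ, χ ∈ xl ↔ χ ∈ E := fun χ => hxl.mem_iff.trans Finset.mem_toList
    have hsum : ∀ g, 1 + (xl.map fun χ => (T.D.δ χ : ℂ) * (χ : G → ℂ) g).sum =
        ∑ χ ∈ T.D.X, (T.D.δ χ : ℂ) * (χ : G → ℂ) g := fun g => by
      rw [(hxl.map _).sum_eq, Finset.sum_map_toList, hE, ← Finset.add_sum_erase _ _ hT, hδT]
      simp [Blocks.trivIrr]
    have hneY : ∀ ψ ∈ T.D.Y, ψ ≠ Blocks.trivIrr G := fun ψ hψ h =>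
      Finset.disjoint_left.mp T.D.disj hT (h ▸ hψ)
    obtain ⟨ψ₀, hψ₀⟩ : T.D.Y.Nonempty := Finset.card_pos.mp (by rw [T.D.card_Y]; omega)
    obtain ⟨y, hy⟩ : ∃ y, y = T.D.ε * (deg ψ₀ : ℤ) := ⟨_, rfl⟩
    have hyd : ∀ ψ ∈ T.D.Y, deg ψ = y.natAbs := fun ψ hψ => by
      rw [hy, (sgn_mul T.D.hε (deg_pos ψ₀)).2]
      exact T.D.degY_eq ψ hψ ψ₀ hψ₀
    have hsy : sgn y = T.D.ε := hy ▸ (sgn_mul T.D.hε (deg_pos ψ₀)).1
    have hys : y = 1 + s'.sum := by
      have h := T.D.rel ψ₀ hψ₀ 1 hone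
      rw [← Finset.add_sum_erase _ _ hT, hδT, ← hE] at h
      simp only [BrauerReynolds.value_one, BrauerReynolds.degree_triv] at h
      rw [hy, hperm.sum_eq, Finset.sum_map_toList]
      simp only [deg]
      have h' : ((T.D.ε * (charDegree (ψ₀ : G → ℂ) : ℤ) : ℤ) : ℂ) =
          ((1 + ∑ χ ∈ E, T.D.δ χ * (charDegree (χ : G → ℂ) : ℤ) : ℤ) : ℂ) := by
        push_cast at h ⊢
        rw [h]
        ring
      exact Int.cast_injective h'
    have hymem : y ∈ Y := by
      have hne' : T.D.e + 1 ≠ p := by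
        have := Nat.mul_le_mul_left T.D.e ht2
        have := T.D.two_le_e
        omega
      rw [← hY hne', List.mem_filter]
      refine ⟨?_, hy ▸ hkp ψ₀ (Finset.mem_union_right _ hψ₀) (hneY ψ₀ hψ₀) _ T.D.hε⟩
      obtain ⟨hok, hle⟩ := T.degOK_of (hneY ψ₀ hψ₀) (T.D.dvdY ψ₀ hψ₀) (T.D.valY ψ₀ hψ₀)
      simp only [yList, List.mem_flatMap, List.mem_range, List.mem_filterMap]
      refine ⟨_, Nat.lt_add_one_iff.mpr hle, T.D.ε, by rcases T.D.hε with h | h <;> simp [h], ?_⟩
      rw [if_pos, hy]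
      · rfl
      · simp only [Bool.and_eq_true, decide_eq_true_eq]
        exact ⟨hok, Int.emod_eq_zero_of_dvd (Int.modEq_iff_dvd.mp (T.D.degY ψ₀ hψ₀).symm)⟩
    have hd : ∀ χ ∈ xl, (T.D.δ χ * (deg χ : ℤ)).natAbs = deg χ := fun χ hχ =>
      (sgn_mul (T.D.hδ χ (hsub χ ((hxmem χ).mp hχ))) (deg_pos χ)).2
    refine ⟨s', some y, ?_, ⟨⟨T, rfl, rfl, xl, T.D.Y.toList, ?_, ?_, ⟨T.D.δ, ?_, hmap.symm, ?_, ?_, ?_⟩, ?_,
      ?_, ?_, ?_, ?_⟩⟩⟩
    · rw [optsFrom, if_neg fun h => ht ?_]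
      · exact List.mem_filterMap.mpr ⟨s', hs', by rw [if_pos (List.contains_iff_mem.mpr (hys ▸ hymem)), ← hys]⟩
      · have h2 : T.D.e * T.D.t = T.D.e * 1 := by omega
        exact Nat.eq_of_mul_eq_mul_left (by have := T.D.two_le_e; omega) h2
    · rw [List.nodup_cons, List.nodup_append]
      refine ⟨fun h => ?_, hxl.nodup_iff.mpr E.nodup_toList, T.D.Y.nodup_toList, fun a ha b hb hab => ?_⟩
      · rcases List.mem_append.mp h with h | h
        · exact hne _ ((hxmem _).mp h) rfl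
        · exact hneY _ (Finset.mem_toList.mp h) rfl
      · exact Finset.disjoint_left.mp T.D.disj (hsub a ((hxmem a).mp ha)) (hab ▸ Finset.mem_toList.mp hb)
    · intro χ hχ
      exact ⟨T.D.δ χ * (deg χ : ℤ), hmap ▸ List.mem_map_of_mem hχ, hd χ hχ⟩
    · exact fun χ hχ => T.D.hδ χ (hsub χ ((hxmem χ).mp hχ))
    · exact fun χ hχ => T.D.valX χ (hsub χ ((hxmem χ).mp hχ))
    · intro h
      simp at h
    · intro y' h ψ hψ g hg
      obtain rfl := Option.some.inj h
      rw [hsum, hsy]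
      exact T.D.rel ψ (Finset.mem_toList.mp hψ) g hg
    · intro h
      simp at h
    · intro y' h
      obtain rfl := Option.some.inj h
      refine ⟨?_, fun ψ hψ => hyd ψ (Finset.mem_toList.mp hψ), fun v hv hv1 => ?_⟩
      · rw [Finset.length_toList, T.D.card_Y, Opt.t]
        simp only
        rw [show p - 1 = T.D.e * T.D.t by omega, Nat.mul_div_cancel_left _ (by have := T.D.two_le_e; omega)]
      · rw [Finset.sum_map_toList, T.D.sumY v hv hv1, hsy]
    · rw [Opt.degs, List.map_append]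
      unfold Opt.t
      rw [← hmap, List.map_map]
      refine congrArg₂ (· ++ ·) ?_ ?_
      · exact (List.map_congr_left fun χ hχ => by simp only [Function.comp, hd χ hχ]).symm
      · refine List.eq_replicate_iff.mpr ⟨?_, fun b hb => ?_⟩
        · rw [List.length_map, Finset.length_toList, T.D.card_Y,
            show p - 1 = T.D.e * T.D.t by omega, Nat.mul_div_cancel_left _ (by have := T.D.two_le_e; omega)]
        · obtain ⟨ψ, hψ, rfl⟩ := List.mem_map.mp hb
          exact hyd ψ (Finset.mem_toList.mp hψ)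
    · intro χ hχ
      rcases List.mem_append.mp hχ with h | h
      · have hx := hsub χ ((hxmem χ).mp h)
        exact not_dvd_of_mod (h1 _ (T.D.hδ χ hx)) (T.D.degX χ hx)
      · have hy' := Finset.mem_toList.mp h
        refine not_dvd_of_mod ?_ (T.D.degY χ hy')
        intro hdv
        rcases (Int.prime_iff_natAbs_prime.mpr (by simpa using hp)).dvd_or_dvd hdv with h' | h'
        · exact h1 _ T.D.hε h'
        · have := Nat.le_of_dvd (by have := T.D.two_le_e; omega) (Int.natCast_dvd_natCast.mp h')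
          have := Nat.le_mul_of_pos_right T.D.e (show 0 < T.D.t by omega)
          omega
    · intro χ hχ
      rw [List.mem_cons, List.mem_append]
      rcases Finset.mem_union.mp hχ with h | h
      · by_cases hh : χ = Blocks.trivIrr G
        · exact Or.inl hh
        · exact Or.inr (Or.inl ((hxmem χ).mpr (hE ▸ Finset.mem_erase.mpr ⟨hh, h⟩)))
      · exact Or.inr (Or.inr (Finset.mem_toList.mpr h))

end CfsgLib.M22Order
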