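/-!
# Simple groups of order 443520: the checkers for the principal blocks and the values at involutions

All functions here are computable and are evaluated by the kernel.
-/

set_option autoImplicit false

namespace CfsgLib.M22Order

/-- The candidate for a principal `p`-block with `|C(P)| = p k` and `|N(P) : C(P)| = e`: the signed
degrees of the non-trivial rational members, and the signed degree of the exceptional members. -/
structure Opt where
  p : Nat
  k : Nat
  e : Nat
  xs : List Int
  y : Option Int
deriving DecidableEq

/-- The number of exceptional characters. -/
def Opt.t (o : Opt) : Nat := (o.p - 1) / o.e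

/-- The degrees of the non-trivial members of the block. -/
def Opt.degs (o : Opt) : List Nat :=
  o.xs.map Int.natAbs ++ (match o.y with | none => [] | some y => List.replicate o.t y.natAbs)

/-- The sign. -/
def sgn (x : Int) : Int := if 0 < x then 1 else -1

/-- The lists of length `m` with entries in `l`, up to order. -/
def combos : List Int → Nat → List (List Int)
  | [], m => if m = 0 then [[]] else []
  | a :: l, m =>
    (List.range (m + 1)).flatMap fun j => (combos l (m - j)).map fun s => List.replicate j a ++ s

/-- The block candidates from the lists of signed degrees. -/
def optsFrom (p k e : Nat) (X Y : List Int) : List Opt :=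
  if e + 1 = p then
    (combos X e).filterMap fun xs => if xs.sum = -1 then some ⟨p, k, e, xs, none⟩ else none
  else
    (combos X (e - 1)).filterMap fun xs =>
      if Y.contains (1 + xs.sum) then some ⟨p, k, e, xs, some (1 + xs.sum)⟩ else none

/-- A bound for the absolute value of an integer whose square is at most `c`. -/
def bnd (c : Nat) : Nat :=
  if c < 256 then 15 else if c < 1024 then 31 else if c < 2304 then 47 else if c < 4096 then 63
  else if c < 16384 then 127 else if c < 40401 then 200 else if c < 443556 then 665 else c

/-- The possible values of a character of degree `d` at an involution with centraliser of order `c`. -/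
def vals (c d : Nat) : List Int :=
  let M := min (d - 1) (bnd c)
  ((List.range (2 * M + 1)).map fun i : Nat => (i : Int) - (M : Int)).filter fun A =>
    decide (A * A ≤ (c : Int)) && decide (((d : Int) - A) % 4 = 0) &&
      decide ((((443520 / c : Nat) : Int) * A) % (d : Int) = 0)

/-- The products of the lists, with weighted squares summing to at most the bound. -/
def prodW : List (Bool × List Int) → Int → List (List Int)
  | [], B => if 0 ≤ B then [[]] else []
  | V :: Vs, B => V.2.flatMap fun A =>
      if (if V.1 then A * A else 0) ≤ B then
        (prodW Vs (B - if V.1 then A * A else 0)).map fun r => A :: r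
      else []

/-- The relation of the block at a value list. -/
def sigSum : List Int → List Int → Int
  | x :: xs, A :: As => sgn x * A + sigSum xs As
  | _, _ => 1

/-- Numerator and denominator of `1 + Σ A² / x`. -/
def fracSum : List Int → List Int → Int × Int
  | x :: xs, A :: As => let r := fracSum xs As; (r.1 * x + A * A * r.2, r.2 * x)
  | _, _ => (1, 1)

/-- Numerator and denominator of the block sum of a class multiplication constant. -/
def tFrac (o : Opt) (As : List Int) (Y : Int) : Int × Int :=
  let r := fracSum o.xs As
  match o.y with
  | none => r
  | some y => (r.1 * y - Y * Y * r.2, r.2 * y)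

/-- The class multiplication constant at an element of order `p` is one of the targets. -/
def tIn (c : Nat) (o : Opt) (tgts : List Nat) (As : List Int) (Y : Int) : Bool :=
  let r := tFrac o As Y
  tgts.any fun T => decide (443520 * r.1 = (T : Int) * ((c : Int) * c) * r.2)

/-- The values in a row that belong to degree `d`. -/
def cand (ds : List Nat) (vs : List Int) (d : Nat) : List Int :=
  (ds.zip vs).filterMap fun r => if r.1 = d then some r.2 else none

/-- The possible values of a member of a block: from the given row for degrees prime to `11`. -/
def memVals (c : Nat) (ds : List Nat) (vs : List Int) (d : Nat) : List Int :=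
  if d % 11 = 0 then vals c d else cand ds vs d

/-- The congruence modulo `p` with the sign of the degree. -/
def congOK (cg : Option Nat) (x A : Int) : Bool :=
  match cg with
  | none => true
  | some p => decide ((A - sgn x) % (p : Int) = 0)

/-- The value of the exceptional characters given by the relation. -/
def yVal (o : Opt) (As : List Int) : Int :=
  match o.y with
  | none => 0
  | some y => sgn y * sigSum o.xs As

/-- The possible values of the members of a block at an involution with centraliser of order `c`: `ds`
and `vs` describe the values already known, `wt` says which members count against the bound `B`. -/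
def gen (ds : List Nat) (vs : List Int) (c : Nat) (cg : Option Nat) (wt : Nat → Bool) (B : Int) (o : Opt) :
    List (List Int) :=
  (prodW (o.xs.map fun x => (wt x.natAbs, (memVals c ds vs x.natAbs).filter fun A => congOK cg x A)) B).filter
    fun As => match o.y with
      | none => decide (sigSum o.xs As = 0)
      | some y => (memVals c ds vs y.natAbs).contains (yVal o As) &&
          decide ((((o.xs.zip As).map fun r => if wt r.1.natAbs then r.2 * r.2 else 0).sum : Int) +
            (if wt y.natAbs then (o.t : Int) * (yVal o As * yVal o As) else 0) ≤ B)

/-- The even divisors of `40320`. -/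
def centOrders : List Nat :=
  (List.range 8).flatMap fun i => if i = 0 then [] else
    [1, 3, 9].flatMap fun a => [1, 5].flatMap fun b => [1, 7].map fun d => 2 ^ i * a * b * d

/-- The rows of values at involutions with centraliser of order `c` of a principal `11`-block. -/
def rowsOf (q : List Int) (y : Int) (c : Nat) : List (Nat × List Int) :=
  (prodW (q.map fun x => (true, vals c x.natAbs)) ((c : Int) - 1)).filterMap fun As =>
    let Y := sgn y * sigSum q As
    if (vals c y.natAbs).contains Y && decide (1 + (As.map fun A => A * A).sum + 2 * (Y * Y) ≤ (c : Int)) &&
        tIn c ⟨11, 1, 5, q, some y⟩ [0] As Y then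
      some (c, As ++ [Y, Y])
    else none

/-- The degrees of the non-trivial members of the `11`-block. -/
def degs11 (q : List Int) (y : Int) : List Nat := q.map Int.natAbs ++ [y.natAbs, y.natAbs]

/-- The budget left by the `11`-block. -/
def budget (r : Nat × List Int) : Int := (r.1 : Int) - 1 - (r.2.map fun A => A * A).sum

/-- The degrees of the block fit in the `11`-block. -/
def okM (ds : List Nat) (o : Opt) : Bool :=
  ((o.degs.filter fun d => decide (d % 11 ≠ 0)).all fun d => decide (o.degs.count d ≤ ds.count d)) &&
    (if o.k = 1 then (ds.filter fun d => decide (d % o.p ≠ 0)).all fun d => decide (ds.count d ≤ o.degs.count d)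
      else decide (o.p ≠ 5) || !ds.contains 10)

/-- The characters of a block of full defect contain those of the other block of degree prime to `p`. -/
def closedIn (a b : Opt) : Bool :=
  decide (a.k ≠ 1) ||
    (b.degs.filter fun d => decide (d % a.p ≠ 0) && decide (d % 11 = 0)).all fun d =>
      decide (b.degs.count d ≤ a.degs.count d)

/-- The pair of blocks passes the tests on degrees. -/
def closed (a b : Opt) : Bool := closedIn a b && closedIn b a

/-- A possible order for the centraliser of an involution of `C(P)`. -/
def syl (o : Opt) (c : Nat) : Bool :=
  (List.range (o.k + 1)).any fun b =>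
    decide (b ≠ 0) && decide (o.k % b = 0) && decide ((o.k / b) % 2 = 1) &&
      (List.range (o.e + 1)).any fun f =>
        decide (f ≠ 0) && decide (o.e % f = 0) && decide (c % (o.p * b * f) = 0) &&
          decide ((c / (o.p * b * f)) % o.p = 1)

/-- The row can belong to an involution centralising the Sylow subgroup. -/
def zRow (ds : List Nat) (o : Opt) (r : Nat × List Int) : Bool :=
  decide (r.1 % o.p = 0) && syl o r.1 &&
    o.xs.all fun x => decide (x.natAbs % 11 = 0) ||
      (cand ds r.2 x.natAbs).any fun A => congOK (some o.p) x A

/-- The block is compatible with the rows. -/
def okRows (ds : List Nat) (rows : List (Nat × List Int)) (o : Opt) : Bool :=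
  if o.k = 1 then rows.any fun r => decide (r.1 % 128 = 0) && decide (r.1 % o.p ≠ 0)
  else rows.any fun r => zRow ds o r

/-- The weight of a member outside the `11`-block. -/
def wOut (d : Nat) : Bool := decide (d % 11 = 0)

/-- The weight of a member outside the `11`-block and outside the `5`-block of full defect. -/
def wOut5 (d : Nat) : Bool := decide (d % 55 = 0)

/-- The values of a block at a row. -/
def blkVals (ds : List Nat) (o : Opt) (r : Nat × List Int) : List (List Int) :=
  gen ds r.2 r.1 none wOut (budget r) o

/-- The values of a block with `C(P) = P` and a class multiplication constant among the targets. -/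
def tVals (ds : List Nat) (o : Opt) (tgts : List Nat) (r : Nat × List Int) : List (List Int) :=
  (blkVals ds o r).filter fun As => tIn r.1 o tgts As (yVal o As)

/-- A central involution of a Sylow 2-subgroup has a row compatible with the `7`-block. -/
def t7OK (ds : List Nat) (rows : List (Nat × List Int)) (b : Opt) : Bool :=
  rows.any fun r => decide (r.1 % 128 = 0) && decide (r.1 % 7 ≠ 0) && !(tVals ds b [0] r).isEmpty

/-- An involution inverting an element of order `5` has a row compatible with the `5`-block. -/
def uOK (ds : List Nat) (rows : List (Nat × List Int)) (a : Opt) : Bool :=
  rows.any fun r => decide (r.1 % 5 ≠ 0) && !(tVals ds a [5] r).isEmpty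

/-- An involution centralising an element of order `7` has a row compatible with both blocks. -/
def z2OK (ds : List Nat) (rows : List (Nat × List Int)) (a b : Opt) : Bool :=
  rows.any fun r => zRow ds b r && decide (r.1 % 5 ≠ 0) &&
    (tVals ds a [0, 5] r).any fun As =>
      !(gen ds r.2 r.1 (some b.p) wOut5
        (budget r - (((a.xs.zip As).map fun u => if wOut u.1.natAbs then u.2 * u.2 else 0).sum)) b).isEmpty

/-- A central involution of a Sylow 2-subgroup has a row compatible with both blocks of full defect. -/
def t57OK (ds : List Nat) (rows : List (Nat × List Int)) (a b : Opt) : Bool :=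
  rows.any fun r => decide (r.1 % 128 = 0) && decide (r.1 % 5 ≠ 0) && decide (r.1 % 7 ≠ 0) &&
    (tVals ds a [0, 5] r).any fun As => (tVals ds b [0] r).any fun Bs =>
      match b.y with
      | none => true
      | some y => decide (y.natAbs % 5 = 0) || decide (y.natAbs % 11 ≠ 0) ||
          (cand (a.xs.map Int.natAbs) As y.natAbs).contains (yVal b Bs)

/-- The pair of blocks excluded by the class multiplication constant of two elements of order `5`. -/
def c6 (a b : Opt) : Bool :=
  [6, 16, 96].contains a.k && decide (a.xs = [21, 66, 66, -154]) && decide (b.k = 1) &&
    decide (b.xs = [-55, 120]) && decide (b.y = some 66)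

/-- The pair of blocks is impossible. -/
def dead (ds : List Nat) (rows : List (Nat × List Int)) (a b : Opt) : Bool :=
  (decide (b.k = 1) && !t7OK ds rows b) ||
    (decide (a.k = 1) && decide (b.k ≠ 1) && !z2OK ds rows a b) ||
    (decide (a.k = 1) && !uOK ds rows a) || c6 a b ||
    (decide (a.k = 1) && decide (b.k = 1) && !t57OK ds rows a b)

end CfsgLib.M22Order
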