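import Cfsg.Agent.Lib.M22Order.CharTables

/-!
# Simple groups of order 443520: the kernel checks on the tables
-/

set_option autoImplicit false
set_option maxHeartbeats 4000000

namespace CfsgLib.M22Order

/-- The list of the true block. -/
def qTrue : List Int := [-21, 45, 45, 210]

/-- The true principal `5`-block. -/
def aTrue : Opt := ⟨5, 1, 4, [21, -99, -154, 231], none⟩

/-- The true principal `7`-block. -/
def bTrue : Opt := ⟨7, 1, 3, [-55, 99], some 45⟩

theorem key_degrees : (lists11.all fun qy => listsDeg.contains qy ||
    ((opts5.filter (okM (degs11 qy.1 qy.2))).all fun a =>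
      (opts7.filter (okM (degs11 qy.1 qy.2))).all fun b => !closed a b)) = true := by decide +kernel

theorem key_blocks : (rowTab.all fun e =>
    ((opts5.filter (okM (degs11 e.1.1 e.1.2))).filter (okRows (degs11 e.1.1 e.1.2) e.2)).all fun a =>
      ((opts7.filter (okM (degs11 e.1.1 e.1.2))).filter (okRows (degs11 e.1.1 e.1.2) e.2)).all fun b =>
        !closed a b || dead (degs11 e.1.1 e.1.2) e.2 a b ||
          (decide (e.1 = (qTrue, 280)) && decide (a = aTrue) && decide (b = bTrue))) = true := by
  decide +kernel

/-- The rows of the true block. -/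
def rowsTrue : List (Nat × List Int) := centOrders.flatMap (rowsOf qTrue 280)

theorem key_true : (rowsTrue.all fun r =>
    decide (r.1 % 5 = 0) || decide (r.1 % 7 = 0) ||
      (tVals (degs11 qTrue 280) aTrue [0, 5] r).isEmpty || (tVals (degs11 qTrue 280) bTrue [0] r).isEmpty ||
      (decide (r = (384, [5, -3, -3, 2, -8, -8])) &&
        decide (tVals (degs11 qTrue 280) aTrue [0, 5] r = [[5, 3, 10, 7]]) &&
        decide (tVals (degs11 qTrue 280) bTrue [0] r = [[7, 3]]))) = true := by
  decide +kernel

end CfsgLib.M22Order
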