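import Cfsg.Agent.Lib.M22Order.CharTables

/-!
# Simple groups of order 443520: the kernel checks on the tables

The checks are cut into chunks, one declaration each, to keep the memory of the kernel low.
-/

set_option autoImplicit false
set_option maxHeartbeats 4000000
set_option Elab.async false

namespace CfsgLib.M22Order

theorem all_drop_step {α : Type} {l : List α} {p : α → Bool} (a k : Nat)
    (h1 : ((l.drop a).take k).all p = true) (h2 : (l.drop (a + k)).all p = true) : (l.drop a).all p = true := by
  rw [← List.take_append_drop k (l.drop a), List.all_append, h1, List.drop_drop, h2]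
  rfl

theorem key_rows_0 : (((rowTab.drop 0).take 1).all fun e => decide (centOrders.flatMap (rowsOf e.1.1 e.1.2) = e.2)) = true := by decide +kernel

theorem key_rows_1 : (((rowTab.drop 1).take 1).all fun e => decide (centOrders.flatMap (rowsOf e.1.1 e.1.2) = e.2)) = true := by decide +kernel

theorem key_rows_2 : (((rowTab.drop 2).take 1).all fun e => decide (centOrders.flatMap (rowsOf e.1.1 e.1.2) = e.2)) = true := by decide +kernel

theorem key_rows_3 : (((rowTab.drop 3).take 1).all fun e => decide (centOrders.flatMap (rowsOf e.1.1 e.1.2) = e.2)) = true := by decide +kernel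

theorem key_rows_4 : (((rowTab.drop 4).take 1).all fun e => decide (centOrders.flatMap (rowsOf e.1.1 e.1.2) = e.2)) = true := by decide +kernel

theorem key_rows_5 : (((rowTab.drop 5).take 1).all fun e => decide (centOrders.flatMap (rowsOf e.1.1 e.1.2) = e.2)) = true := by decide +kernel

theorem key_rows_6 : (((rowTab.drop 6).take 1).all fun e => decide (centOrders.flatMap (rowsOf e.1.1 e.1.2) = e.2)) = true := by decide +kernel

theorem key_rows_7 : (((rowTab.drop 7).take 1).all fun e => decide (centOrders.flatMap (rowsOf e.1.1 e.1.2) = e.2)) = true := by decide +kernel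

theorem key_rows_8 : (((rowTab.drop 8).take 1).all fun e => decide (centOrders.flatMap (rowsOf e.1.1 e.1.2) = e.2)) = true := by decide +kernel

theorem key_rows_9 : (((rowTab.drop 9).take 1).all fun e => decide (centOrders.flatMap (rowsOf e.1.1 e.1.2) = e.2)) = true := by decide +kernel

theorem key_rows_10 : (((rowTab.drop 10).take 1).all fun e => decide (centOrders.flatMap (rowsOf e.1.1 e.1.2) = e.2)) = true := by decide +kernel

theorem key_rows_11 : (((rowTab.drop 11).take 1).all fun e => decide (centOrders.flatMap (rowsOf e.1.1 e.1.2) = e.2)) = true := by decide +kernel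

theorem key_rows_12 : (((rowTab.drop 12).take 1).all fun e => decide (centOrders.flatMap (rowsOf e.1.1 e.1.2) = e.2)) = true := by decide +kernel

theorem key_rows_13 : (((rowTab.drop 13).take 1).all fun e => decide (centOrders.flatMap (rowsOf e.1.1 e.1.2) = e.2)) = true := by decide +kernel

theorem key_rows_14 : (((rowTab.drop 14).take 1).all fun e => decide (centOrders.flatMap (rowsOf e.1.1 e.1.2) = e.2)) = true := by decide +kernel

theorem key_rows_15 : (((rowTab.drop 15).take 1).all fun e => decide (centOrders.flatMap (rowsOf e.1.1 e.1.2) = e.2)) = true := by decide +kernel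

theorem key_rows_16 : (((rowTab.drop 16).take 1).all fun e => decide (centOrders.flatMap (rowsOf e.1.1 e.1.2) = e.2)) = true := by decide +kernel

theorem key_rows_17 : (((rowTab.drop 17).take 1).all fun e => decide (centOrders.flatMap (rowsOf e.1.1 e.1.2) = e.2)) = true := by decide +kernel

theorem key_rows_18 : ((rowTab.drop 18).all fun e => decide (centOrders.flatMap (rowsOf e.1.1 e.1.2) = e.2)) = true := by decide +kernel

theorem key_rows : (rowTab.all fun e => decide (centOrders.flatMap (rowsOf e.1.1 e.1.2) = e.2)) = true := by
  have h18 := key_rows_18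
  have h17 := all_drop_step 17 1 key_rows_17 h18
  have h16 := all_drop_step 16 1 key_rows_16 h17
  have h15 := all_drop_step 15 1 key_rows_15 h16
  have h14 := all_drop_step 14 1 key_rows_14 h15
  have h13 := all_drop_step 13 1 key_rows_13 h14
  have h12 := all_drop_step 12 1 key_rows_12 h13
  have h11 := all_drop_step 11 1 key_rows_11 h12
  have h10 := all_drop_step 10 1 key_rows_10 h11
  have h9 := all_drop_step 9 1 key_rows_9 h10
  have h8 := all_drop_step 8 1 key_rows_8 h9
  have h7 := all_drop_step 7 1 key_rows_7 h8
  have h6 := all_drop_step 6 1 key_rows_6 h7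
  have h5 := all_drop_step 5 1 key_rows_5 h6
  have h4 := all_drop_step 4 1 key_rows_4 h5
  have h3 := all_drop_step 3 1 key_rows_3 h4
  have h2 := all_drop_step 2 1 key_rows_2 h3
  have h1 := all_drop_step 1 1 key_rows_1 h2
  have h0 := all_drop_step 0 1 key_rows_0 h1
  simpa using h0

theorem key_central_0 : (((listsDeg.drop 0).take 5).all fun e => (rowTab.map Prod.fst).contains e ||
    ((centOrders.filter fun c => decide (c % 128 = 0)).all fun c => (rowsOf e.1 e.2 c).isEmpty)) = true := by decide +kernel

theorem key_central_1 : (((listsDeg.drop 5).take 5).all fun e => (rowTab.map Prod.fst).contains e ||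
    ((centOrders.filter fun c => decide (c % 128 = 0)).all fun c => (rowsOf e.1 e.2 c).isEmpty)) = true := by decide +kernel

theorem key_central_2 : (((listsDeg.drop 10).take 5).all fun e => (rowTab.map Prod.fst).contains e ||
    ((centOrders.filter fun c => decide (c % 128 = 0)).all fun c => (rowsOf e.1 e.2 c).isEmpty)) = true := by decide +kernel

theorem key_central_3 : (((listsDeg.drop 15).take 5).all fun e => (rowTab.map Prod.fst).contains e ||
    ((centOrders.filter fun c => decide (c % 128 = 0)).all fun c => (rowsOf e.1 e.2 c).isEmpty)) = true := by decide +kernel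

theorem key_central_4 : (((listsDeg.drop 20).take 5).all fun e => (rowTab.map Prod.fst).contains e ||
    ((centOrders.filter fun c => decide (c % 128 = 0)).all fun c => (rowsOf e.1 e.2 c).isEmpty)) = true := by decide +kernel

theorem key_central_5 : (((listsDeg.drop 25).take 5).all fun e => (rowTab.map Prod.fst).contains e ||
    ((centOrders.filter fun c => decide (c % 128 = 0)).all fun c => (rowsOf e.1 e.2 c).isEmpty)) = true := by decide +kernel

theorem key_central_6 : (((listsDeg.drop 30).take 5).all fun e => (rowTab.map Prod.fst).contains e ||
    ((centOrders.filter fun c => decide (c % 128 = 0)).all fun c => (rowsOf e.1 e.2 c).isEmpty)) = true := by decide +kernel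

theorem key_central_7 : ((listsDeg.drop 35).all fun e => (rowTab.map Prod.fst).contains e ||
    ((centOrders.filter fun c => decide (c % 128 = 0)).all fun c => (rowsOf e.1 e.2 c).isEmpty)) = true := by decide +kernel

theorem key_central : (listsDeg.all fun e => (rowTab.map Prod.fst).contains e ||
    ((centOrders.filter fun c => decide (c % 128 = 0)).all fun c => (rowsOf e.1 e.2 c).isEmpty)) = true := by
  have h7 := key_central_7
  have h6 := all_drop_step 30 5 key_central_6 h7
  have h5 := all_drop_step 25 5 key_central_5 h6
  have h4 := all_drop_step 20 5 key_central_4 h5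
  have h3 := all_drop_step 15 5 key_central_3 h4
  have h2 := all_drop_step 10 5 key_central_2 h3
  have h1 := all_drop_step 5 5 key_central_1 h2
  have h0 := all_drop_step 0 5 key_central_0 h1
  simpa using h0

end CfsgLib.M22Order
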