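import Cfsg.Agent.Lib.M22Order.CharSmall
import Cfsg.Agent.Lib.M22Order.CharKeys
import Cfsg.Agent.Lib.M22Order.CharKeysRows

/-!
# Simple groups of order 443520: the degrees of the principal 5-, 7- and 11-blocks
-/

set_option autoImplicit false
set_option linter.unusedSectionVars false
set_option linter.style.haveILetI false
set_option maxHeartbeats 2000000

namespace CfsgLib.M22Order

open Cfsg
open scoped ComplexConjugate CfsgLib.Char
open CfsgLib CfsgLib.BrauerTuan
open scoped _root_.Classical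

universe u

theorem mem_cand {β : Type*} (f : β → ℕ) (g : β → ℤ) {l : List β} {a : β} (ha : a ∈ l) :
    g a ∈ cand (l.map f) (l.map g) (f a) := by
  simp only [cand, List.zip_map', List.mem_filterMap, List.mem_map]
  exact ⟨_, ⟨a, ha, rfl⟩, by simp⟩

theorem count_le_of_subset {β : Type*} (f : β → ℕ) {l l' : List β} (hl : l.Nodup) (d : ℕ)
    (h : ∀ a ∈ l, f a = d → a ∈ l') : (l.map f).count d ≤ (l'.map f).count d := by
  rw [List.count_eq_countP, List.count_eq_countP, List.countP_map, List.countP_map, List.countP_eq_length_filter,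
    List.countP_eq_length_filter]
  refine (List.subperm_of_subset (hl.filter _) fun a ha => ?_).length_le
  obtain ⟨ha', hd⟩ := List.mem_filter.mp ha
  exact List.mem_filter.mpr ⟨h a ha' (by simpa using hd), hd⟩

variable {G : Type u} [Group G] [Fintype G] [IsSimpleGroup G] [Fact (Nat.Prime 11)]

theorem PBlk.xy_nodup {p : ℕ} [Fact p.Prime] {o : Opt} (B : PBlk G p o) : (B.xl ++ B.yl).Nodup :=
  (List.nodup_cons.mp B.nodup).2

variable {q : List ℤ} {y : ℤ}

/-- The row of values at `g` of the principal `11`-block. -/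
noncomputable def rowAt (B : PBlk G 11 ⟨11, 1, 5, q, some y⟩) (g : G) : ℕ × List ℤ :=
  (cC g, (B.xl ++ B.yl).map (iv · g))

theorem degs_map (B : PBlk G 11 ⟨11, 1, 5, q, some y⟩) : (B.xl ++ B.yl).map deg = degs11 q y :=
  B.degs_eq.trans (degs11_eq q y)

theorem not_dvd_centralizer' {p : ℕ} [Fact p.Prime] {o : Opt} (B : PBlk G p o) (hk : o.k = 1) (hp2 : p ≠ 2)
    {g : G} (hg : orderOf g = 2) : ¬ p ∣ cC g := by
  intro h
  obtain ⟨w, hw⟩ := exists_prime_orderOf_dvd_card' (G := Subgroup.centralizer ({g} : Set G)) p h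
  have hwo : orderOf (w : G) = p := by rw [Subgroup.orderOf_coe]; exact hw
  have h1 : 2 ∣ cC (w : G) := by
    rw [cC, ← hg]
    exact Subgroup.orderOf_dvd_natCard _
      (Subgroup.mem_centralizer_singleton_iff.mpr (Subgroup.mem_centralizer_singleton_iff.mp w.2).symm)
  rw [B.cC_of_order hwo, hk, mul_one] at h1
  exact hp2 ((Nat.prime_dvd_prime_iff_eq Nat.prime_two Fact.out).mp h1).symm

theorem cC_mem_centOrders {o : Opt} (B : PBlk G 11 o) (hk : o.k = 1) {g : G} (hg : orderOf g = 2) :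
    cC g ∈ centOrders := by
  refine mem_centOrders ?_ (hg ▸ Subgroup.orderOf_dvd_natCard _ (Subgroup.mem_centralizer_singleton_iff.mpr rfl))
  exact (((Nat.Prime.coprime_iff_not_dvd (by norm_num : Nat.Prime 11)).mpr
    (not_dvd_centralizer' B hk (by norm_num) hg)).symm).dvd_of_dvd_mul_left
    (show cC g ∣ 11 * 40320 by norm_num; exact cC_dvd B.card_eq g)

/-- The row at an involution is one of the possible rows. -/
theorem rowAt_mem (B : PBlk G 11 ⟨11, 1, 5, q, some y⟩) {g : G} (hg : orderOf g = 2) :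
    rowAt B g ∈ rowsOf q y (cC g) := by
  have hgg := mul_self_of_order_two hg
  have hn := B.card_eq
  obtain ⟨-, hr1⟩ := B.rel_iv (g := g) (by rw [hg]; norm_num) fun χ _ => iv_spec χ hgg
  obtain ⟨hlen, hdeg, -⟩ := B.yl_some y rfl
  have hlen2 : B.yl.length = 2 := by simp [hlen, Opt.t]
  obtain ⟨ψ, hψ⟩ := List.exists_mem_of_length_pos (l := B.yl) (by omega)
  obtain ⟨Y, hY⟩ : ∃ Y, Y = yVal ⟨11, 1, 5, q, some y⟩ (B.xl.map (iv · g)) := ⟨_, rfl⟩
  have hYeq : ∀ ξ ∈ B.yl, iv ξ g = Y := fun ξ hξ => hY ▸ hr1 y rfl ξ hξ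
  have hyl : B.yl.map (fun χ => iv χ g) = [Y, Y] := by
    rw [show [Y, Y] = List.replicate 2 Y from rfl]
    exact List.eq_replicate_iff.mpr ⟨by rw [List.length_map, hlen2], fun b hb => by
      obtain ⟨ξ, hξ, rfl⟩ := List.mem_map.mp hb
      exact hYeq ξ hξ⟩
  have hsum := sum_sq_le B.nodup (g := g) fun χ _ => iv_spec χ hgg
  have hyl2 : (B.yl.map fun χ => iv χ g * iv χ g).sum = Y * Y + Y * Y := by
    rw [show (B.yl.map fun χ => iv χ g * iv χ g) = (B.yl.map (iv · g)).map (fun A => A * A) by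
      rw [List.map_map]; rfl, hyl]
    simp
  rw [List.map_cons, List.sum_cons, iv_triv, List.map_append, List.sum_append, hyl2] at hsum
  have hnn := mul_self_nonneg Y
  simp only [rowsOf, List.mem_filterMap]
  refine ⟨B.xl.map (iv · g), ?_, ?_⟩
  · rw [show q.map (fun x => (true, vals (cC g) x.natAbs)) =
      (B.xl.map fun χ => B.σ χ * (deg χ : ℤ)).map (fun x => (true, vals (cC g) x.natAbs)) from
      congrArg _ B.xs_eq, List.map_map]
    refine mem_prodW _ (fun χ => iv χ g) B.xl _ (fun χ hχ => ?_) ?_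
    · simp only [Function.comp, (B.sgn_eq hχ).2]
      exact iv_mem_vals hn B.T.noncomm (B.ne_triv (List.mem_append_left _ hχ)) hg
    · simp only [Function.comp, if_true]
      omega
  have hsg : sgn y * sigSum q (B.xl.map (iv · g)) = Y := by rw [hY]; rfl
  rw [hsg, if_pos]
  · rw [rowAt, List.map_append, hyl]
  simp only [Bool.and_eq_true, List.contains_iff_mem, decide_eq_true_eq]
  refine ⟨⟨?_, ?_⟩, ?_⟩
  · rw [← hYeq ψ hψ, ← hdeg ψ hψ]
    exact iv_mem_vals hn B.T.noncomm (B.ne_triv (List.mem_append_right _ hψ)) hg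
  · rw [List.map_map]
    simp only [Function.comp_def]
    omega
  obtain ⟨v, hv, hv1, -, -⟩ := B.exists_gen
  have hcount := B.count_eq rfl hv hv1 (fun χ => iv χ g) Y (fun χ _ => iv_spec χ hgg)
    fun ξ hξ => by rw [iv_spec ξ hgg, hYeq ξ hξ]
  have h0 := (B.pairs_card rfl (by norm_num) hg hv hv1).resolve_right fun h => by
    have := h.2
    norm_num at this
  rw [h0] at hcount
  simp only [tIn, List.any_cons, List.any_nil, Bool.or_false, decide_eq_true_eq]
  exact hcount

theorem rowAt_mem_all (B : PBlk G 11 ⟨11, 1, 5, q, some y⟩) {g : G} (hg : orderOf g = 2) :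
    rowAt B g ∈ centOrders.flatMap (rowsOf q y) :=
  List.mem_flatMap.mpr ⟨cC g, cC_mem_centOrders B rfl hg, rowAt_mem B hg⟩

theorem cand_mem (B : PBlk G 11 ⟨11, 1, 5, q, some y⟩) {χ : IrrCharacter G} (hne : χ ≠ Blocks.trivIrr G)
    (hd : ¬ 11 ∣ deg χ) (g : G) : iv χ g ∈ cand (degs11 q y) (rowAt B g).2 (deg χ) := by
  rw [← degs_map B]
  exact mem_cand deg (iv · g) (B.mem_of_not_dvd rfl hne hd)

theorem mem_memVals (B : PBlk G 11 ⟨11, 1, 5, q, some y⟩) {g : G} (hg : orderOf g = 2)
    {χ : IrrCharacter G} (hne : χ ≠ Blocks.trivIrr G) :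
    iv χ g ∈ memVals (cC g) (degs11 q y) (rowAt B g).2 (deg χ) := by
  rw [memVals]
  split_ifs with h
  · exact iv_mem_vals B.card_eq B.T.noncomm hne hg
  · exact cand_mem B hne (fun h' => h (Nat.mod_eq_zero_of_dvd h')) g

/-- The squares outside the `11`-block are within the budget. -/
theorem budget_bound (B : PBlk G 11 ⟨11, 1, 5, q, some y⟩) {g : G} (hg : orderOf g = 2)
    {l : List (IrrCharacter G)} (hl : l.Nodup) (hne : ∀ χ ∈ l, χ ≠ Blocks.trivIrr G)
    (h11 : ∀ χ ∈ l, 11 ∣ deg χ) :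
    (l.map fun χ => iv χ g * iv χ g).sum ≤ budget (rowAt B g) := by
  have hnd : (Blocks.trivIrr G :: (B.xl ++ B.yl ++ l)).Nodup := by
    refine List.nodup_cons.mpr ⟨fun h => ?_, List.nodup_append.mpr ⟨B.xy_nodup, hl, fun a ha b hb e => ?_⟩⟩
    · rcases List.mem_append.mp h with h | h
      · exact B.ne_triv h rfl
      · exact hne _ h rfl
    · exact B.not_dvd a ha (e ▸ h11 b hb)
  have h := sum_sq_le hnd (g := g) fun χ _ => iv_spec χ (mul_self_of_order_two hg)
  rw [List.map_cons, List.sum_cons, iv_triv, List.map_append, List.sum_append] at h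
  simp only [budget, rowAt, List.map_map, Function.comp_def]
  omega

theorem blk_bound (B : PBlk G 11 ⟨11, 1, 5, q, some y⟩) {g : G} (hg : orderOf g = 2) {p : ℕ} [Fact p.Prime]
    {o : Opt} (Bp : PBlk G p o) :
    ((Bp.xl ++ Bp.yl).map fun χ => if wOut (deg χ) then iv χ g * iv χ g else 0).sum ≤ budget (rowAt B g) := by
  rw [sum_map_ite (fun χ => wOut (deg χ))]
  refine budget_bound B hg (Bp.xy_nodup.filter _) (fun χ hχ => Bp.ne_triv (List.mem_filter.mp hχ).1)
    fun χ hχ => ?_
  have := (List.mem_filter.mp hχ).2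
  simp only [wOut, decide_eq_true_eq] at this
  exact Nat.dvd_of_mod_eq_zero this

/-- The values of a block of full defect at an involution. -/
theorem mem_tVals (B : PBlk G 11 ⟨11, 1, 5, q, some y⟩) {g : G} (hg : orderOf g = 2) {p : ℕ} [Fact p.Prime]
    {o : Opt} (Bp : PBlk G p o) (hk : o.k = 1) (hp2 : p ≠ 2) {v : G} (hv : v ∈ (Bp.T.P : Subgroup G))
    (hv1 : v ≠ 1) {tgts : List ℕ}
    (ht : Nat.card {pr : G × G // IsConj g pr.1 ∧ IsConj g pr.2 ∧ pr.1 * pr.2 = v} ∈ tgts) :
    Bp.xl.map (iv · g) ∈ tVals (degs11 q y) o tgts (rowAt B g) := by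
  have hgg := mul_self_of_order_two hg
  have hreg : ¬ p ∣ orderOf g := by
    rw [hg]
    exact fun h => hp2 ((Nat.prime_dvd_prime_iff_eq Fact.out Nat.prime_two).mp h)
  rw [tVals, List.mem_filter]
  refine ⟨Bp.mem_gen hg hp2 (fun χ hχ => mem_memVals B hg (Bp.ne_triv hχ)) (fun χ _ => rfl) (blk_bound B hg Bp),
    ?_⟩
  obtain ⟨-, hr1⟩ := Bp.rel_iv hreg fun χ _ => iv_spec χ hgg
  have hcount := Bp.count_eq hk hv hv1 (fun χ => iv χ g) (yVal o (Bp.xl.map (iv · g))) (fun χ _ => iv_spec χ hgg)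
    fun ξ hξ => by
      rw [iv_spec ξ hgg]
      cases hy : o.y with
      | none => rw [Bp.yl_none hy] at hξ; exact absurd hξ List.not_mem_nil
      | some y' => rw [hr1 y' hy ξ hξ]
  simp only [tIn, List.any_eq_true, decide_eq_true_eq]
  exact ⟨_, ht, hcount⟩

theorem okM_of_blk (B : PBlk G 11 ⟨11, 1, 5, q, some y⟩) {p : ℕ} [Fact p.Prime] (hp2 : p ≠ 2) {o : Opt}
    (Bp : PBlk G p o) (heven : o.k ≠ 1 → 2 ∣ o.k) : okM (degs11 q y) o = true := by
  rw [← degs_map B]
  simp only [okM, Bool.and_eq_true, List.all_eq_true, List.mem_filter, decide_eq_true_eq]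
  refine ⟨fun d hd => ?_, ?_⟩
  · rw [← Bp.degs_eq]
    refine count_le_of_subset deg Bp.xy_nodup d fun χ hχ e => ?_
    exact B.mem_of_not_dvd rfl (Bp.ne_triv hχ) fun h => hd.2 (Nat.mod_eq_zero_of_dvd (e ▸ h))
  · split_ifs with hk
    · simp only [List.all_eq_true, List.mem_filter, decide_eq_true_eq]
      intro d hd
      rw [← Bp.degs_eq]
      refine count_le_of_subset deg B.xy_nodup d fun χ hχ e => ?_
      exact Bp.mem_of_not_dvd hk (B.ne_triv hχ) fun h => hd.2 (Nat.mod_eq_zero_of_dvd (Bp.p_eq.symm ▸ e ▸ h))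
    · simp only [Bool.or_eq_true, decide_eq_true_eq, Bool.not_eq_true', Bp.p_eq]
      by_contra hc
      simp only [not_or, not_not, Bool.not_eq_false, List.contains_iff_mem] at hc
      obtain ⟨hp5, h10⟩ := hc
      obtain ⟨χ, hχ, hd⟩ := List.mem_map.mp h10
      obtain ⟨z, hz, hzC, -, -⟩ := Bp.exists_central (heven hk)
      have hzz := mul_self_of_order_two hz
      have hφ := Char.isCharacter_of_isIrr χ.2
      have hpd : p ∣ deg χ := by rw [hd, hp5]; norm_num
      obtain ⟨K, hK⟩ := M12Order.exists_nat_sum_subgroup hφ (Bp.T.P : Subgroup G)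
      rw [Bp.T.card_P] at hK
      obtain ⟨a, ha, -⟩ := exists_fixed_trace_sum hφ (Bp.T.P : Subgroup G) Bp.T.card_P hzz
        (Subgroup.centralizer_le_normalizer _ hzC) hK
      rw [← Finset.add_sum_erase _ _ (Finset.mem_univ (1 : (Bp.T.P : Subgroup G))),
        Finset.sum_eq_zero fun (w : (Bp.T.P : Subgroup G)) hw => ?_, add_zero, Subgroup.coe_one, one_mul,
        iv_spec χ hzz] at ha
      · have ha' : iv χ z = (p : ℤ) * a := Int.cast_injective (α := ℂ) (by push_cast; exact ha)
        have hv := iv_mem_vals B.card_eq B.T.noncomm (B.ne_triv hχ) hz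
        rw [hd] at hv
        simp only [vals, List.mem_filter, List.mem_map, List.mem_range, Bool.and_eq_true, decide_eq_true_eq] at hv
        obtain ⟨⟨i, hi, hiv⟩, ⟨-, h4⟩, -⟩ := hv
        rw [ha', hp5] at hiv h4
        push_cast at hiv h4
        omega
      · refine Bp.vanish hpd ?_
        have hw1 : (w : G) ≠ 1 := fun e => Finset.ne_of_mem_erase hw (Subtype.ext e)
        have hwo : orderOf (w : G) = p := by
          have h := orderOf_dvd_natCard w
          rw [Bp.T.card_P, ← Subgroup.orderOf_coe] at h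
          exact ((Nat.dvd_prime Fact.out).mp h).resolve_left fun h' => hw1 (orderOf_eq_one_iff.mp h')
        have hcomm : Commute (w : G) z := Subgroup.mem_centralizer_iff.mp hzC _ w.2
        rw [hcomm.orderOf_mul_eq_mul_orderOf_of_coprime (by
          rw [hwo, hz]
          exact (Nat.coprime_primes Fact.out Nat.prime_two).mpr hp2), hwo]
        exact dvd_mul_right _ _

theorem closedIn_of_blk (_B : PBlk G 11 ⟨11, 1, 5, q, some y⟩) {p p' : ℕ} [Fact p.Prime] [Fact p'.Prime]
    {a b : Opt} (Ba : PBlk G p a) (Bb : PBlk G p' b) : closedIn a b = true := by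
  simp only [closedIn, Bool.or_eq_true, decide_eq_true_eq, List.all_eq_true, List.mem_filter, Bool.and_eq_true]
  by_cases hk : a.k = 1
  · refine Or.inr fun d hd => ?_
    rw [← Bb.degs_eq, ← Ba.degs_eq]
    refine count_le_of_subset deg Bb.xy_nodup d fun χ hχ e => ?_
    exact Ba.mem_of_not_dvd hk (Bb.ne_triv hχ) fun h => hd.2.1 (Nat.mod_eq_zero_of_dvd (Ba.p_eq.symm ▸ e ▸ h))
  · exact Or.inl hk

theorem exists_two_central (hn : Nat.card G = 443520) : ∃ t : G, orderOf t = 2 ∧ 128 ∣ cC t := by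
  obtain ⟨t, htt, ht1, hd, -⟩ := exists_central_involution (G := G) (b := 7) (by norm_num) (by rw [hn]; norm_num)
  exact ⟨t, orderOf_eq_prime (by rw [pow_two, htt]) ht1, by rw [cC]; simpa using hd⟩

theorem zRow_of_central (B : PBlk G 11 ⟨11, 1, 5, q, some y⟩) {p : ℕ} [Fact p.Prime] {o : Opt}
    (Bp : PBlk G p o) (hp2 : p ≠ 2) {z : G} (hz : orderOf z = 2)
    (hzC : z ∈ Subgroup.centralizer ((Bp.T.P : Subgroup G) : Set G)) (hsyl : syl o (cC z) = true)
    (hpc : p ∣ cC z) : zRow (degs11 q y) o (rowAt B z) = true := by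
  simp only [zRow, Bool.and_eq_true, decide_eq_true_eq, List.all_eq_true, Bool.or_eq_true, List.any_eq_true]
  refine ⟨⟨Nat.mod_eq_zero_of_dvd (Bp.p_eq.symm ▸ hpc), hsyl⟩, fun x hx => ?_⟩
  rw [Bp.xs_eq] at hx
  obtain ⟨χ, hχ, rfl⟩ := List.mem_map.mp hx
  rw [(Bp.sgn_eq hχ).2]
  by_cases h : 11 ∣ deg χ
  · exact Or.inl (Nat.mod_eq_zero_of_dvd h)
  · refine Or.inr ⟨iv χ z, cand_mem B (Bp.ne_triv (List.mem_append_left _ hχ)) h z, ?_⟩
    simp only [congOK, (Bp.sgn_eq hχ).1, decide_eq_true_eq, Bp.p_eq]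
    exact Int.emod_eq_zero_of_dvd (Bp.dvd_sub hp2 hz hzC hχ)

theorem okRows_of_blk (B : PBlk G 11 ⟨11, 1, 5, q, some y⟩) {p : ℕ} [Fact p.Prime] (hp2 : p ≠ 2) {o : Opt}
    (Bp : PBlk G p o) (heven : o.k ≠ 1 → 2 ∣ o.k) :
    okRows (degs11 q y) (centOrders.flatMap (rowsOf q y)) o = true := by
  rw [okRows]
  split_ifs with hk
  · obtain ⟨t, ht, h128⟩ := exists_two_central B.card_eq
    refine List.any_eq_true.mpr ⟨_, rowAt_mem_all B ht, ?_⟩
    rw [Bool.and_eq_true, decide_eq_true_iff, decide_eq_true_iff, Bp.p_eq]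
    exact ⟨Nat.mod_eq_zero_of_dvd h128, fun h => not_dvd_centralizer' Bp hk hp2 ht (Nat.dvd_of_mod_eq_zero h)⟩
  · obtain ⟨z, hz, hzC, hsyl, hpc⟩ := Bp.exists_central (heven hk)
    exact List.any_eq_true.mpr ⟨_, rowAt_mem_all B hz, zRow_of_central B Bp hp2 hz hzC hsyl hpc⟩

theorem key_c6 : opts5.all (fun o => !decide (o.xs = [21, 66, 66, -154]) || decide (o.y = none)) = true := by
  decide +kernel

variable [Fact (Nat.Prime 5)] [Fact (Nat.Prime 7)]

/-- The pair of blocks of orders `5` and `7` is not excluded by the checkers. -/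
theorem not_dead (B : PBlk G 11 ⟨11, 1, 5, q, some y⟩) {a b : Opt} (ha : a ∈ opts5) (hb : b ∈ opts7)
    (Ba : PBlk G 5 a) (Bb : PBlk G 7 b) :
    dead (degs11 q y) (centOrders.flatMap (rowsOf q y)) a b = false := by
  have hka := List.all_eq_true.mp key_opts5 a ha
  have hkb := List.all_eq_true.mp key_opts7 b hb
  simp only [Bool.and_eq_true, decide_eq_true_eq] at hka hkb
  have hea : a.k = 1 → 2 ∣ a.e ∧ a.y = none := fun h => by
    have := hka.2
    rw [if_pos h] at this
    simp only [Bool.and_eq_true, decide_eq_true_eq] at this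
    exact ⟨by rw [this.1]; norm_num, this.2⟩
  have heb : b.k = 1 → ¬ 2 ∣ b.e := fun h => by
    have := hkb.2
    rw [if_pos h, decide_eq_true_eq] at this
    rw [this]; norm_num
  obtain ⟨t, ht, h128⟩ := exists_two_central B.card_eq
  obtain ⟨v5, hv5, hv51, -, -⟩ := Ba.exists_gen
  obtain ⟨v7, hv7, hv71, -, -⟩ := Bb.exists_gen
  have hT7 : b.k = 1 → Bb.xl.map (iv · t) ∈ tVals (degs11 q y) b [0] (rowAt B t) := fun hk => by
    refine mem_tVals B ht Bb hk (by norm_num) hv7 hv71 ?_
    rcases Bb.pairs_card hk (by norm_num) ht hv7 hv71 with h | ⟨-, h⟩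
    · rw [h]; exact List.mem_cons_self
    · exact absurd h (heb hk)
  have hT5 : ∀ g : G, orderOf g = 2 → a.k = 1 →
      Ba.xl.map (iv · g) ∈ tVals (degs11 q y) a [0, 5] (rowAt B g) := fun g hg hk => by
    refine mem_tVals B hg Ba hk (by norm_num) hv5 hv51 ?_
    rcases Ba.pairs_card hk (by norm_num) hg hv5 hv51 with h | ⟨h, -⟩ <;> rw [h] <;> simp
  have ht128 : (rowAt B t).1 % 128 = 0 := Nat.mod_eq_zero_of_dvd h128
  simp only [dead, Bool.or_eq_false_iff, Bool.and_eq_false_iff, decide_eq_false_iff_not, Bool.not_eq_false']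
  refine ⟨⟨⟨⟨?_, ?_⟩, ?_⟩, ?_⟩, ?_⟩
  · by_cases hk : b.k = 1
    · refine Or.inr (List.any_eq_true.mpr ⟨_, rowAt_mem_all B ht, ?_⟩)
      simp only [Bool.and_eq_true, decide_eq_true_eq, Bool.not_eq_true', List.isEmpty_eq_false_iff]
      exact ⟨⟨ht128, fun h => not_dvd_centralizer' Bb hk (by norm_num) ht (Nat.dvd_of_mod_eq_zero h)⟩,
        List.ne_nil_of_mem (hT7 hk)⟩
    · exact Or.inl hk
  · by_cases hk : a.k = 1
    · by_cases hkb1 : b.k = 1
      · exact Or.inl (Or.inr (not_not_intro hkb1))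
      have hev : 2 ∣ b.k := by
        have := hkb.2
        rw [if_neg hkb1, decide_eq_true_eq] at this
        exact Nat.dvd_of_mod_eq_zero this
      obtain ⟨z, hz, hzC, hsyl, hpc⟩ := Bb.exists_central hev
      refine Or.inr (List.any_eq_true.mpr ⟨_, rowAt_mem_all B hz, ?_⟩)
      simp only [Bool.and_eq_true, decide_eq_true_eq, List.any_eq_true]
      refine ⟨⟨zRow_of_central B Bb (by norm_num) hz hzC hsyl hpc,
        fun h => not_dvd_centralizer' Ba hk (by norm_num) hz (Nat.dvd_of_mod_eq_zero h)⟩, _, hT5 z hz hk, ?_⟩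
      simp only [Bool.not_eq_true', List.isEmpty_eq_false_iff]
      refine List.ne_nil_of_mem (Bb.mem_gen hz (by norm_num)
        (fun χ hχ => mem_memVals B hz (Bb.ne_triv hχ)) (fun χ hχ => ?_) ?_)
      · simp only [congOK, (Bb.sgn_eq hχ).1, decide_eq_true_eq, Bb.p_eq]
        exact Int.emod_eq_zero_of_dvd (Bb.dvd_sub (by norm_num) hz hzC hχ)
      · rw [Ba.xs_eq, List.zip_map', List.map_map]
        rw [show (Ba.xl.map ((fun u : ℤ × ℤ => if wOut u.1.natAbs then u.2 * u.2 else 0) ∘
            fun χ => (Ba.σ χ * (deg χ : ℤ), iv χ z))) =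
            Ba.xl.map fun χ => if wOut (deg χ) then iv χ z * iv χ z else 0 from
          List.map_congr_left fun χ hχ => by simp only [Function.comp, (Ba.sgn_eq hχ).2]]
        rw [sum_map_ite (fun χ => wOut5 (deg χ)), sum_map_ite (fun χ => wOut (deg χ))]
        have hnd : ((Ba.xl.filter fun χ => wOut (deg χ)) ++
            ((Bb.xl ++ Bb.yl).filter fun χ => wOut5 (deg χ))).Nodup := by
          refine List.nodup_append.mpr ⟨(Ba.xy_nodup.sublist (List.sublist_append_left _ _)).filter _,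
            Bb.xy_nodup.filter _, fun u hu w hw e => ?_⟩
          have h55 := (List.mem_filter.mp hw).2
          simp only [wOut5, decide_eq_true_eq] at h55
          exact Ba.not_dvd u (List.mem_append_left _ (List.mem_filter.mp hu).1)
            (e ▸ (Dvd.dvd.trans (by norm_num) (Nat.dvd_of_mod_eq_zero h55)))
        have h := budget_bound B hz hnd (fun χ hχ => by
          rcases List.mem_append.mp hχ with h | h
          · exact Ba.ne_triv (List.mem_append_left _ (List.mem_filter.mp h).1)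
          · exact Bb.ne_triv (List.mem_filter.mp h).1) fun χ hχ => by
          rcases List.mem_append.mp hχ with h | h
          · have := (List.mem_filter.mp h).2
            simp only [wOut, decide_eq_true_eq] at this
            exact Nat.dvd_of_mod_eq_zero this
          · have := (List.mem_filter.mp h).2
            simp only [wOut5, decide_eq_true_eq] at this
            exact Dvd.dvd.trans (by norm_num) (Nat.dvd_of_mod_eq_zero this)
        rw [List.map_append, List.sum_append] at h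
        omega
    · exact Or.inl (Or.inl hk)
  · by_cases hk : a.k = 1
    · obtain ⟨u, hu, hcard⟩ := Ba.exists_inverting hk (by norm_num) (hea hk).1 hv5 hv51
      refine Or.inr (List.any_eq_true.mpr ⟨_, rowAt_mem_all B hu, ?_⟩)
      simp only [Bool.and_eq_true, decide_eq_true_eq, Bool.not_eq_true', List.isEmpty_eq_false_iff]
      exact ⟨fun h => not_dvd_centralizer' Ba hk (by norm_num) hu (Nat.dvd_of_mod_eq_zero h),
        List.ne_nil_of_mem (mem_tVals B hu Ba hk (by norm_num) hv5 hv51 (tgts := [5])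
          (by rw [hcard]; exact List.mem_cons_self))⟩
    · exact Or.inl hk
  · by_contra hc
    simp only [c6, Bool.not_eq_false, Bool.and_eq_true, decide_eq_true_eq, List.contains_iff_mem] at hc
    obtain ⟨⟨⟨⟨hak, haxs⟩, hbk⟩, hbxs⟩, hby⟩ := hc
    have hak1 : a.k ≠ 1 := fun h => by rw [h] at hak; simp at hak
    obtain ⟨w, hw, -, hwo, hwC⟩ := Ba.exists_gen
    have hcw : cC w = 5 * a.k := Ba.cC_of_order hwo
    have hw5 : 5 ∣ orderOf w := by rw [hwo]
    have hw1 : w ≠ 1 := fun h => by rw [h, orderOf_one] at hwo; norm_num at hwo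
    have hV : ∀ χ ∈ Bb.xl, (χ : G → ℂ) w = ((0 : ℤ) : ℂ) := fun χ hχ => by
      have hm : deg χ ∈ b.xs.map Int.natAbs := by
        rw [Bb.xs_eq, List.map_map]
        exact List.mem_map.mpr ⟨χ, hχ, (Bb.sgn_eq hχ).2⟩
      rw [hbxs] at hm
      rw [Ba.vanish ?_ hw5, Int.cast_zero]
      simp only [List.map_cons, List.map_nil, List.mem_cons, List.not_mem_nil, or_false] at hm
      rcases hm with e | e <;> rw [e] <;> norm_num
    have hY : ∀ ψ ∈ Bb.yl, (ψ : G → ℂ) w = ((1 : ℤ) : ℂ) := fun ψ hψ => by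
      obtain ⟨hlen, hdeg, -⟩ := Bb.yl_some 66 hby
      have hd66 : deg ψ = 66 := hdeg ψ hψ
      have hay : a.y = none := by
        have := List.all_eq_true.mp key_c6 a ha
        simpa [haxs] using this
      have hcount : ((Ba.xl ++ Ba.yl).map deg).count 66 = 2 := by
        rw [Ba.degs_eq, Opt.degs, haxs, hay]
        rfl
      have hmem : ψ ∈ Ba.xl ++ Ba.yl := by
        -- the exceptional characters of degree `66` lie in the principal `5`-block
        by_contra hn
        have hall : ∀ χ ∈ Ba.xl ++ Ba.yl, deg χ = 66 → χ ∈ (Bb.xl ++ Bb.yl).erase ψ := fun χ hχ e => by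
          refine (List.mem_erase_of_ne (fun h : χ = ψ => hn (h ▸ hχ))).mpr ?_
          exact Bb.mem_of_not_dvd hbk (Ba.ne_triv hχ) (by rw [e]; norm_num)
        have h3 := count_le_of_subset deg Ba.xy_nodup 66 hall
        rw [hcount] at h3
        have h4 : (((Bb.xl ++ Bb.yl).erase ψ).map deg).count 66 = ((Bb.xl ++ Bb.yl).map deg).count 66 - 1 := by
          have hp := (List.perm_cons_erase (List.mem_append_right Bb.xl hψ)).map deg
          rw [hp.count_eq, List.map_cons, hd66, List.count_cons_self]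
          omega
        rw [h4, Bb.degs_eq, Opt.degs, hbxs, hby, Opt.t, Bb.p_eq] at h3
        have heb3 : b.e = 3 := by
          have := hkb.2
          rwa [if_pos hbk, decide_eq_true_eq] at this
        rw [heb3] at h3
        simp [List.replicate] at h3
      have hψx : ψ ∈ Ba.xl := by
        rw [Ba.yl_none hay, List.append_nil] at hmem
        exact hmem
      have hσ : Ba.σ ψ * (deg ψ : ℤ) ∈ a.xs := by rw [Ba.xs_eq]; exact List.mem_map.mpr ⟨ψ, hψx, rfl⟩
      rw [Ba.value_P hψx hw hw1]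
      rw [haxs, hd66] at hσ
      simp only [List.mem_cons, List.not_mem_nil, or_false] at hσ
      push_cast at hσ
      rcases Ba.σ_unit hψx with e | e <;> rw [e] at hσ ⊢ <;> omega
    have hcount := Bb.count_eq hbk hv7 hv71 (g := w) (fun _ => 0) 1 hV hY
    have hxl : Bb.xl.map (fun _ => (0 : ℤ)) = [0, 0] := by
      rw [List.map_const', show Bb.xl.length = 2 by
        rw [← List.length_map (f := fun χ => Bb.σ χ * (deg χ : ℤ)), ← Bb.xs_eq, hbxs]; rfl]
      rfl
    rw [hxl, hcw] at hcount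
    simp only [tFrac, hby, hbxs, fracSum] at hcount
    generalize Nat.card {pr : G × G // IsConj w pr.1 ∧ IsConj w pr.2 ∧ pr.1 * pr.2 = v7} = N at hcount
    simp only [List.mem_cons, List.not_mem_nil, or_false] at hak
    rcases hak with e | e | e <;> rw [e] at hcount <;> norm_num at hcount <;> omega
  · by_cases hk : a.k = 1
    · by_cases hkb1 : b.k = 1
      · refine Or.inr (List.any_eq_true.mpr ⟨_, rowAt_mem_all B ht, ?_⟩)
        simp only [Bool.and_eq_true, decide_eq_true_eq, List.any_eq_true]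
        refine ⟨⟨⟨ht128, fun h => not_dvd_centralizer' Ba hk (by norm_num) ht (Nat.dvd_of_mod_eq_zero h)⟩,
          fun h => not_dvd_centralizer' Bb hkb1 (by norm_num) ht (Nat.dvd_of_mod_eq_zero h)⟩,
          _, hT5 t ht hk, _, hT7 hkb1, ?_⟩
        cases hy : b.y with
        | none => rfl
        | some y' =>
          simp only [Bool.or_eq_true, decide_eq_true_eq, List.contains_iff_mem]
          obtain ⟨hlen, hdeg, -⟩ := Bb.yl_some y' hy
          obtain ⟨ψ, hψ⟩ := List.exists_mem_of_length_pos (l := Bb.yl) (hlen ▸ Bb.t_pos)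
          by_cases h5 : y'.natAbs % 5 = 0
          · exact Or.inl (Or.inl h5)
          refine Or.inr ?_
          have hmem := Ba.mem_of_not_dvd hk (Bb.ne_triv (List.mem_append_right _ hψ))
            (fun h => h5 (Nat.mod_eq_zero_of_dvd (hdeg ψ hψ ▸ h)))
          rw [Ba.yl_none (hea hk).2, List.append_nil] at hmem
          obtain ⟨-, hr1⟩ := Bb.rel_iv (g := t) (by rw [ht]; norm_num) fun χ _ => iv_spec χ (mul_self_of_order_two ht)
          have hxd : a.xs.map Int.natAbs = Ba.xl.map deg := by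
            rw [Ba.xs_eq, List.map_map]
            exact List.map_congr_left fun χ hχ => (Ba.sgn_eq hχ).2
          rw [hxd, ← hr1 y' hy ψ hψ, ← hdeg ψ hψ]
          exact mem_cand deg (iv · t) hmem
      · exact Or.inl (Or.inr hkb1)
    · exact Or.inl (Or.inl hk)

/-- The principal blocks of the three primes. -/
structure Sys (G : Type u) [Group G] [Fintype G] [IsSimpleGroup G] [Fact (Nat.Prime 11)] [Fact (Nat.Prime 5)]
    [Fact (Nat.Prime 7)] where
  B11 : PBlk G 11 ⟨11, 1, 5, qTrue, some 280⟩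
  B5 : PBlk G 5 aTrue
  B7 : PBlk G 7 bTrue

/-- The principal blocks are those of `M22`. -/
theorem exists_sys (hn : Nat.card G = 443520) : Nonempty (Sys G) := by
  obtain ⟨⟨q, y⟩, hqy, ⟨B⟩⟩ := exists_eleven hn
  obtain ⟨b, hb, ⟨Bb⟩⟩ := exists_seven hqy B
  obtain ⟨a, ha, ⟨Ba⟩⟩ := exists_five_block hqy B hb Bb
  have hka := List.all_eq_true.mp key_opts5 a ha
  have hkb := List.all_eq_true.mp key_opts7 b hb
  simp only [Bool.and_eq_true, decide_eq_true_eq] at hka hkb
  have heva : a.k ≠ 1 → 2 ∣ a.k := fun h => by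
    have := hka.2
    rw [if_neg h, decide_eq_true_eq] at this
    exact Nat.dvd_of_mod_eq_zero this
  have hevb : b.k ≠ 1 → 2 ∣ b.k := fun h => by
    have := hkb.2
    rw [if_neg h, decide_eq_true_eq] at this
    exact Nat.dvd_of_mod_eq_zero this
  have hMa := okM_of_blk B (by norm_num) Ba heva
  have hMb := okM_of_blk B (by norm_num) Bb hevb
  have hcl : closed a b = true :=
    Bool.and_eq_true_iff.mpr ⟨closedIn_of_blk B Ba Bb, closedIn_of_blk B Bb Ba⟩
  have hdeg : (q, y) ∈ listsDeg := by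
    rcases Bool.or_eq_true_iff.mp (List.all_eq_true.mp key_degrees (q, y) hqy) with h | h
    · exact List.contains_iff_mem.mp h
    · have h' := List.all_eq_true.mp (List.all_eq_true.mp h a (List.mem_filter.mpr ⟨ha, hMa⟩)) b
        (List.mem_filter.mpr ⟨hb, hMb⟩)
      rw [hcl] at h'
      simp at h'
  have htab : (q, y) ∈ rowTab.map Prod.fst := by
    rcases Bool.or_eq_true_iff.mp (List.all_eq_true.mp key_central (q, y) hdeg) with h | h
    · exact List.contains_iff_mem.mp h
    · obtain ⟨t, ht, h128⟩ := exists_two_central hn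
      have h' := List.all_eq_true.mp h (cC t) (List.mem_filter.mpr
        ⟨cC_mem_centOrders B rfl ht, decide_eq_true (Nat.mod_eq_zero_of_dvd h128)⟩)
      exact absurd (List.isEmpty_iff.mp h') (List.ne_nil_of_mem (rowAt_mem B ht))
  obtain ⟨⟨qy, rows⟩, he, he1⟩ := List.mem_map.mp htab
  simp only at he1
  subst he1
  have hrows : centOrders.flatMap (rowsOf q y) = rows := by
    have h0 := List.all_eq_true.mp key_rows _ he
    rw [decide_eq_true_iff] at h0
    exact h0
  have h := List.all_eq_true.mp (List.all_eq_true.mp (List.all_eq_true.mp key_blocks _ he) a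
    (List.mem_filter.mpr ⟨List.mem_filter.mpr ⟨ha, hMa⟩, hrows ▸ okRows_of_blk B (by norm_num) Ba heva⟩)) b
    (List.mem_filter.mpr ⟨List.mem_filter.mpr ⟨hb, hMb⟩, hrows ▸ okRows_of_blk B (by norm_num) Bb hevb⟩)
  simp only [hcl, Bool.not_true, Bool.false_or, ← hrows, not_dead B ha hb Ba Bb, Bool.and_eq_true,
    decide_eq_true_eq, Prod.mk.injEq] at h
  obtain ⟨⟨⟨rfl, rfl⟩, rfl⟩, rfl⟩ := h
  exact ⟨⟨B, Ba, Bb⟩⟩

end CfsgLib.M22Order
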