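import Cfsg.Agent.Lib.M22Order.CharValues
import Cfsg.Agent.Lib.Char.DefectZero

/-!
# Simple groups of order 443520: involutions centralising a Sylow subgroup
-/

set_option autoImplicit false
set_option linter.unusedSectionVars false
set_option linter.style.haveILetI false

namespace CfsgLib.M22Order

open Cfsg
open scoped ComplexConjugate CfsgLib.Char
open CfsgLib CfsgLib.BrauerTuan
open scoped _root_.Classical

universe u

variable {G : Type u} [Group G] [Fintype G] [IsSimpleGroup G] {p : ℕ} [Fact p.Prime] {o : Opt}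

/-- The characters of degree divisible by `p` vanish on the `p`-singular elements. -/
theorem PBlk.vanish (B : PBlk G p o) {χ : IrrCharacter G} (hd : p ∣ deg χ) {x : G} (hx : p ∣ orderOf x) :
    (χ : G → ℂ) x = 0 := by
  have hdvd : p ∣ Nat.card G := B.T.card_P ▸ Subgroup.card_subgroup_dvd_card (B.T.P : Subgroup G)
  refine Char.defect_zero_vanish χ.2 (p := p) (n := 1) (d := deg χ) (value_one' χ) ?_ ?_ ?_ hx
  · rwa [pow_one]
  · rw [B.card_eq, show p ^ (1 + 1) = p * p by ring]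
    exact B.T.sq
  · rwa [pow_one]

/-- A generator of `P`. -/
theorem PBlk.exists_gen (B : PBlk G p o) :
    ∃ v : G, v ∈ (B.T.P : Subgroup G) ∧ v ≠ 1 ∧ orderOf v = p ∧
      Subgroup.centralizer ({v} : Set G) = Subgroup.centralizer ((B.T.P : Subgroup G) : Set G) := by
  obtain ⟨v, hv, hv1⟩ := M12Order.exists_ne_one_P B.T
  have hvo : orderOf v = p := by
    have h := orderOf_dvd_natCard (⟨v, hv⟩ : (B.T.P : Subgroup G))
    rw [B.T.card_P, Subgroup.orderOf_mk] at h
    exact ((Nat.dvd_prime Fact.out).mp h).resolve_left fun h' => hv1 (orderOf_eq_one_iff.mp h')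
  refine ⟨v, hv, hv1, hvo, ?_⟩
  have hzp : Subgroup.zpowers v = (B.T.P : Subgroup G) :=
    Subgroup.eq_of_le_of_card_ge (Subgroup.zpowers_le.mpr hv) (by rw [Nat.card_zpowers, hvo, B.T.card_P])
  ext c
  rw [Subgroup.mem_centralizer_singleton_iff]
  refine ⟨fun h => Subgroup.mem_centralizer_iff.mpr fun w hw => ?_,
    fun h => (Subgroup.mem_centralizer_iff.mp h v hv).symm⟩
  rw [← hzp] at hw
  obtain ⟨i, rfl⟩ := Subgroup.mem_zpowers_iff.mp hw
  exact ((show Commute c v from h).zpow_right i).symm.eq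

/-- An involution of `C(P)` gives congruences for the values of the block. -/
theorem PBlk.dvd_sub (B : PBlk G p o) (hp2 : p ≠ 2) {z : G} (hz : orderOf z = 2)
    (hzC : z ∈ Subgroup.centralizer ((B.T.P : Subgroup G) : Set G)) {χ : IrrCharacter G} (hχ : χ ∈ B.xl) :
    (p : ℤ) ∣ iv χ z - B.σ χ := by
  have hφ := Char.isCharacter_of_isIrr χ.2
  have hzz := mul_self_of_order_two hz
  have hzr : ¬ p ∣ orderOf z := by
    rw [hz]
    exact fun h => hp2 ((Nat.prime_dvd_prime_iff_eq Fact.out Nat.prime_two).mp h)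
  obtain ⟨K, hK⟩ := M12Order.exists_nat_sum_subgroup hφ (B.T.P : Subgroup G)
  rw [B.T.card_P] at hK
  obtain ⟨a, ha, -⟩ := exists_fixed_trace_sum hφ (B.T.P : Subgroup G) B.T.card_P hzz
    (Subgroup.centralizer_le_normalizer _ hzC) hK
  rw [← Finset.add_sum_erase _ _ (Finset.mem_univ (1 : (B.T.P : Subgroup G))),
    Finset.sum_congr rfl (g := fun _ => (B.σ χ : ℂ)) (fun (w : (B.T.P : Subgroup G)) hw =>
      B.sec hχ w.2 (fun e => Finset.ne_of_mem_erase hw (Subtype.ext e)) hzC hzr),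
    Finset.sum_const, Finset.card_erase_of_mem (Finset.mem_univ _), Finset.card_univ,
    ← Nat.card_eq_fintype_card, B.T.card_P, Subgroup.coe_one, one_mul, iv_spec χ hzz, nsmul_eq_mul] at ha
  have h1 : 1 ≤ p := (Fact.out : p.Prime).one_lt.le
  have h : ((iv χ z + ((p : ℤ) - 1) * B.σ χ : ℤ) : ℂ) = (((p : ℤ) * a : ℤ) : ℂ) := by
    rw [Nat.cast_sub h1, Nat.cast_one] at ha
    push_cast
    exact ha
  exact ⟨a - B.σ χ, by linear_combination Int.cast_injective (α := ℂ) h⟩

/-- An involution of `C(P)` with a centraliser of an order allowed by the Sylow theorem. -/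
theorem PBlk.exists_central (B : PBlk G p o) (hk : 2 ∣ o.k) :
    ∃ z : G, orderOf z = 2 ∧ z ∈ Subgroup.centralizer ((B.T.P : Subgroup G) : Set G) ∧
      syl o (cC z) = true ∧ p ∣ cC z := by
  have hp : p.Prime := Fact.out
  obtain ⟨C, hC⟩ : ∃ C, C = Subgroup.centralizer ((B.T.P : Subgroup G) : Set G) := ⟨_, rfl⟩
  have hcardC : Nat.card C = p * o.k := hC ▸ B.T.card_C
  obtain ⟨⟨z, hzC⟩, hzz, hz1, -, hidx⟩ := exists_central_involution (G := C) (b := 1) le_rfl
    (by rw [pow_one, hcardC]; exact hk.mul_left p)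
  have hzz' : z * z = 1 := congrArg Subtype.val hzz
  have hz1' : z ≠ 1 := fun h => hz1 (Subtype.ext h)
  have hz : orderOf z = 2 := orderOf_eq_prime (by rw [pow_two, hzz']) hz1'
  obtain ⟨H, hH⟩ : ∃ H, H = Subgroup.centralizer ({z} : Set G) := ⟨_, rfl⟩
  obtain ⟨N, hN⟩ : ∃ N, N = Subgroup.normalizer ((B.T.P : Subgroup G) : Set G) := ⟨_, rfl⟩
  have hPH : (B.T.P : Subgroup G) ≤ H := fun w hw => by
    rw [hH]
    exact Subgroup.mem_centralizer_singleton_iff.mpr (Subgroup.mem_centralizer_iff.mp (hC ▸ hzC) w hw)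
  haveI : IsCyclic (B.T.P : Subgroup G) := isCyclic_of_prime_card B.T.card_P
  have hPC : (B.T.P : Subgroup G) ≤ C := fun a ha => by
    rw [hC]
    exact Subgroup.mem_centralizer_iff.mpr fun c hc =>
      congrArg Subtype.val ((IsCyclic.commGroup (α := (B.T.P : Subgroup G))).mul_comm ⟨c, hc⟩ ⟨a, ha⟩)
  have hCN : C ≤ N := by rw [hC, hN]; exact Subgroup.centralizer_le_normalizer _
  -- the centraliser of `z` in `C(P)`
  have hHmem : ∀ a, a ∈ H ↔ a * z = z * a := fun a => by rw [hH, Subgroup.mem_centralizer_singleton_iff]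
  have hA : Nat.card ↥(H ⊓ C) = Nat.card (Subgroup.centralizer ({(⟨z, hzC⟩ : C)} : Set C)) := by
    refine Nat.card_congr ⟨fun x => ⟨⟨x.1, x.2.2⟩, ?_⟩, fun x => ⟨x.1.1, ?_, x.1.2⟩, fun x => rfl, fun x => rfl⟩
    · refine Subgroup.mem_centralizer_singleton_iff.mpr (Subtype.ext ?_)
      exact (hHmem _).mp x.2.1
    · exact (hHmem _).mpr (congrArg Subtype.val (Subgroup.mem_centralizer_singleton_iff.mp x.2))
  have hmul := (Subgroup.centralizer ({(⟨z, hzC⟩ : C)} : Set C)).card_mul_index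
  rw [← hA, hcardC] at hmul
  obtain ⟨i, hi⟩ : ∃ i, i = (Subgroup.centralizer ({(⟨z, hzC⟩ : C)} : Set C)).index := ⟨_, rfl⟩
  rw [← hi] at hmul hidx
  obtain ⟨b, hb⟩ : p ∣ Nat.card ↥(H ⊓ C) := by
    have := Subgroup.card_dvd_of_le (le_inf hPH hPC)
    rwa [B.T.card_P] at this
  rw [hb, mul_assoc] at hmul
  have hbi : b * i = o.k := Nat.eq_of_mul_eq_mul_left hp.pos hmul
  have hb0 : 0 < b := by
    rcases Nat.eq_zero_or_pos b with rfl | h
    · rw [mul_zero] at hb; exact absurd hb Nat.card_pos.ne'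
    · exact h
  -- the index in `N(P)`
  haveI hnorm : (C.subgroupOf N).Normal := by
    refine ⟨fun c hc m => ?_⟩
    rw [Subgroup.mem_subgroupOf] at hc ⊢
    rw [hC] at hc ⊢
    refine Subgroup.mem_centralizer_iff.mpr fun w hw => ?_
    have hm : (m : G) ∈ Subgroup.normalizer ((B.T.P : Subgroup G) : Set G) := hN ▸ m.2
    obtain ⟨w', hw', rfl⟩ : ∃ w', w' ∈ (B.T.P : Subgroup G) ∧ (m : G) * w' * (m : G)⁻¹ = w :=
      ⟨(m : G)⁻¹ * w * m, (Subgroup.mem_normalizer_iff.mp hm _).mpr (by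
        rw [show (m : G) * ((m : G)⁻¹ * w * m) * (m : G)⁻¹ = w by group]; exact hw), by group⟩
    have h := Subgroup.mem_centralizer_iff.mp hc w' hw'
    push_cast
    calc (m : G) * w' * (m : G)⁻¹ * ((m : G) * (c : G) * (m : G)⁻¹)
        = (m : G) * (w' * c) * (m : G)⁻¹ := by group
      _ = (m : G) * (c * w') * (m : G)⁻¹ := by rw [h]
      _ = (m : G) * (c : G) * (m : G)⁻¹ * ((m : G) * w' * (m : G)⁻¹) := by group
  obtain ⟨f, hf⟩ : ∃ f, f = C.relIndex (H ⊓ N) := ⟨_, rfl⟩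
  have hfe : f ∣ o.e := by
    have h := Subgroup.relIndex_dvd_index_of_normal (C.subgroupOf N) ((H ⊓ N).subgroupOf N)
    rw [Subgroup.relIndex_subgroupOf inf_le_right, ← hf] at h
    have h2 : (C.subgroupOf N).index = o.e := by
      have h3 := (C.subgroupOf N).card_mul_index
      rw [Nat.card_congr (Subgroup.subgroupOfEquivOfLe hCN).toEquiv, hcardC] at h3
      have h4 := N.card_mul_index
      have hi0 : (Subgroup.normalizer ((B.T.P : Subgroup G) : Set G)).index = 1 + B.T.D.n * p :=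
        (Sylow.card_eq_index_normalizer B.T.P).symm.trans B.T.D.card_sylow
      rw [hN, hi0, B.T.D.card_G, B.T.card_C, B.e_eq] at h4
      rw [← hN] at h4
      have h5 : Nat.card N = p * o.k * o.e :=
        Nat.eq_of_mul_eq_mul_right (show 0 < 1 + B.T.D.n * p by omega) (by rw [h4]; ring)
      rw [h5] at h3
      exact Nat.eq_of_mul_eq_mul_left (show 0 < p * o.k from hcardC ▸ Nat.card_pos) h3
    rwa [h2] at h
  have hK : Nat.card ↥(H ⊓ N) = p * b * f := by
    have h := Subgroup.relIndex_mul_relIndex ⊥ (H ⊓ C) (H ⊓ N) bot_le (inf_le_inf_left _ hCN)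
    rw [Subgroup.relIndex_bot_left, Subgroup.relIndex_bot_left, hb] at h
    rw [← h, hf]
    congr 1
    rw [← Subgroup.inf_relIndex_right C (H ⊓ N),
      show C ⊓ (H ⊓ N) = H ⊓ C by rw [inf_left_comm, inf_eq_left.mpr hCN]]
  -- the Sylow subgroups of `C(z)`
  have hsyl := Sylow.card_eq_index_normalizer (B.T.P.subtype hPH)
  have hnorm' : Subgroup.normalizer ((B.T.P.subtype hPH : Sylow p H) : Set H) =
      N.subgroupOf H := by
    rw [show ((B.T.P.subtype hPH : Sylow p H) : Set H) = (((B.T.P : Subgroup G).subgroupOf H : Subgroup H) : Set H)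
      from rfl, hN]
    exact (Subgroup.subgroupOf_normalizer_eq hPH).symm
  rw [hnorm'] at hsyl
  have hcard := (N.subgroupOf H).card_mul_index
  rw [← hsyl, ← Subgroup.inf_subgroupOf_left, Nat.card_congr (Subgroup.subgroupOfEquivOfLe inf_le_left).toEquiv,
    hK] at hcard
  have hmod := card_sylow_modEq_one p H
  rw [Nat.ModEq, Nat.mod_eq_of_lt hp.one_lt] at hmod
  have hc : cC z = Nat.card H := by rw [cC, hH]
  refine ⟨z, hz, hC ▸ hzC, ?_, ?_⟩
  swap
  · rw [hc, ← hcard, mul_assoc, mul_assoc]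
    exact dvd_mul_right _ _
  simp only [syl, List.any_eq_true, List.mem_range, Bool.and_eq_true, decide_eq_true_eq, B.p_eq]
  have hk0 : 0 < o.k := hbi ▸ Nat.mul_pos hb0 (Nat.pos_of_ne_zero fun h => hidx (h ▸ dvd_zero 2))
  have hble : b ≤ o.k := Nat.le_of_dvd hk0 ⟨i, hbi.symm⟩
  have he0 : 0 < o.e := by have := B.T.D.two_le_e; rw [← B.e_eq]; omega
  have hf0 : f ≠ 0 := fun h => by rw [h, zero_dvd_iff] at hfe; omega
  refine ⟨b, by omega, ⟨⟨hb0.ne', Nat.mod_eq_zero_of_dvd ⟨i, hbi.symm⟩⟩, ?_⟩, f,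
    Nat.lt_succ_of_le (Nat.le_of_dvd he0 hfe), ⟨⟨hf0, Nat.mod_eq_zero_of_dvd hfe⟩, ?_⟩, ?_⟩
  · rw [← hbi, Nat.mul_div_cancel_left _ hb0]
    omega
  · exact Nat.mod_eq_zero_of_dvd (hc ▸ hcard ▸ dvd_mul_right _ _)
  · rw [hc, ← hcard, Nat.mul_div_cancel_left _ (Nat.mul_pos (Nat.mul_pos hp.pos hb0) (Nat.pos_of_ne_zero hf0))]
    exact hmod

end CfsgLib.M22Order
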