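import Cfsg.Agent.Lib.M22Order.CharTables
import Cfsg.Agent.Lib.M22Order.CharLocal

/-!
# Simple groups of order 443520: the Sylow 11-subgroup is self-centralising
-/

set_option autoImplicit false
set_option linter.unusedSectionVars false
set_option linter.style.haveILetI false
set_option maxHeartbeats 2000000
set_option Elab.async false

namespace CfsgLib.M22Order

open Cfsg
open CfsgLib CfsgLib.BrauerTuan
open scoped _root_.Classical

universe u

/-- A block with `C(P) ≠ P` has values at an involution of `C(P)`. -/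
def zFree (o : Opt) : Bool :=
  (centOrders.map (11 * ·)).any fun c =>
    (prodW (o.xs.map fun x => (true, (vals c x.natAbs).filter fun A => congOK (some o.p) x A))
      ((c : Int) - 1)).any fun As =>
        match o.y with
        | none => decide (sigSum o.xs As = 0)
        | some y => (vals c y.natAbs).contains (yVal o As)

/-- The test of `orderBad` at the `j`-th candidate for the Sylow count. -/
def badAt (n p : ℕ) (qs : List ℕ) (B : ℕ) (exc : List (ℕ × ℕ × ℕ)) (j : ℕ) : Bool :=
  decide (j = 0) || decide (n / p % (1 + j * p) ≠ 0) || SmallOrder.badIndex n (1 + j * p) ||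
    (List.range p).all fun e =>
      decide (e < 2) || decide ((p - 1) % e ≠ 0) || decide (n / p / (1 + j * p) % e ≠ 0) ||
        exc.contains (1 + j * p, e, n / p / (1 + j * p) / e) ||
          blockBad n p qs B (1 + j * p) e (n / p / (1 + j * p) / e)

theorem orderBad_eq (n p : ℕ) (qs : List ℕ) (B : ℕ) (exc : List (ℕ × ℕ × ℕ)) :
    orderBad n p qs B exc = (List.range (n / p / p + 1)).all (badAt n p qs B exc) := rfl

theorem range_all_step {f : ℕ → Bool} {N : ℕ} (a k : ℕ) (h1 : (((List.range N).drop a).take k).all f = true)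
    (h2 : ((List.range N).drop (a + k)).all f = true) : ((List.range N).drop a).all f = true := by
  rw [← List.take_append_drop k ((List.range N).drop a), List.all_append, h1, List.drop_drop, h2]
  rfl

/-- `blockBad`, with a parity shortcut. -/
def blockBadEven (n p : ℕ) (qs : List ℕ) (B c e k : ℕ) : Bool :=
  if e + 1 = p ∧ ((xList n p k (e * c) qs B).all fun w => decide (w % 2 = 0)) = true then true
  else blockBad n p qs B c e k

theorem sumsOf_even {L : List ℤ} (hL : ∀ w ∈ L, w % 2 = 0) : ∀ (j : ℕ), ∀ v ∈ sumsOf L j, v % 2 = 0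
  | 0, v, hv => by simp [sumsOf] at hv; subst hv; rfl
  | j + 1, v, hv => by
    simp only [sumsOf, List.mem_eraseDups, List.mem_flatMap, List.mem_map] at hv
    obtain ⟨a, ha, w, hw, rfl⟩ := hv
    have := sumsOf_even hL j a ha
    have := hL w hw
    omega

theorem blockBad_of_even {n p : ℕ} {qs : List ℕ} {B c e k : ℕ} (h : blockBadEven n p qs B c e k = true) :
    blockBad n p qs B c e k = true := by
  unfold blockBadEven at h
  split at h
  · rename_i hc
    unfold blockBad
    simp only [if_pos hc.1, Bool.not_eq_true']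
    rw [Bool.eq_false_iff]
    intro hm
    have := sumsOf_even (fun w hw => of_decide_eq_true (List.all_eq_true.mp hc.2 w hw)) e _
      (List.contains_iff_mem.mp hm)
    omega
  · exact h

/-- `badAt`, with a parity shortcut. -/
def badAtEven (n p : ℕ) (qs : List ℕ) (B : ℕ) (exc : List (ℕ × ℕ × ℕ)) (j : ℕ) : Bool :=
  decide (j = 0) || decide (n / p % (1 + j * p) ≠ 0) || SmallOrder.badIndex n (1 + j * p) ||
    (List.range p).all fun e =>
      decide (e < 2) || decide ((p - 1) % e ≠ 0) || decide (n / p / (1 + j * p) % e ≠ 0) ||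
        exc.contains (1 + j * p, e, n / p / (1 + j * p) / e) ||
          blockBadEven n p qs B (1 + j * p) e (n / p / (1 + j * p) / e)

theorem badAt_of_even {n p : ℕ} {qs : List ℕ} {B : ℕ} {exc : List (ℕ × ℕ × ℕ)} {j : ℕ}
    (h : badAtEven n p qs B exc j = true) : badAt n p qs B exc j = true := by
  unfold badAtEven at h
  unfold badAt
  simp only [Bool.or_eq_true, List.all_eq_true] at h ⊢
  refine h.imp_right fun h' e he => (h' e he).imp_right blockBad_of_even

theorem key_eleven_0 : ((((List.range 3666).drop 0).take 2).all (badAt 443520 11 [5, 7, 11] 665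
    [(144, 5, 56), (144, 10, 28), (8064, 5, 1)])) = true := by decide +kernel

theorem key_eleven_1 : ((((List.range 3666).drop 2).take 2).all (badAt 443520 11 [5, 7, 11] 665
    [(144, 5, 56), (144, 10, 28), (8064, 5, 1)])) = true := by decide +kernel

theorem key_eleven_2 : ((((List.range 3666).drop 4).take 2).all (badAt 443520 11 [5, 7, 11] 665
    [(144, 5, 56), (144, 10, 28), (8064, 5, 1)])) = true := by decide +kernel

theorem key_eleven_3 : ((((List.range 3666).drop 6).take 2).all (badAt 443520 11 [5, 7, 11] 665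
    [(144, 5, 56), (144, 10, 28), (8064, 5, 1)])) = true := by decide +kernel

theorem key_eleven_4 : ((((List.range 3666).drop 8).take 2).all (badAt 443520 11 [5, 7, 11] 665
    [(144, 5, 56), (144, 10, 28), (8064, 5, 1)])) = true := by decide +kernel

theorem key_eleven_5 : ((((List.range 3666).drop 10).take 4).all (badAt 443520 11 [5, 7, 11] 665
    [(144, 5, 56), (144, 10, 28), (8064, 5, 1)])) = true := by decide +kernel

theorem key_eleven_6 : ((((List.range 3666).drop 14).take 6).all (badAt 443520 11 [5, 7, 11] 665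
    [(144, 5, 56), (144, 10, 28), (8064, 5, 1)])) = true := by decide +kernel

theorem key_eleven_7 : ((((List.range 3666).drop 20).take 8).all (badAt 443520 11 [5, 7, 11] 665
    [(144, 5, 56), (144, 10, 28), (8064, 5, 1)])) = true := by decide +kernel

theorem key_eleven_8 : ((((List.range 3666).drop 28).take 12).all (badAt 443520 11 [5, 7, 11] 665
    [(144, 5, 56), (144, 10, 28), (8064, 5, 1)])) = true := by decide +kernel

theorem key_eleven_9_even : ((((List.range 3666).drop 40).take 24).all (badAtEven 443520 11 [5, 7, 11] 665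
    [(144, 5, 56), (144, 10, 28), (8064, 5, 1)])) = true := by decide +kernel

theorem key_eleven_9 : ((((List.range 3666).drop 40).take 24).all (badAt 443520 11 [5, 7, 11] 665
    [(144, 5, 56), (144, 10, 28), (8064, 5, 1)])) = true :=
  List.all_eq_true.mpr fun j hj => badAt_of_even (List.all_eq_true.mp key_eleven_9_even j hj)

theorem key_eleven_10 : ((((List.range 3666).drop 64).take 64).all (badAt 443520 11 [5, 7, 11] 665
    [(144, 5, 56), (144, 10, 28), (8064, 5, 1)])) = true := by decide +kernel

theorem key_eleven_11 : ((((List.range 3666).drop 128).take 128).all (badAt 443520 11 [5, 7, 11] 665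
    [(144, 5, 56), (144, 10, 28), (8064, 5, 1)])) = true := by decide +kernel

theorem key_eleven_12 : ((((List.range 3666).drop 256).take 768).all (badAt 443520 11 [5, 7, 11] 665
    [(144, 5, 56), (144, 10, 28), (8064, 5, 1)])) = true := by decide +kernel

theorem key_eleven_13 : (((List.range 3666).drop 1024).all (badAt 443520 11 [5, 7, 11] 665
    [(144, 5, 56), (144, 10, 28), (8064, 5, 1)])) = true := by decide +kernel

theorem key_order_eleven :
    orderBad 443520 11 [5, 7, 11] 665 [(144, 5, 56), (144, 10, 28), (8064, 5, 1)] = true := by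
  rw [orderBad_eq, show (443520 : ℕ) / 11 / 11 + 1 = 3666 by norm_num]
  have h13 := key_eleven_13
  have h12 := range_all_step 256 768 key_eleven_12 h13
  have h11 := range_all_step 128 128 key_eleven_11 h12
  have h10 := range_all_step 64 64 key_eleven_10 h11
  have h9 := range_all_step 40 24 key_eleven_9 h10
  have h8 := range_all_step 28 12 key_eleven_8 h9
  have h7 := range_all_step 20 8 key_eleven_7 h8
  have h6 := range_all_step 14 6 key_eleven_6 h7
  have h5 := range_all_step 10 4 key_eleven_5 h6
  have h4 := range_all_step 8 2 key_eleven_4 h5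
  have h3 := range_all_step 6 2 key_eleven_3 h4
  have h2 := range_all_step 4 2 key_eleven_2 h3
  have h1 := range_all_step 2 2 key_eleven_1 h2
  have h0 := range_all_step 0 2 key_eleven_0 h1
  simpa using h0

theorem key_x56 : xList 443520 11 56 720 [5, 7, 11] 665 = [45, -120, 144] ∧
    yList 443520 11 56 720 5 [5, 7, 11] 665 = [16, 60, -72] := by decide +kernel

theorem key_x28 : xList 443520 11 28 1440 [5, 7, 11] 665 = [-32, 45, -120, 144] := by decide +kernel

theorem key_x1 : xList 443520 11 1 40320 [5, 7, 11] 665 = xs11 ∧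
    yList 443520 11 1 40320 5 [5, 7, 11] 665 = ys11 := by decide +kernel

theorem key_free56 : (optsFrom 11 56 5 [45, -120, 144] [16, 60, -72]).all (fun o => !zFree o) = true := by
  decide +kernel

theorem key_free28 : (optsFrom 11 28 10 [-32, 45, -120, 144] []).all (fun o => !zFree o) = true := by
  decide +kernel

theorem key_lists : optsFrom 11 1 5 xs11 ys11 =
    lists11.map fun qy => (⟨11, 1, 5, qy.1, some qy.2⟩ : Opt) := by decide +kernel

theorem key_two : ∀ i < 8, ∀ b < 316, 315 % b = 0 → (2 ^ i * b) % 2 = 0 →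
    centOrders.contains (2 ^ i * b) = true := by decide +kernel

theorem mem_centOrders {c : ℕ} (hc : c ∣ 40320) (h2 : 2 ∣ c) : c ∈ centOrders := by
  obtain ⟨a, b, ha, hb, rfl⟩ := (Nat.dvd_mul (k := c) (m := 2 ^ 7) (n := 315)).mp hc
  obtain ⟨i, hi, rfl⟩ := (Nat.dvd_prime_pow Nat.prime_two).mp ha
  exact List.contains_iff_mem.mp (key_two i (Nat.lt_succ_of_le hi) b
    (Nat.lt_succ_of_le (Nat.le_of_dvd (by norm_num) hb)) (Nat.mod_eq_zero_of_dvd hb) (Nat.mod_eq_zero_of_dvd h2))

variable {G : Type u} [Group G] [Fintype G] [IsSimpleGroup G] [Fact (Nat.Prime 11)]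

theorem not_zFree {o : Opt} (B : PBlk G 11 o) (hk : 2 ∣ o.k) (hz : zFree o = false) : False := by
  obtain ⟨z, hzo, hzC, -, hpc⟩ := B.exists_central hk
  have hzz := mul_self_of_order_two hzo
  have hzr : ¬ 11 ∣ orderOf z := by rw [hzo]; norm_num
  have hn := B.card_eq
  have hcm : cC z ∈ centOrders.map (11 * ·) := by
    obtain ⟨m, hm⟩ := hpc
    have h2 : 2 ∣ cC z := by
      rw [cC, ← hzo]
      exact Subgroup.orderOf_dvd_natCard _ (Subgroup.mem_centralizer_singleton_iff.mpr rfl)
    rw [hm] at h2
    have h40 : m ∣ 40320 := by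
      have h := cC_dvd hn z
      rw [hm, show (443520 : ℕ) = 11 * 40320 by norm_num] at h
      exact Nat.dvd_of_mul_dvd_mul_left (by norm_num) h
    exact List.mem_map.mpr ⟨m, mem_centOrders h40 ((Nat.prime_two.dvd_mul.mp h2).resolve_left (by norm_num)),
      hm.symm⟩
  have hsum := sum_sq_le B.nodup (g := z) fun χ _ => iv_spec χ hzz
  rw [List.map_cons, List.sum_cons, iv_triv, List.map_append, List.sum_append] at hsum
  have hy0 : 0 ≤ (B.yl.map fun χ => iv χ z * iv χ z).sum := List.sum_nonneg fun x hx => by
    obtain ⟨c, -, rfl⟩ := List.mem_map.mp hx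
    exact mul_self_nonneg _
  have hmem : B.xl.map (iv · z) ∈
      prodW (o.xs.map fun x => (true, (vals (cC z) x.natAbs).filter fun A => congOK (some o.p) x A))
        ((cC z : Int) - 1) := by
    rw [B.xs_eq, List.map_map]
    refine mem_prodW _ (fun χ => iv χ z) B.xl _ (fun χ hχ => ?_) ?_
    · simp only [Function.comp, (B.sgn_eq hχ).2, List.mem_filter]
      refine ⟨iv_mem_vals hn B.T.noncomm (B.ne_triv (List.mem_append_left _ hχ)) hzo, ?_⟩
      simp only [congOK, (B.sgn_eq hχ).1, decide_eq_true_eq, B.p_eq]
      exact Int.emod_eq_zero_of_dvd (B.dvd_sub (by norm_num) hzo hzC hχ)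
    · simp only [Function.comp, if_true]
      omega
  obtain ⟨hr0, hr1⟩ := B.rel_iv hzr fun χ _ => iv_spec χ hzz
  refine Bool.eq_false_iff.mp hz (List.any_eq_true.mpr ⟨_, hcm, List.any_eq_true.mpr ⟨_, hmem, ?_⟩⟩)
  cases hy : o.y with
  | none => simpa using hr0 hy
  | some y =>
    obtain ⟨hlen, hdeg, -⟩ := B.yl_some y hy
    obtain ⟨ψ, hψ⟩ := List.exists_mem_of_length_pos (l := B.yl) (hlen ▸ B.t_pos)
    simp only [List.contains_iff_mem]
    rw [← hr1 y hy ψ hψ, ← hdeg ψ hψ]
    exact iv_mem_vals hn B.T.noncomm (B.ne_triv (List.mem_append_right _ hψ)) hzo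

/-- The principal `11`-block of a simple group of order 443520. -/
theorem exists_eleven (hn : Nat.card G = 443520) :
    ∃ qy ∈ lists11, Nonempty (PBlk G 11 ⟨11, 1, 5, qy.1, some qy.2⟩) := by
  obtain ⟨k, T, h⟩ := exists_ctx_of_orderBad hn 11 [5, 7, 11] 665 [(144, 5, 56), (144, 10, 28), (8064, 5, 1)]
    (by norm_num) (by norm_num) (by norm_num) (by norm_num) (by norm_num) (by simp <;> norm_num) key_order_eleven
  simp only [List.mem_cons, List.not_mem_nil, or_false, Prod.mk.injEq] at h
  rcases h with ⟨hc, he, rfl⟩ | ⟨hc, he, rfl⟩ | ⟨hc, he, rfl⟩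
  · obtain ⟨xs, y, hmem, ⟨B⟩⟩ := exists_pblk T he (fun _ => true) (fun _ _ _ _ _ => rfl)
      (X := [45, -120, 144]) (Y := [16, 60, -72]) (by rw [List.filter_true, hc]; exact key_x56.1)
      (fun _ => by rw [List.filter_true, hc]; exact key_x56.2)
    have h := List.all_eq_true.mp key_free56 _ hmem
    exact (not_zFree B (by norm_num) (by simpa using h)).elim
  · obtain ⟨xs, y, hmem, ⟨B⟩⟩ := exists_pblk T he (fun _ => true) (fun _ _ _ _ _ => rfl)
      (X := [-32, 45, -120, 144]) (Y := []) (by rw [List.filter_true, hc]; exact key_x28)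
      (fun h => absurd rfl h)
    have h := List.all_eq_true.mp key_free28 _ hmem
    exact (not_zFree B (by norm_num) (by simpa using h)).elim
  · obtain ⟨xs, y, hmem, hB⟩ := exists_pblk T he (fun _ => true) (fun _ _ _ _ _ => rfl)
      (X := xs11) (Y := ys11) (by rw [List.filter_true, hc]; exact key_x1.1)
      (fun _ => by rw [List.filter_true, hc]; exact key_x1.2)
    rw [key_lists, List.mem_map] at hmem
    obtain ⟨qy, hqy, heq⟩ := hmem
    exact ⟨qy, hqy, heq ▸ hB⟩

end CfsgLib.M22Order
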