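import Cfsg.Agent.Lib.M22Order.CharExclude

/-!
# Simple groups of order 443520: the principal 5- and 7-blocks
-/

set_option autoImplicit false
set_option linter.unusedSectionVars false
set_option linter.style.haveILetI false
set_option maxHeartbeats 2000000
set_option Elab.async false

namespace CfsgLib.M22Order

open Cfsg
open CfsgLib CfsgLib.BrauerTuan
open scoped _root_.Classical

universe u

theorem key_degSet : lists11.all (fun qy => (degs11 qy.1 qy.2).all fun d => degSet.contains d) = true := by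
  decide +kernel

theorem keep_eq (s : ℤ) (d : ℕ) (hs : s = 1 ∨ s = -1) :
    keep (s * (d : ℤ)) = (decide (d % 11 = 0) || degSet.contains d) := by
  rcases hs with rfl | rfl <;> simp [keep]

/-- The triples `(number of Sylow subgroups, e, k)` for `p = 5`. -/
def exc5 : List (ℕ × ℕ × ℕ) :=
  [(66, 2, 672), (176, 4, 126), (231, 2, 192), (231, 4, 96), (336, 4, 66), (396, 2, 112), (396, 4, 56),
    (576, 2, 77), (616, 4, 36), (1056, 2, 42), (1056, 4, 21), (1386, 2, 32), (1386, 4, 16), (2016, 2, 22),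
    (2016, 4, 11), (3696, 2, 12), (3696, 4, 6), (6336, 2, 7), (22176, 2, 2), (22176, 4, 1)]

/-- The triples `(number of Sylow subgroups, e, k)` for `p = 7`. -/
def exc7 : List (ℕ × ℕ × ℕ) :=
  [(120, 2, 264), (120, 6, 88), (330, 3, 64), (330, 6, 32), (960, 2, 33), (960, 3, 22), (960, 6, 11),
    (2640, 2, 12), (2640, 3, 8), (2640, 6, 4), (21120, 3, 1)]

/-- The signed degrees for a triple. -/
def xTab (p : ℕ) (r : ℕ × ℕ × ℕ) : List ℤ :=
  (xList 443520 p r.2.2 (r.2.1 * r.1) [5, 7, 11] 665).filter keep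

/-- The exceptional signed degrees for a triple. -/
def yTab (p : ℕ) (r : ℕ × ℕ × ℕ) : List ℤ :=
  if r.2.1 + 1 = p then [] else (yList 443520 p r.2.2 (r.2.1 * r.1) r.2.1 [5, 7, 11] 665).filter keep

theorem key_order_five : orderBad 443520 5 [5, 7, 11] 665 exc5 = true := by decide +kernel

theorem key_order_seven : orderBad 443520 7 [5, 7, 11] 665 exc7 = true := by decide +kernel

theorem key_seven : ((exc7.filter fun r => decide (r.2.2 % 11 ≠ 0)).all fun r =>
    (optsFrom 7 r.2.2 r.2.1 (xTab 7 r) (yTab 7 r)).all fun o => opts7.contains o) = true := by decide +kernel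

theorem key_five_0 : (((exc5.filter fun r => decide (r.2.2 % 11 ≠ 0) && decide (r.2.2 % 7 ≠ 0)).take 3).all fun r =>
    (optsFrom 5 r.2.2 r.2.1 (xTab 5 r) (yTab 5 r)).all fun o => opts5.contains o) = true := by decide +kernel

theorem key_five_1 : ((((exc5.filter fun r => decide (r.2.2 % 11 ≠ 0) && decide (r.2.2 % 7 ≠ 0)).drop 3).take 3).all fun r =>
    (optsFrom 5 r.2.2 r.2.1 (xTab 5 r) (yTab 5 r)).all fun o => opts5.contains o) = true := by decide +kernel

theorem key_five_2a : (((((exc5.filter fun r => decide (r.2.2 % 11 ≠ 0) && decide (r.2.2 % 7 ≠ 0)).drop 3).drop 3).take 1).all fun r =>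
    (optsFrom 5 r.2.2 r.2.1 (xTab 5 r) (yTab 5 r)).all fun o => opts5.contains o) = true := by decide +kernel

theorem key_five_2b : ((((((exc5.filter fun r => decide (r.2.2 % 11 ≠ 0) && decide (r.2.2 % 7 ≠ 0)).drop 3).drop 3).drop 1).take 1).all fun r =>
    (optsFrom 5 r.2.2 r.2.1 (xTab 5 r) (yTab 5 r)).all fun o => opts5.contains o) = true := by decide +kernel

theorem key_five_2c : ((((((exc5.filter fun r => decide (r.2.2 % 11 ≠ 0) && decide (r.2.2 % 7 ≠ 0)).drop 3).drop 3).drop 1).drop 1).all fun r =>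
    (optsFrom 5 r.2.2 r.2.1 (xTab 5 r) (yTab 5 r)).all fun o => opts5.contains o) = true := by decide +kernel

theorem key_five_2 : ((((exc5.filter fun r => decide (r.2.2 % 11 ≠ 0) && decide (r.2.2 % 7 ≠ 0)).drop 3).drop 3).all fun r =>
    (optsFrom 5 r.2.2 r.2.1 (xTab 5 r) (yTab 5 r)).all fun o => opts5.contains o) = true := by
  rw [← List.take_append_drop 1 (((exc5.filter fun r => decide (r.2.2 % 11 ≠ 0) && decide (r.2.2 % 7 ≠ 0)).drop 3).drop 3), List.all_append, key_five_2a,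
    ← List.take_append_drop 1 ((((exc5.filter fun r => decide (r.2.2 % 11 ≠ 0) && decide (r.2.2 % 7 ≠ 0)).drop 3).drop 3).drop 1), List.all_append, key_five_2b, key_five_2c]
  rfl

theorem key_five : ((exc5.filter fun r => decide (r.2.2 % 11 ≠ 0) && decide (r.2.2 % 7 ≠ 0)).all fun r =>
    (optsFrom 5 r.2.2 r.2.1 (xTab 5 r) (yTab 5 r)).all fun o => opts5.contains o) = true := by
  rw [← List.take_append_drop 3 (exc5.filter fun r => decide (r.2.2 % 11 ≠ 0) && decide (r.2.2 % 7 ≠ 0)), List.all_append, key_five_0,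
    ← List.take_append_drop 3 ((exc5.filter fun r => decide (r.2.2 % 11 ≠ 0) && decide (r.2.2 % 7 ≠ 0)).drop 3), List.all_append, key_five_1, key_five_2]
  rfl

theorem key_opts5 : opts5.all (fun o => decide (o.p = 5) && decide (o.k % 11 ≠ 0) &&
    (if o.k = 1 then decide (o.e = 4) && decide (o.y = none) else decide (o.k % 2 = 0))) = true := by
  decide +kernel

theorem key_opts7 : opts7.all (fun o => decide (o.p = 7) && decide (o.k % 5 ≠ 0) &&
    (if o.k = 1 then decide (o.e = 3) else decide (o.k % 2 = 0))) = true := by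
  decide +kernel

variable {G : Type u} [Group G] [Fintype G] [IsSimpleGroup G]

theorem cC_conj (a v : G) : cC (a * v * a⁻¹) = cC v := by
  refine Nat.card_congr ⟨fun c => ⟨a⁻¹ * c * a, ?_⟩, fun c => ⟨a * c * a⁻¹, ?_⟩, fun c => Subtype.ext ?_,
    fun c => Subtype.ext ?_⟩
  · have h := Subgroup.mem_centralizer_singleton_iff.mp c.2
    rw [Subgroup.mem_centralizer_singleton_iff]
    calc a⁻¹ * (c : G) * a * v = a⁻¹ * ((c : G) * (a * v * a⁻¹)) * a := by group
      _ = a⁻¹ * ((a * v * a⁻¹) * (c : G)) * a := by rw [h]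
      _ = v * (a⁻¹ * (c : G) * a) := by group
  · have h := Subgroup.mem_centralizer_singleton_iff.mp c.2
    rw [Subgroup.mem_centralizer_singleton_iff]
    calc a * (c : G) * a⁻¹ * (a * v * a⁻¹) = a * ((c : G) * v) * a⁻¹ := by group
      _ = a * (v * (c : G)) * a⁻¹ := by rw [h]
      _ = a * v * a⁻¹ * (a * (c : G) * a⁻¹) := by group
  · simp [mul_assoc]
  · simp [mul_assoc]

/-- All subgroups of order `p` have conjugate centralisers. -/
theorem PBlk.cC_of_order {p : ℕ} [Fact p.Prime] {o : Opt} (B : PBlk G p o) {w : G} (hw : orderOf w = p) :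
    cC w = p * o.k := by
  obtain ⟨v, hv, -, hvo, hvC⟩ := B.exists_gen
  have hpp : ¬ p * p ∣ Nat.card G := B.card_eq ▸ B.T.sq
  obtain ⟨S, hS⟩ : ∃ S : Sylow p G, (S : Subgroup G) = Subgroup.zpowers w := by
    have h : IsPGroup p (Subgroup.zpowers w) := IsPGroup.of_card (n := 1) (by rw [Nat.card_zpowers, hw, pow_one])
    obtain ⟨S, hS⟩ := h.exists_le_sylow
    refine ⟨S, (Subgroup.eq_of_le_of_card_ge hS ?_).symm⟩
    obtain ⟨n, hn⟩ := S.isPGroup'.exists_card_eq
    rw [Nat.card_zpowers, hw, hn]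
    rcases Nat.lt_or_ge n 2 with h | h
    · exact le_trans (Nat.pow_le_pow_right (Fact.out : p.Prime).pos (Nat.le_of_lt_succ h)) (by rw [pow_one])
    · exact absurd ((pow_dvd_pow p h).trans (hn ▸ Subgroup.card_subgroup_dvd_card _)) (by rwa [pow_two])
  obtain ⟨a, ha⟩ := MulAction.exists_smul_eq G B.T.P S
  have hmem : a * v * a⁻¹ ∈ Subgroup.zpowers w := by
    rw [← hS, ← ha, Sylow.smul_def]
    exact Subgroup.mem_map_of_mem _ hv
  have hcv : cC (a * v * a⁻¹) = p * o.k := by
    rw [cC_conj, cC, hvC, B.T.card_C]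
  have hzp : Subgroup.zpowers (a * v * a⁻¹) = Subgroup.zpowers w := by
    refine Subgroup.eq_of_le_of_card_ge (Subgroup.zpowers_le.mpr hmem) ?_
    rw [Nat.card_zpowers, Nat.card_zpowers, hw,
      show orderOf (a * v * a⁻¹) = orderOf v from (MulAut.conj a).orderOf_eq v, hvo]
  rw [← hcv, cC, cC]
  have key : ∀ x y : G, Subgroup.zpowers x = Subgroup.zpowers y →
      Subgroup.centralizer ({x} : Set G) ≤ Subgroup.centralizer ({y} : Set G) := fun x y h c hc => by
    rw [Subgroup.mem_centralizer_singleton_iff] at hc ⊢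
    obtain ⟨i, rfl⟩ := Subgroup.mem_zpowers_iff.mp (h ▸ Subgroup.mem_zpowers y)
    exact (show Commute c x from hc).zpow_right i
  rw [le_antisymm (key _ _ hzp.symm) (key _ _ hzp)]

/-- `r` dividing `|C(P) : P|` gives an element of order `r` centralised by an element of order `p`. -/
theorem exists_commuting {p : ℕ} [Fact p.Prime] {k r : ℕ} [Fact r.Prime] (T : OrderCtx G 443520 p [5, 7, 11] 665 k)
    (hr : r ∣ k) : ∃ w : G, orderOf w = r ∧ p ∣ cC w := by
  obtain ⟨w, hw⟩ := exists_prime_orderOf_dvd_card' (G := Subgroup.centralizer ((T.P : Subgroup G) : Set G)) r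
    (by rw [T.card_C]; exact hr.mul_left p)
  refine ⟨(w : G), by rw [Subgroup.orderOf_coe]; exact hw, ?_⟩
  have hle : (T.P : Subgroup G) ≤ Subgroup.centralizer ({(w : G)} : Set G) := fun v hv =>
    Subgroup.mem_centralizer_singleton_iff.mpr (Subgroup.mem_centralizer_iff.mp w.2 v hv)
  have := Subgroup.card_dvd_of_le hle
  rwa [T.card_P] at this

variable [Fact (Nat.Prime 11)] {o11 : Opt}

theorem not_eleven_dvd_k (B : PBlk G 11 o11) (hk : o11.k = 1) {p : ℕ} [Fact p.Prime] (hp : p ≠ 11) {k : ℕ}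
    (T : OrderCtx G 443520 p [5, 7, 11] 665 k) : ¬ 11 ∣ k := fun h => by
  obtain ⟨w, hw, hd⟩ := exists_commuting T h
  rw [B.cC_of_order hw, hk, mul_one] at hd
  exact hp ((Nat.prime_dvd_prime_iff_eq Fact.out (by norm_num)).mp hd)

theorem mem_eleven_or_dvd {q : List ℤ} {y : ℤ} (B : PBlk G 11 ⟨11, 1, 5, q, some y⟩)
    {χ : IrrCharacter G} (hne : χ ≠ Blocks.trivIrr G) : χ ∈ B.xl ++ B.yl ∨ 11 ∣ deg χ := by
  by_cases h : 11 ∣ deg χ
  · exact Or.inr h
  · exact Or.inl (B.mem_of_not_dvd rfl hne h)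

theorem degs11_eq (q : List ℤ) (y : ℤ) : (⟨11, 1, 5, q, some y⟩ : Opt).degs = degs11 q y := by
  simp [Opt.degs, Opt.t, degs11, List.replicate]

/-- The principal `7`-block fits one of the candidates. -/
theorem exists_seven [Fact (Nat.Prime 7)] {qy : List ℤ × ℤ} (hqy : qy ∈ lists11)
    (B : PBlk G 11 ⟨11, 1, 5, qy.1, some qy.2⟩) : ∃ o ∈ opts7, Nonempty (PBlk G 7 o) := by
  obtain ⟨k, T, h⟩ := exists_ctx_of_orderBad B.card_eq 7 [5, 7, 11] 665 exc7
    (by norm_num) (by norm_num) (by norm_num) (by norm_num) (by norm_num) (by simp <;> norm_num) key_order_seven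
  have h11 := not_eleven_dvd_k B rfl (by norm_num) T
  have hkeep : ∀ χ ∈ T.D.X ∪ T.D.Y, χ ≠ Blocks.trivIrr G → ∀ s : ℤ, (s = 1 ∨ s = -1) →
      keep (s * (deg χ : ℤ)) = true := fun χ _ hne s hs => by
    rw [keep_eq s _ hs]
    rcases mem_eleven_or_dvd B hne with h' | h'
    · have hd : deg χ ∈ degs11 qy.1 qy.2 := by rw [← degs11_eq, ← B.degs_eq]; exact List.mem_map_of_mem h'
      rw [List.all_eq_true.mp (List.all_eq_true.mp key_degSet qy hqy) _ hd, Bool.or_true]
    · rw [decide_eq_true (Nat.mod_eq_zero_of_dvd h'), Bool.true_or]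
  obtain ⟨xs, y, hmem, hB⟩ := exists_pblk T rfl keep hkeep (X := xTab 7 (1 + T.D.n * 7, T.D.e, k))
    (Y := yTab 7 (1 + T.D.n * 7, T.D.e, k)) rfl (fun he => by rw [yTab, if_neg he])
  have hk : (1 + T.D.n * 7, T.D.e, k) ∈ exc7.filter fun r => decide (r.2.2 % 11 ≠ 0) :=
    List.mem_filter.mpr ⟨h, decide_eq_true fun e => h11 (Nat.dvd_of_mod_eq_zero e)⟩
  exact ⟨_, List.contains_iff_mem.mp (List.all_eq_true.mp (List.all_eq_true.mp key_seven _ hk) _ hmem), hB⟩

/-- The principal `5`-block fits one of the candidates. -/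
theorem exists_five_block [Fact (Nat.Prime 5)] [Fact (Nat.Prime 7)] {qy : List ℤ × ℤ} (hqy : qy ∈ lists11)
    (B : PBlk G 11 ⟨11, 1, 5, qy.1, some qy.2⟩) {b : Opt} (hb : b ∈ opts7) (B7 : PBlk G 7 b) :
    ∃ o ∈ opts5, Nonempty (PBlk G 5 o) := by
  obtain ⟨k, T, h⟩ := exists_ctx_of_orderBad B.card_eq 5 [5, 7, 11] 665 exc5
    (by norm_num) (by norm_num) (by norm_num) (by norm_num) (by norm_num) (by simp <;> norm_num) key_order_five
  have h11 := not_eleven_dvd_k B rfl (by norm_num) T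
  have h7 : ¬ 7 ∣ k := fun h7 => by
    obtain ⟨w, hw, hd⟩ := exists_commuting T h7
    rw [B7.cC_of_order hw] at hd
    have hb' := List.all_eq_true.mp key_opts7 b hb
    simp only [Bool.and_eq_true, decide_eq_true_eq] at hb'
    exact hb'.1.2 (Nat.mod_eq_zero_of_dvd ((Nat.prime_five.dvd_mul.mp hd).resolve_left (by norm_num)))
  have hkeep : ∀ χ ∈ T.D.X ∪ T.D.Y, χ ≠ Blocks.trivIrr G → ∀ s : ℤ, (s = 1 ∨ s = -1) →
      keep (s * (deg χ : ℤ)) = true := fun χ _ hne s hs => by
    rw [keep_eq s _ hs]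
    rcases mem_eleven_or_dvd B hne with h' | h'
    · have hd : deg χ ∈ degs11 qy.1 qy.2 := by rw [← degs11_eq, ← B.degs_eq]; exact List.mem_map_of_mem h'
      rw [List.all_eq_true.mp (List.all_eq_true.mp key_degSet qy hqy) _ hd, Bool.or_true]
    · rw [decide_eq_true (Nat.mod_eq_zero_of_dvd h'), Bool.true_or]
  obtain ⟨xs, y, hmem, hB⟩ := exists_pblk T rfl keep hkeep (X := xTab 5 (1 + T.D.n * 5, T.D.e, k))
    (Y := yTab 5 (1 + T.D.n * 5, T.D.e, k)) rfl (fun he => by rw [yTab, if_neg he])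
  have hk : (1 + T.D.n * 5, T.D.e, k) ∈
      exc5.filter fun r => decide (r.2.2 % 11 ≠ 0) && decide (r.2.2 % 7 ≠ 0) :=
    List.mem_filter.mpr ⟨h, Bool.and_eq_true_iff.mpr ⟨decide_eq_true fun e => h11 (Nat.dvd_of_mod_eq_zero e),
      decide_eq_true fun e => h7 (Nat.dvd_of_mod_eq_zero e)⟩⟩
  exact ⟨_, List.contains_iff_mem.mp (List.all_eq_true.mp (List.all_eq_true.mp key_five _ hk) _ hmem), hB⟩

end CfsgLib.M22Order
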