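import Cfsg.Agent.Lib.M22Order.CharElim

/-!
# Simple groups of order 443520: the twelve irreducible characters
-/

set_option autoImplicit false
set_option linter.unusedSectionVars false
set_option linter.style.haveILetI false
set_option maxHeartbeats 2000000

namespace CfsgLib.M22Order

open Cfsg
open scoped ComplexConjugate CfsgLib.Char
open CfsgLib CfsgLib.BrauerTuan
open scoped _root_.Classical

universe u

variable {G : Type u} [Group G] [Fintype G]

/-- The irreducible characters with their relations on the regular elements of orders `5`, `7`, `11`. -/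
structure Tab (G : Type u) [Group G] [Fintype G] where
  c21 : IrrCharacter G
  a45 : IrrCharacter G
  b45 : IrrCharacter G
  c55 : IrrCharacter G
  c99 : IrrCharacter G
  c154 : IrrCharacter G
  c210 : IrrCharacter G
  c231 : IrrCharacter G
  a280 : IrrCharacter G
  b280 : IrrCharacter G
  c385 : IrrCharacter G
  nodup : [Blocks.trivIrr G, c21, a45, b45, c55, c99, c154, c210, c231, a280, b280, c385].Nodup
  cover : ∀ χ : IrrCharacter G,
    χ ∈ [Blocks.trivIrr G, c21, a45, b45, c55, c99, c154, c210, c231, a280, b280, c385]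
  d21 : deg c21 = 21
  d45a : deg a45 = 45
  d45b : deg b45 = 45
  d55 : deg c55 = 55
  d99 : deg c99 = 99
  d154 : deg c154 = 154
  d210 : deg c210 = 210
  d231 : deg c231 = 231
  d280a : deg a280 = 280
  d280b : deg b280 = 280
  d385 : deg c385 = 385
  relA : ∀ g, ¬ 11 ∣ orderOf g → (a280 : G → ℂ) g =
    1 - (c21 : G → ℂ) g + (a45 : G → ℂ) g + (b45 : G → ℂ) g + (c210 : G → ℂ) g
  relB : ∀ g, ¬ 11 ∣ orderOf g → (b280 : G → ℂ) g =
    1 - (c21 : G → ℂ) g + (a45 : G → ℂ) g + (b45 : G → ℂ) g + (c210 : G → ℂ) g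
  rel5 : ∀ g, ¬ 5 ∣ orderOf g →
    1 + (c21 : G → ℂ) g - (c99 : G → ℂ) g - (c154 : G → ℂ) g + (c231 : G → ℂ) g = 0
  rel7 : ∀ g, ¬ 7 ∣ orderOf g →
    (a45 : G → ℂ) g = 1 - (c55 : G → ℂ) g + (c99 : G → ℂ) g
  invol : ∀ g : G, orderOf g = 2 → cC g = 384 ∧
    [iv c21 g, iv a45 g, iv b45 g, iv c55 g, iv c99 g, iv c154 g, iv c210 g, iv c231 g, iv a280 g, iv b280 g] =
      [5, -3, -3, 7, 3, 10, 2, 7, -8, -8]
  self_cent : ∀ p : ℕ, p = 5 ∨ p = 7 ∨ p = 11 → ∀ w : G, orderOf w = p → cC w = p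

theorem Tab.sum_eq (T : Tab G) (f : IrrCharacter G → ℂ) : ∑ χ : IrrCharacter G, f χ =
    f (Blocks.trivIrr G) + f T.c21 + f T.a45 + f T.b45 + f T.c55 + f T.c99 + f T.c154 + f T.c210 + f T.c231 +
      f T.a280 + f T.b280 + f T.c385 := by
  have h : (Finset.univ : Finset (IrrCharacter G)) = [Blocks.trivIrr G, T.c21, T.a45, T.b45, T.c55, T.c99,
      T.c154, T.c210, T.c231, T.a280, T.b280, T.c385].toFinset :=
    (Finset.eq_univ_of_forall fun χ => List.mem_toFinset.mpr (T.cover χ)).symm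
  rw [h, List.sum_toFinset _ T.nodup]
  simp only [List.map_cons, List.map_nil, List.sum_cons, List.sum_nil]
  ring

variable [IsSimpleGroup G]

/-- A member of a block of full defect with a given degree. -/
theorem mem_of_deg {p : ℕ} [Fact p.Prime] {o : Opt} (B : PBlk G p o) (hk : o.k = 1) {χ : IrrCharacter G}
    {d : ℕ} (hd : deg χ = d) (h1 : d ≠ 1) (hp : ¬ p ∣ d) : χ ∈ B.xl ++ B.yl :=
  B.mem_of_not_dvd hk (fun h => h1 (by rw [← hd, h, deg_triv])) (hd ▸ hp)

theorem int_natAbs_of {s : ℤ} {d : ℕ} (hs : s = 1 ∨ s = -1) {x : ℤ} (h : s * (d : ℤ) = x) :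
    d = x.natAbs ∧ (s : ℂ) = (sgn x : ℂ) ∨ d = 0 := by
  rcases Nat.eq_zero_or_pos d with h0 | h0
  · exact Or.inr h0
  · left
    obtain ⟨h1, h2⟩ := sgn_mul hs h0
    rw [h] at h1 h2
    exact ⟨h2.symm, by rw [h1]⟩

variable [Fact (Nat.Prime 11)] [Fact (Nat.Prime 5)] [Fact (Nat.Prime 7)]

theorem exists_tab (hn : Nat.card G = 443520) : Nonempty (Tab G) := by
  obtain ⟨⟨B, B5, B7⟩⟩ := exists_sys hn
  -- the `11`-block
  have h11 := B.xs_eq
  simp only [qTrue, List.map_eq_cons_iff, List.map_eq_nil_iff, eq_comm (a := ([-21, 45, 45, 210] : List ℤ))]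
    at h11
  obtain ⟨c21, l1, hl0, x21, a45, l2, rfl, xa45, b45, l3, rfl, xb45, c210, l4, rfl, x210, rfl⟩ := h11
  have hy11 := B.yl_some 280 rfl
  obtain ⟨hlen11, hdeg11, -⟩ := hy11
  have hlen11' : B.yl.length = 2 := by simp [hlen11, Opt.t]
  obtain ⟨a280, b280, hyl11⟩ := List.length_eq_two.mp hlen11'
  have m11 : ∀ χ, χ ∈ [c21, a45, b45, c210] → χ ∈ B.xl := fun χ h => hl0 ▸ h
  -- the `5`-block
  have h5 := B5.xs_eq
  simp only [aTrue, List.map_eq_cons_iff, List.map_eq_nil_iff, eq_comm (a := ([21, -99, -154, 231] : List ℤ))]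
    at h5
  obtain ⟨e21, k1, hk0, y21, c99, k2, rfl, y99, c154, k3, rfl, y154, c231, k4, rfl, y231, rfl⟩ := h5
  have hyl5 := B5.yl_none rfl
  have m5 : ∀ χ, χ ∈ [e21, c99, c154, c231] → χ ∈ B5.xl := fun χ h => hk0 ▸ h
  -- the `7`-block
  have h7 := B7.xs_eq
  simp only [bTrue, List.map_eq_cons_iff, List.map_eq_nil_iff, eq_comm (a := ([-55, 99] : List ℤ))] at h7
  obtain ⟨c55, j1, hj0, z55, f99, j2, rfl, z99, rfl⟩ := h7
  obtain ⟨hlen7, hdeg7, -⟩ := B7.yl_some 45 rfl
  have hlen7' : B7.yl.length = 2 := by simp [hlen7, bTrue, Opt.t]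
  obtain ⟨u45, v45, hyl7⟩ := List.length_eq_two.mp hlen7'
  have m7 : ∀ χ, χ ∈ [c55, f99] → χ ∈ B7.xl := fun χ h => hj0 ▸ h
  -- degrees and signs
  have key : ∀ {p : ℕ} [Fact p.Prime] {o : Opt} (Bp : PBlk G p o) {χ : IrrCharacter G} {x : ℤ}, χ ∈ Bp.xl →
      Bp.σ χ * (deg χ : ℤ) = x → deg χ = x.natAbs ∧ (Bp.σ χ : ℂ) = (sgn x : ℂ) := fun Bp χ x hχ h =>
    (int_natAbs_of (Bp.σ_unit hχ) h).resolve_right (deg_pos χ).ne'
  obtain ⟨d21, s21⟩ := key B (m11 c21 (by simp)) x21
  obtain ⟨da45, sa45⟩ := key B (m11 a45 (by simp)) xa45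
  obtain ⟨db45, sb45⟩ := key B (m11 b45 (by simp)) xb45
  obtain ⟨d210, s210⟩ := key B (m11 c210 (by simp)) x210
  obtain ⟨de21, t21⟩ := key B5 (m5 e21 (by simp)) y21
  obtain ⟨d99, t99⟩ := key B5 (m5 c99 (by simp)) y99
  obtain ⟨d154, t154⟩ := key B5 (m5 c154 (by simp)) y154
  obtain ⟨d231, t231⟩ := key B5 (m5 c231 (by simp)) y231
  obtain ⟨d55, u55⟩ := key B7 (m7 c55 (by simp)) z55
  obtain ⟨df99, u99⟩ := key B7 (m7 f99 (by simp)) z99
  simp only [Int.reduceNeg, Int.natAbs_neg, Int.reduceAbs] at d21 da45 db45 d210 de21 d99 d154 d231 d55 df99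
  have d280a : deg a280 = 280 := hdeg11 a280 (by rw [hyl11]; simp)
  have d280b : deg b280 = 280 := hdeg11 b280 (by rw [hyl11]; simp)
  have du : deg u45 = 45 := hdeg7 u45 (by rw [hyl7]; simp)
  have dv : deg v45 = 45 := hdeg7 v45 (by rw [hyl7]; simp)
  -- the coincidences
  have he21 : c21 = e21 := by
    have h := mem_of_deg B rfl de21 (by norm_num) (by norm_num)
    rw [hl0, hyl11] at h
    simp only [List.cons_append, List.nil_append, List.mem_cons, List.not_mem_nil, or_false] at h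
    rcases h with e | e | e | e | e | e <;>
      first | exact e.symm | (exfalso; have := congrArg deg e; omega)
  subst he21
  have hf99 : c99 = f99 := by
    have h := mem_of_deg B5 rfl df99 (by norm_num) (by norm_num)
    rw [hk0, hyl5] at h
    simp only [List.cons_append, List.nil_append, List.mem_cons, List.not_mem_nil, or_false] at h
    rcases h with e | e | e | e <;>
      first | exact e.symm | (exfalso; have := congrArg deg e; omega)
  subst hf99
  have h45 : ∀ u, deg u = 45 → u = a45 ∨ u = b45 := fun u hu => by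
    have h := mem_of_deg B rfl hu (by norm_num) (by norm_num)
    rw [hl0, hyl11] at h
    simp only [List.cons_append, List.nil_append, List.mem_cons, List.not_mem_nil, or_false] at h
    rcases h with e | e | e | e | e | e <;>
      first | exact Or.inl e | exact Or.inr e | (exfalso; have := congrArg deg e; omega)
  have hnd11 := B.nodup
  rw [hl0, hyl11] at hnd11
  simp only [List.cons_append, List.nil_append, List.nodup_cons, List.mem_cons, List.not_mem_nil, or_false,
    not_or, List.nodup_nil, and_true] at hnd11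
  obtain ⟨-, -, ⟨hab45, -, -, -⟩, -, -, hab280, -⟩ := hnd11
  -- every character is in one of the blocks or has degree divisible by `385`
  obtain ⟨K, hK⟩ : ∃ K : List (IrrCharacter G),
      K = [Blocks.trivIrr G, c21, a45, b45, c55, c99, c154, c210, c231, a280, b280] := ⟨_, rfl⟩
  have hKdeg : K.map deg = [1, 21, 45, 45, 55, 99, 154, 210, 231, 280, 280] := by
    simp only [hK, List.map_cons, List.map_nil, deg_triv, d21, da45, db45, d55, d99, d154, d210, d231, d280a, d280b]
  have hne : ∀ {χ ξ : IrrCharacter G} {d e : ℕ}, deg χ = d → deg ξ = e → d ≠ e → χ ≠ ξ :=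
    fun h1 h2 h h' => h (by rw [← h1, ← h2, h'])
  have hKnd : K.Nodup := by
    rw [hK]
    simp only [List.nodup_cons, List.mem_cons, List.not_mem_nil, or_false, not_or, List.nodup_nil, and_true,
      not_false_eq_true]
    refine ⟨⟨?_, ?_, ?_, ?_, ?_, ?_, ?_, ?_, ?_, ?_⟩, ⟨?_, ?_, ?_, ?_, ?_, ?_, ?_, ?_, ?_⟩,
      ⟨hab45, ?_, ?_, ?_, ?_, ?_, ?_, ?_⟩, ⟨?_, ?_, ?_, ?_, ?_, ?_, ?_⟩, ⟨?_, ?_, ?_, ?_, ?_, ?_⟩,
      ⟨?_, ?_, ?_, ?_, ?_⟩, ⟨?_, ?_, ?_, ?_⟩, ⟨?_, ?_, ?_⟩, ⟨?_, ?_⟩, hab280⟩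
    all_goals (intro e; have := congrArg deg e; first | omega | (rw [deg_triv] at this; omega))
  have hout : ∀ χ, χ ∉ K → 385 ∣ deg χ := by
    intro χ hχ
    rw [hK] at hχ
    simp only [List.mem_cons, List.not_mem_nil, or_false, not_or] at hχ
    obtain ⟨nt, n21, na, nb, n55, n99, n154, n210, n231, n280a, n280b⟩ := hχ
    have h1 : 11 ∣ deg χ := B.dvd_deg rfl (by
      rw [hl0, hyl11]
      simp [nt, n21, na, nb, n210, n280a, n280b])
    have h2 : 5 ∣ deg χ := B5.dvd_deg rfl (by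
      rw [hk0, hyl5]
      simp [nt, n21, n99, n154, n231])
    have h3 : 7 ∣ deg χ := B7.dvd_deg rfl (by
      rw [hj0, hyl7]
      have hu : χ ≠ u45 := fun h => (h45 u45 du).elim (fun e => na (h.trans e)) (fun e => nb (h.trans e))
      have hv : χ ≠ v45 := fun h => (h45 v45 dv).elim (fun e => na (h.trans e)) (fun e => nb (h.trans e))
      simp [nt, n55, n99, hu, hv])
    exact Nat.Coprime.mul_dvd_of_dvd_of_dvd (by norm_num) (Nat.Coprime.mul_dvd_of_dvd_of_dvd (by norm_num) h2 h3) h1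
  have hsq : ∑ χ : IrrCharacter G, deg χ ^ 2 = 443520 := by
    have h := Char.sum_sq_degree (G := G)
    simp only [BrauerReynolds.value_one, ← Nat.cast_pow, ← Nat.cast_sum, Nat.cast_inj] at h
    rw [hn] at h
    exact h
  have hsplit : ∑ χ ∈ (Finset.univ \ K.toFinset), deg χ ^ 2 = 148225 := by
    rw [← Finset.sum_sdiff (Finset.subset_univ K.toFinset), List.sum_toFinset _ hKnd,
      show K.map (fun χ => deg χ ^ 2) = (K.map deg).map (fun d => d ^ 2) by rw [List.map_map]; rfl, hKdeg] at hsq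
    norm_num at hsq
    omega
  obtain ⟨c385, hc385⟩ : (Finset.univ \ K.toFinset : Finset (IrrCharacter G)).Nonempty := by
    by_contra h
    rw [Finset.not_nonempty_iff_eq_empty.mp h, Finset.sum_empty] at hsplit
    omega
  have hR : ∀ χ ∈ (Finset.univ \ K.toFinset : Finset (IrrCharacter G)), 385 ≤ deg χ := fun χ hχ =>
    Nat.le_of_dvd (deg_pos χ) (hout χ fun h => (Finset.mem_sdiff.mp hχ).2 (List.mem_toFinset.mpr h))
  have hR1 : (Finset.univ \ K.toFinset : Finset (IrrCharacter G)) = {c385} := by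
    refine Finset.eq_singleton_iff_unique_mem.mpr ⟨hc385, fun χ hχ => ?_⟩
    by_contra hne
    have h := Finset.sum_le_sum_of_subset (f := fun ξ => deg ξ ^ 2)
      (show ({χ, c385} : Finset (IrrCharacter G)) ⊆ Finset.univ \ K.toFinset by
        intro ξ hξ
        rcases Finset.mem_insert.mp hξ with rfl | hξ
        · exact hχ
        · rw [Finset.mem_singleton] at hξ; exact hξ ▸ hc385)
    rw [hsplit, Finset.sum_pair hne] at h
    have := Nat.pow_le_pow_left (hR χ hχ) 2
    have := Nat.pow_le_pow_left (hR c385 hc385) 2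
    omega
  have d385 : deg c385 = 385 := by
    rw [hR1, Finset.sum_singleton] at hsplit
    exact Nat.pow_left_injective (by norm_num : 2 ≠ 0) (by simpa using hsplit)
  have hcK : c385 ∉ K := fun h => (Finset.mem_sdiff.mp hc385).2 (List.mem_toFinset.mpr h)
  -- the relations
  have hrel11 : ∀ ψ ∈ B.yl, ∀ g, ¬ 11 ∣ orderOf g → (ψ : G → ℂ) g =
      1 - (c21 : G → ℂ) g + (a45 : G → ℂ) g + (b45 : G → ℂ) g + (c210 : G → ℂ) g := fun ψ hψ g hg => by
    have h : (sgn 280 : ℂ) * (ψ : G → ℂ) g =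
        1 + (B.xl.map fun χ : IrrCharacter G => (B.σ χ : ℂ) * (χ : G → ℂ) g).sum :=
      B.xs_map.choose_spec.2.2.2.2 280 rfl ψ hψ g hg
    rw [hl0] at h
    simp only [List.map_cons, List.map_nil, List.sum_cons, List.sum_nil, s21, sa45, sb45, s210] at h
    norm_num [sgn] at h
    rw [h]; ring
  have hrel5 : ∀ g, ¬ 5 ∣ orderOf g →
      1 + (c21 : G → ℂ) g - (c99 : G → ℂ) g - (c154 : G → ℂ) g + (c231 : G → ℂ) g = 0 := fun g hg => by
    have h : 1 + (B5.xl.map fun χ : IrrCharacter G => (B5.σ χ : ℂ) * (χ : G → ℂ) g).sum = 0 :=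
      B5.xs_map.choose_spec.2.2.2.1 rfl g hg
    rw [hk0] at h
    simp only [List.map_cons, List.map_nil, List.sum_cons, List.sum_nil, t21, t99, t154, t231] at h
    norm_num [sgn] at h
    linear_combination h
  have hrel7 : ∀ g, ¬ 7 ∣ orderOf g →
      (a45 : G → ℂ) g = 1 - (c55 : G → ℂ) g + (c99 : G → ℂ) g := fun g hg => by
    have hmem : a45 ∈ B7.yl := by
      have h := mem_of_deg B7 rfl da45 (by norm_num) (by norm_num)
      rcases List.mem_append.mp h with h | h
      · rw [hj0] at h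
        simp only [List.mem_cons, List.not_mem_nil, or_false] at h
        rcases h with e | e <;> (exfalso; have := congrArg deg e; omega)
      · exact h
    have h : (sgn 45 : ℂ) * (a45 : G → ℂ) g =
        1 + (B7.xl.map fun χ : IrrCharacter G => (B7.σ χ : ℂ) * (χ : G → ℂ) g).sum :=
      B7.xs_map.choose_spec.2.2.2.2 45 rfl a45 hmem g hg
    rw [hj0] at h
    simp only [List.map_cons, List.map_nil, List.sum_cons, List.sum_nil, u55, u99] at h
    norm_num [sgn] at h
    rw [h]; ring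
  refine ⟨⟨c21, a45, b45, c55, c99, c154, c210, c231, a280, b280, c385, ?_, fun χ => ?_, d21, da45, db45, d55,
    d99, d154, d210, d231, d280a, d280b, d385, hrel11 a280 (by rw [hyl11]; simp),
    hrel11 b280 (by rw [hyl11]; simp), hrel5, hrel7, fun g hg => ?_, fun p hp w hw => ?_⟩⟩
  · rw [show [Blocks.trivIrr G, c21, a45, b45, c55, c99, c154, c210, c231, a280, b280, c385] = K ++ [c385] by
      rw [hK]; rfl]
    exact List.nodup_append.mpr ⟨hKnd, List.nodup_singleton _, fun a ha b hb e =>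
      hcK (List.mem_singleton.mp hb ▸ e ▸ ha)⟩
  · rw [show [Blocks.trivIrr G, c21, a45, b45, c55, c99, c154, c210, c231, a280, b280, c385] = K ++ [c385] by
      rw [hK]; rfl, List.mem_append, List.mem_singleton]
    by_contra h
    obtain ⟨h1, h2⟩ := not_or.mp h
    have hm : χ ∈ (Finset.univ \ K.toFinset : Finset (IrrCharacter G)) :=
      Finset.mem_sdiff.mpr ⟨Finset.mem_univ _, fun h' => h1 (List.mem_toFinset.mp h')⟩
    rw [hR1, Finset.mem_singleton] at hm
    exact h2 hm
  · -- the values at an involution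
    have hrow := rowAt_mem_all B hg
    have h := List.all_eq_true.mp key_true (rowAt B g) hrow
    obtain ⟨v5, hv5, hv51, -, -⟩ := B5.exists_gen
    obtain ⟨v7, hv7, hv71, -, -⟩ := B7.exists_gen
    have hA := mem_tVals B hg B5 rfl (by norm_num) hv5 hv51 (tgts := [0, 5]) (by
      rcases B5.pairs_card rfl (by norm_num) hg hv5 hv51 with h | ⟨h, -⟩ <;> rw [h] <;> simp)
    have hB := mem_tVals B hg B7 rfl (by norm_num) hv7 hv71 (tgts := [0]) (by
      rcases B7.pairs_card rfl (by norm_num) hg hv7 hv71 with h | ⟨-, h⟩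
      · rw [h]; exact List.mem_cons_self
      · exact absurd h (by decide))
    have n5 : cC g % 5 ≠ 0 := fun h =>
      not_dvd_centralizer' B5 rfl (by norm_num) hg (Nat.dvd_of_mod_eq_zero h)
    have n7 : cC g % 7 ≠ 0 := fun h =>
      not_dvd_centralizer' B7 rfl (by norm_num) hg (Nat.dvd_of_mod_eq_zero h)
    simp only [Bool.or_eq_true, Bool.and_eq_true, decide_eq_true_eq, List.isEmpty_iff] at h
    rcases h with (((h | h) | h) | h) | ⟨⟨hr, hA'⟩, hB'⟩
    · exact absurd h n5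
    · exact absurd h n7
    · exact absurd h (List.ne_nil_of_mem hA)
    · exact absurd h (List.ne_nil_of_mem hB)
    rw [hA', List.mem_singleton, hk0] at hA
    rw [hB', List.mem_singleton, hj0] at hB
    simp only [rowAt, Prod.mk.injEq, hl0, hyl11, List.cons_append, List.nil_append, List.map_cons, List.map_nil,
      List.cons.injEq, and_true] at hr
    simp only [List.map_cons, List.map_nil, List.cons.injEq, and_true] at hA hB
    obtain ⟨hc, r1, r2, r3, r4, r5, r6⟩ := hr
    obtain ⟨-, q2, q3, q4⟩ := hA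
    obtain ⟨b1, -⟩ := hB
    exact ⟨hc, by rw [r1, r2, r3, b1, q2, q3, r4, q4, r5, r6]⟩
  · rcases hp with rfl | rfl | rfl
    · rw [B5.cC_of_order hw]; rfl
    · rw [B7.cC_of_order hw]; rfl
    · rw [B.cC_of_order hw]; rfl

end CfsgLib.M22Order
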