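import Cfsg.Agent.Lib.M22Order.CharDefs

/-!
# Simple groups of order 443520: the tables of the checkers

The tables are checked against their definitions in `CharKeys`.
-/

set_option autoImplicit false

namespace CfsgLib.M22Order

/-- The degrees that can occur in the principal `11`-block. -/
def degSet : List Nat :=
  [6, 10, 12, 16, 21, 28, 32, 45, 56, 60, 72, 105, 120, 126, 144, 160, 192, 210, 252, 280, 320, 336, 384, 560]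

/-- A signed degree that can occur for a principal `5`- or `7`-block. -/
def keep (x : Int) : Bool := decide (x.natAbs % 11 = 0) || degSet.contains x.natAbs

/-- The signed degrees of the rational characters of the `11`-block. -/
def xs11 : List Int := [-10, 12, -21, -32, 45, 56, -120, 144, 210, -252, 320, -384, -560]

/-- The signed degrees of the exceptional characters of the `11`-block. -/
def ys11 : List Int := [-6, 16, -28, 60, -72, -105, 126, -160, 192, 280, -336]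

/-- The signed degrees of the `11`-block. -/
def lists11 : List (List Int × Int) :=
  (combos xs11 4).filterMap fun q => if ys11.contains (1 + q.sum) then some (q, 1 + q.sum) else none

/-- The lists surviving the tests on degrees. -/
def listsDeg : List (List Int × Int) :=
  [([45, 144, 210, -560], -160), ([45, -120, 144, 210], 280), ([45, -120, -120, 320], 126), ([45, -120, -120, 210],
  16), ([45, 56, -120, 144], 126), ([45, 45, 45, 144], 280), ([45, 45, 45, -120], 16), ([-21, 210, 210, -560],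
  -160), ([-21, -120, -252, 320], -72), ([-21, -120, 210, 210], 280), ([-21, -120, -120, 320], 60), ([-21, 56, -120,
  -252], -336), ([-21, 56, -120, 210], 126), ([-21, 56, -120, 144], 60), ([-21, 56, 56, -252], -160), ([-21, 56, 56,
  -120], -28), ([-21, 45, 45, 210], 280), ([-21, 45, 45, 56], 126), ([-21, -32, 144, -252], -160), ([-21, -32, -120,
  144], -28), ([-21, -32, -32, -252], -336), ([-21, -32, -32, 210], 126), ([-21, -32, -32, 56], -28), ([-21, -21,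
  56, -120], -105), ([-21, -21, -32, -32], -105), ([12, -21, -120, 320], 192), ([12, -21, -120, 144], 16), ([12,
  -21, 56, -120], -72), ([12, -21, -32, -120], -160), ([-10, -120, -120, 144], -105), ([-10, 45, -120, 210], 126),
  ([-10, 45, -120, 144], 60), ([-10, 45, 45, 45], 126), ([-10, -21, -120, 210], 60), ([-10, -21, 45, -120], -105),
  ([-10, -21, 45, 45], 60), ([-10, -10, -21, -120], -160)]

/-- The lists with a row for a central involution of a Sylow 2-subgroup, with all their rows. -/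
def rowTab : List ((List Int × Int) × List (Nat × List Int)) :=
  [(([45, -120, 144, 210], 280), [(672, [-3, -16, 0, -14, 0, 0]), (1344, [-3, -16, 0, -14, 0, 0]), (896, [-3, -16,
  0, -14, 0, 0]), (2688, [-3, -16, 0, -14, 0, 0])]), (([45, -120, -120, 320], 126), [(896, [-7, 0, 8, 0, -14, -14]),
  (896, [-7, 8, 0, 0, -14, -14]), (4480, [25, 0, 40, 0, -14, -14]), (4480, [25, 40, 0, 0, -14, -14])]), (([45, -120,
  -120, 210], 16), [(672, [-3, -16, 0, -14, 0, 0]), (672, [-3, 0, -16, -14, 0, 0]), (1344, [-3, -16, 0, -14, 0, 0]),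
  (1344, [-3, 0, -16, -14, 0, 0]), (896, [-3, -16, 0, -14, 0, 0]), (896, [-3, 0, -16, -14, 0, 0]), (2688, [-3, -16,
  0, -14, 0, 0]), (2688, [-3, 0, -16, -14, 0, 0])]), (([45, 56, -120, 144], 126), [(896, [-7, 0, 8, 0, -14, -14]),
  (4480, [25, 0, 40, 0, -14, -14])]), (([-21, 210, 210, -560], -160), [(96, [5, -2, 6, 0, 0, 0]), (96, [5, 6, -2, 0,
  0, 0]), (192, [5, -2, 6, 0, 0, 0]), (192, [5, 6, -2, 0, 0, 0]), (128, [5, -2, 6, 0, 0, 0]), (128, [5, 6, -2, 0, 0,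
  0]), (384, [5, -2, 6, 0, 0, 0]), (384, [5, 6, -2, 0, 0, 0])]), (([-21, -120, 210, 210], 280), [(96, [5, 0, -2, 6,
  0, 0]), (96, [5, 0, 6, -2, 0, 0]), (672, [-7, 8, -14, 14, 0, 0]), (672, [-7, 8, 14, -14, 0, 0]), (192, [5, 0, -2,
  6, 0, 0]), (192, [5, 0, 6, -2, 0, 0]), (1344, [-7, 8, -14, 14, 0, 0]), (1344, [-7, 8, 14, -14, 0, 0]), (128, [5,
  0, -2, 6, 0, 0]), (128, [5, 0, 6, -2, 0, 0]), (896, [-7, 8, -14, 14, 0, 0]), (896, [-7, 8, 14, -14, 0, 0]), (384,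
  [-3, -8, -6, 2, 8, 8]), (384, [-3, -8, 2, -6, 8, 8]), (384, [-3, 8, -6, 2, -8, -8]), (384, [-3, 8, 2, -6, -8,
  -8]), (384, [5, 0, -2, 6, 0, 0]), (384, [5, 0, 6, -2, 0, 0]), (2688, [-7, 8, -14, 14, 0, 0]), (2688, [-7, 8, 14,
  -14, 0, 0]), (1152, [-3, 0, 6, 6, 16, 16]), (1152, [9, 0, -18, 18, -8, -8]), (1152, [9, 0, 18, -18, -8, -8])]),
  (([-21, 56, -120, -252], -336), [(960, [5, 0, 0, 12, 16, 16]), (1920, [-11, -16, 0, 12, 16, 16]), (1920, [-11, 16,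
  0, 12, -16, -16]), (1920, [5, 0, 0, 12, 16, 16])]), (([-21, 56, -120, 210], 126), [(240, [5, 0, 0, 10, 6, 6]),
  (480, [-7, 8, 0, -10, 6, 6]), (480, [5, 0, 0, 10, 6, 6]), (320, [-7, 8, 0, -10, 6, 6]), (320, [5, 0, 0, 10, 6,
  6]), (960, [-11, -16, 0, 10, 6, 6]), (960, [-7, 8, 0, -10, 6, 6]), (960, [-3, 12, 20, 10, 6, 6]), (960, [1, -8, 0,
  -10, -18, -18]), (960, [1, 8, 0, 10, 18, 18]), (960, [5, 0, 0, 10, 6, 6]), (640, [-11, -16, 0, 10, 6, 6]), (640,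
  [-7, 8, 0, -10, 6, 6]), (640, [5, 0, 0, 10, 6, 6]), (384, [-7, 8, 0, -10, 6, 6]), (384, [5, 0, 0, 10, 6, 6]),
  (1920, [-11, -16, 0, 10, 6, 6]), (1920, [-7, 8, 0, -10, 6, 6]), (1920, [1, -8, 0, -10, -18, -18]), (1920, [1, 8,
  0, 10, 18, 18]), (1920, [5, 0, 0, 10, 6, 6])]), (([-21, 45, 45, 210], 280), [(192, [5, -3, -3, 2, -8, -8]), (384,
  [5, -3, -3, 2, -8, -8]), (1152, [9, 9, 9, 6, 16, 16])]), (([-21, 45, 45, 56], 126), [(384, [9, -3, 9, 8, 6, 6]),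
  (384, [9, 9, -3, 8, 6, 6])]), (([-21, -32, -32, -252], -336), [(360, [-3, -4, -4, 0, -12, -12]), (720, [-3, -4,
  -4, 0, -12, -12]), (960, [5, 0, 0, 12, 16, 16]), (1920, [5, 0, 0, 12, 16, 16])]), (([-21, -32, -32, 210], 126),
  [(240, [5, 0, 0, 10, 6, 6]), (480, [5, 0, 0, 10, 6, 6]), (320, [5, 0, 0, 10, 6, 6]), (960, [5, 0, 0, 10, 6, 6]),
  (640, [5, 0, 0, 10, 6, 6]), (384, [5, 0, 0, 10, 6, 6]), (1920, [5, 0, 0, 10, 6, 6])]), (([-21, -21, 56, -120],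
  -105), [(120, [1, 5, 0, 0, 5, 5]), (120, [5, 1, 0, 0, 5, 5]), (80, [1, 5, 0, 0, 5, 5]), (80, [5, 1, 0, 0, 5, 5]),
  (240, [1, 5, 0, 0, 5, 5]), (240, [5, 1, 0, 0, 5, 5]), (160, [1, 5, 0, 0, 5, 5]), (160, [5, 1, 0, 0, 5, 5]), (96,
  [1, 5, 0, 0, 5, 5]), (96, [1, 5, 4, -4, -3, -3]), (96, [5, 1, 0, 0, 5, 5]), (96, [5, 1, 4, -4, -3, -3]), (480,
  [-11, 1, -16, 0, 5, 5]), (480, [1, -11, -16, 0, 5, 5]), (480, [1, 5, 0, 0, 5, 5]), (480, [5, 1, 0, 0, 5, 5]),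
  (320, [1, 5, 0, 0, 5, 5]), (320, [5, 1, 0, 0, 5, 5]), (192, [-3, 5, -8, -8, 1, 1]), (192, [-3, 5, 4, -4, -7, -7]),
  (192, [-3, 5, 8, 8, 1, 1]), (192, [1, 5, 0, 0, 5, 5]), (192, [1, 5, 4, -4, -3, -3]), (192, [5, -3, -8, -8, 1, 1]),
  (192, [5, -3, 4, -4, -7, -7]), (192, [5, -3, 8, 8, 1, 1]), (192, [5, 1, 0, 0, 5, 5]), (192, [5, 1, 4, -4, -3,
  -3]), (960, [-11, 1, -16, 0, 5, 5]), (960, [-3, 1, 12, 20, 5, 5]), (960, [1, -11, -16, 0, 5, 5]), (960, [1, -3,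
  12, 20, 5, 5]), (960, [1, 1, -4, -20, -15, -15]), (960, [1, 5, 0, 0, 5, 5]), (960, [5, 1, 0, 0, 5, 5]), (576, [-3,
  -3, -4, 12, 9, 9]), (128, [1, 5, 0, 0, 5, 5]), (128, [5, 1, 0, 0, 5, 5]), (640, [-11, 1, -16, 0, 5, 5]), (640, [1,
  -11, -16, 0, 5, 5]), (640, [1, 5, 0, 0, 5, 5]), (640, [5, 1, 0, 0, 5, 5]), (384, [-7, 1, -8, 8, 9, 9]), (384, [-3,
  5, -8, -8, 1, 1]), (384, [-3, 5, 8, 8, 1, 1]), (384, [1, -7, -8, 8, 9, 9]), (384, [1, 5, 0, 0, 5, 5]), (384, [5,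
  -3, -8, -8, 1, 1]), (384, [5, -3, 8, 8, 1, 1]), (384, [5, 1, 0, 0, 5, 5]), (384, [5, 5, -8, -8, 9, 9]), (384, [5,
  5, 8, 8, 9, 9]), (1920, [-19, -7, -32, 0, 5, 5]), (1920, [-11, 1, -16, 0, 5, 5]), (1920, [-7, -19, -32, 0, 5, 5]),
  (1920, [1, -11, -16, 0, 5, 5]), (1920, [1, 5, 0, 0, 5, 5]), (1920, [5, 1, 0, 0, 5, 5])]), (([-21, -21, -32, -32],
  -105), [(120, [1, 5, 0, 0, 5, 5]), (120, [5, 1, 0, 0, 5, 5]), (80, [1, 5, 0, 0, 5, 5]), (80, [5, 1, 0, 0, 5, 5]),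
  (240, [1, 5, 0, 0, 5, 5]), (240, [5, 1, 0, 0, 5, 5]), (160, [1, 5, 0, 0, 5, 5]), (160, [5, 1, 0, 0, 5, 5]), (96,
  [1, 5, 0, 0, 5, 5]), (96, [5, 1, 0, 0, 5, 5]), (480, [1, 5, 0, 0, 5, 5]), (480, [5, 1, 0, 0, 5, 5]), (320, [1, 5,
  0, 0, 5, 5]), (320, [5, 1, 0, 0, 5, 5]), (192, [1, 5, 0, 0, 5, 5]), (192, [5, 1, 0, 0, 5, 5]), (960, [1, 5, 0, 0,
  5, 5]), (960, [5, 1, 0, 0, 5, 5]), (128, [1, 5, 0, 0, 5, 5]), (128, [5, 1, 0, 0, 5, 5]), (640, [1, 5, 0, 0, 5,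
  5]), (640, [5, 1, 0, 0, 5, 5]), (384, [1, 5, 0, 0, 5, 5]), (384, [5, 1, 0, 0, 5, 5]), (1920, [1, 5, 0, 0, 5, 5]),
  (1920, [5, 1, 0, 0, 5, 5])]), (([-10, -120, -120, 144], -105), [(2016, [-2, 0, 24, 0, 21, 21]), (2016, [-2, 24, 0,
  0, 21, 21]), (4032, [-2, 0, 24, 0, 21, 21]), (4032, [-2, 24, 0, 0, 21, 21]), (2688, [-2, 0, 24, 0, 21, 21]),
  (2688, [-2, 24, 0, 0, 21, 21]), (8064, [-2, 0, 24, 0, 21, 21]), (8064, [-2, 24, 0, 0, 21, 21])]), (([-10, 45,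
  -120, 210], 126), [(192, [-2, -3, -8, -2, 6, 6]), (192, [-2, -3, 8, 2, -6, -6]), (192, [2, -3, -8, 2, 6, 6]),
  (896, [-6, 13, -8, -14, 14, 14]), (896, [-2, 5, 8, -14, -14, -14]), (896, [-2, 5, 8, 14, 14, 14]), (896, [2, 1, 0,
  -14, -14, -14]), (896, [2, 1, 0, 14, 14, 14]), (896, [6, 13, 8, -14, -14, -14]), (896, [6, 13, 8, 14, 14, 14]),
  (384, [-2, -3, -8, -2, 6, 6]), (384, [-2, -3, 8, 2, -6, -6]), (384, [2, -3, -8, 2, 6, 6]), (1152, [-2, 9, 0, 6,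
  18, 18])]), (([-10, 45, -120, 144], 60), [(168, [2, -3, -8, 0, 4, 4]), (504, [-2, 9, 0, 0, 12, 12]), (112, [2, -3,
  -8, 0, 4, 4]), (336, [2, -3, -8, 0, 4, 4]), (1008, [-2, 9, 0, 0, 12, 12]), (224, [2, -3, -8, 0, 4, 4]), (224, [2,
  1, 0, -8, -8, -8]), (224, [2, 1, 0, 8, 8, 8]), (672, [-2, 9, 0, 0, 12, 12]), (672, [-2, 9, 16, 0, -4, -4]), (672,
  [2, -3, -8, 0, 4, 4]), (672, [6, -15, -16, 0, -4, -4]), (2016, [-2, 9, 0, 0, 12, 12]), (448, [-2, 5, -8, -8, 8,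
  8]), (448, [-2, 5, 8, -8, -8, -8]), (448, [-2, 5, 8, 8, 8, 8]), (448, [-2, 9, 0, 0, 12, 12]), (448, [-2, 9, 16, 0,
  -4, -4]), (448, [2, -7, -16, -8, 0, 0]), (448, [2, -3, -8, 0, 4, 4]), (448, [2, 1, 0, -8, -8, -8]), (448, [2, 1,
  0, 8, 8, 8]), (448, [6, -11, -8, 8, 0, 0]), (448, [6, -7, 0, 16, 4, 4]), (192, [2, -3, -8, 0, 4, 4]), (1344, [-6,
  9, -16, -24, 8, 8]), (1344, [-6, 21, 8, 0, 20, 20]), (1344, [-2, -3, -24, -24, 0, 0]), (1344, [-2, -3, -8, -24,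
  -16, -16]), (1344, [-2, -3, 8, 24, 16, 16]), (1344, [-2, -3, 24, 24, 0, 0]), (1344, [-2, 9, 0, 0, 12, 12]), (1344,
  [-2, 9, 16, 0, -4, -4]), (1344, [2, -3, -8, 0, 4, 4]), (1344, [6, -15, -16, 0, -4, -4]), (1344, [6, -3, 8, 24, 8,
  8]), (576, [-2, 9, 0, 0, 12, 12]), (4032, [-2, 9, 0, 0, 12, 12]), (128, [2, -3, -8, 0, 4, 4]), (896, [-6, 13, -8,
  -16, 12, 12]), (896, [-2, 1, -16, -16, 4, 4]), (896, [-2, 1, 0, -16, -12, -12]), (896, [-2, 1, 16, 16, 4, 4]),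
  (896, [-2, 9, 0, 0, 12, 12]), (896, [-2, 9, 16, 0, -4, -4]), (896, [2, -3, -8, 0, 4, 4]), (896, [2, 5, 8, 16, 12,
  12]), (896, [6, -15, -16, 0, -4, -4]), (896, [6, -7, 0, 16, 4, 4]), (384, [-2, 9, 0, 0, 12, 12]), (384, [-2, 9,
  16, 0, -4, -4]), (384, [2, -3, -8, 0, 4, 4]), (2688, [-6, -27, 8, 0, -28, -28]), (2688, [-6, 21, 8, 0, 20, 20]),
  (2688, [-2, 9, 0, 0, 12, 12]), (2688, [-2, 9, 16, 0, -4, -4]), (2688, [2, -3, -8, 0, 4, 4]), (2688, [6, -15, -16,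
  0, -4, -4]), (1152, [-2, 9, 0, 0, 12, 12]), (8064, [-2, 9, 0, 0, 12, 12])]), (([-10, 45, 45, 45], 126), [(896,
  [-6, -3, -3, 13, 14, 14]), (896, [-6, -3, 13, -3, 14, 14]), (896, [-6, 13, -3, -3, 14, 14])]), (([-10, -21, 45,
  -120], -105), [(336, [2, -7, 9, 8, -7, -7]), (672, [-6, -7, -15, -8, -7, -7]), (672, [2, -7, 9, 8, -7, -7]), (448,
  [2, -7, 9, 8, -7, -7]), (1344, [-6, -7, -15, -8, -7, -7]), (1344, [2, -7, 9, 8, -7, -7]), (896, [-6, -7, -15, -8,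
  -7, -7]), (896, [2, -7, 9, 8, -7, -7]), (384, [2, -7, 9, 8, -7, -7]), (2688, [-6, -7, -15, -8, -7, -7]), (2688,
  [2, -7, 9, 8, -7, -7])]), (([-10, -21, 45, 45], 60), [(672, [-6, -7, -15, -3, -4, -4]), (672, [-6, -7, -3, -15,
  -4, -4]), (448, [-6, -7, -15, -3, -4, -4]), (448, [-6, -7, -3, -15, -4, -4]), (1344, [-6, -7, -15, -3, -4, -4]),
  (1344, [-6, -7, -3, -15, -4, -4]), (896, [-6, -7, -15, -3, -4, -4]), (896, [-6, -7, -3, -15, -4, -4]), (384, [-6,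
  -7, -15, -3, -4, -4]), (384, [-6, -7, -3, -15, -4, -4]), (2688, [-6, -7, -15, -3, -4, -4]), (2688, [-6, -7, -3,
  -15, -4, -4])])]

/-- The candidates for the principal `5`-block. -/
def opts5 : List Opt :=
  [
    ⟨5, 192, 2, [21], some 22⟩,
    ⟨5, 96, 4, [21, 66, 66, -154], none⟩,
    ⟨5, 96, 4, [21, -44, -44, 66], none⟩,
    ⟨5, 96, 4, [11, 11, 21, -44], none⟩,
    ⟨5, 36, 4, [11, 16, 16, -44], none⟩,
    ⟨5, 32, 2, [21], some 22⟩,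
    ⟨5, 32, 2, [11], some 12⟩,
    ⟨5, 16, 4, [-99, 126, 126, -154], none⟩,
    ⟨5, 16, 4, [21, -154, -264, 396], none⟩,
    ⟨5, 16, 4, [21, -99, -154, 231], none⟩,
    ⟨5, 16, 4, [21, 66, 66, -154], none⟩,
    ⟨5, 16, 4, [21, -44, -44, 66], none⟩,
    ⟨5, 16, 4, [21, 21, 56, -99], none⟩,
    ⟨5, 16, 4, [11, 126, 126, -264], none⟩,
    ⟨5, 16, 4, [11, 21, 231, -264], none⟩,
    ⟨5, 16, 4, [11, 21, 66, -99], none⟩,
    ⟨5, 16, 4, [11, 11, 21, -44], none⟩,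
    ⟨5, 12, 2, [21], some 22⟩,
    ⟨5, 12, 2, [11], some 12⟩,
    ⟨5, 6, 4, [21, 66, 176, -264], none⟩,
    ⟨5, 6, 4, [21, 66, 66, -154], none⟩,
    ⟨5, 6, 4, [21, -44, -154, 176], none⟩,
    ⟨5, 6, 4, [21, -44, -44, 66], none⟩,
    ⟨5, 6, 4, [16, 16, 231, -264], none⟩,
    ⟨5, 6, 4, [11, 21, 231, -264], none⟩,
    ⟨5, 6, 4, [11, 16, 16, -44], none⟩,
    ⟨5, 6, 4, [11, 11, 21, -44], none⟩,
    ⟨5, 2, 2, [21], some 22⟩,
    ⟨5, 2, 2, [11], some 12⟩,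
    ⟨5, 1, 4, [-144, 176, 231, -264], none⟩,
    ⟨5, 1, 4, [-99, -144, -154, 396], none⟩,
    ⟨5, 1, 4, [-99, 126, 126, -154], none⟩,
    ⟨5, 1, 4, [66, -144, -154, 231], none⟩,
    ⟨5, 1, 4, [66, -99, -144, 176], none⟩,
    ⟨5, 1, 4, [56, -144, -144, 231], none⟩,
    ⟨5, 1, 4, [-44, -44, -144, 231], none⟩,
    ⟨5, 1, 4, [21, -154, -264, 396], none⟩,
    ⟨5, 1, 4, [21, -99, -154, 231], none⟩,
    ⟨5, 1, 4, [21, -99, -99, 176], none⟩,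
    ⟨5, 1, 4, [21, 66, 176, -264], none⟩,
    ⟨5, 1, 4, [21, 66, 66, -154], none⟩,
    ⟨5, 1, 4, [21, 56, 66, -144], none⟩,
    ⟨5, 1, 4, [21, -44, -154, 176], none⟩,
    ⟨5, 1, 4, [21, -44, -44, 66], none⟩,
    ⟨5, 1, 4, [21, 21, 56, -99], none⟩,
    ⟨5, 1, 4, [16, -44, -99, 126], none⟩,
    ⟨5, 1, 4, [16, 16, 231, -264], none⟩,
    ⟨5, 1, 4, [16, 16, 66, -99], none⟩,
    ⟨5, 1, 4, [11, -144, -264, 396], none⟩,
    ⟨5, 1, 4, [11, 126, 126, -264], none⟩,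
    ⟨5, 1, 4, [11, -99, -144, 231], none⟩,
    ⟨5, 1, 4, [11, 66, 66, -144], none⟩,
    ⟨5, 1, 4, [11, -44, -144, 176], none⟩,
    ⟨5, 1, 4, [11, 21, 231, -264], none⟩,
    ⟨5, 1, 4, [11, 21, 66, -99], none⟩,
    ⟨5, 1, 4, [11, 16, 126, -154], none⟩,
    ⟨5, 1, 4, [11, 16, 16, -44], none⟩,
    ⟨5, 1, 4, [11, 11, 21, -44], none⟩,
    ⟨5, 1, 4, [6, 21, 126, -154], none⟩,
    ⟨5, 1, 4, [6, 16, 21, -44], none⟩,
    ⟨5, 1, 4, [6, 11, 126, -144], none⟩]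

/-- The candidates for the principal `7`-block. -/
def opts7 : List Opt :=
  [
    ⟨7, 64, 3, [-55, 99], some 45⟩,
    ⟨7, 64, 3, [22, 22], some 45⟩,
    ⟨7, 8, 3, [-132, 176], some 45⟩,
    ⟨7, 8, 3, [120, -132], some (-11)⟩,
    ⟨7, 8, 3, [99, 120], some 220⟩,
    ⟨7, 8, 3, [-55, 120], some 66⟩,
    ⟨7, 8, 3, [-55, 99], some 45⟩,
    ⟨7, 8, 3, [22, 22], some 45⟩,
    ⟨7, 4, 6, [99, -160, -160, 330, 330, -440], none⟩,
    ⟨7, 4, 6, [99, -132, -160, -160, 176, 176], none⟩,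
    ⟨7, 4, 6, [99, 120, 330, 330, -440, -440], none⟩,
    ⟨7, 4, 6, [99, 120, -132, 176, 176, -440], none⟩,
    ⟨7, 4, 6, [99, 120, -132, -132, -132, 176], none⟩,
    ⟨7, 4, 6, [-55, -132, -160, -160, 176, 330], none⟩,
    ⟨7, 4, 6, [-55, 120, -132, 176, 330, -440], none⟩,
    ⟨7, 4, 6, [-55, 120, -132, -132, -132, 330], none⟩,
    ⟨7, 4, 6, [-55, 99, 99, -160, -160, 176], none⟩,
    ⟨7, 4, 6, [-55, 99, 99, 120, 176, -440], none⟩,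
    ⟨7, 4, 6, [-55, 99, 99, 120, -132, -132], none⟩,
    ⟨7, 4, 6, [-55, -55, 99, -160, -160, 330], none⟩,
    ⟨7, 4, 6, [-55, -55, 99, 120, 330, -440], none⟩,
    ⟨7, 4, 6, [-55, -55, -55, 120, -132, 176], none⟩,
    ⟨7, 4, 6, [-55, -55, -55, -55, 99, 120], none⟩,
    ⟨7, 4, 6, [22, 99, -132, -160, -160, 330], none⟩,
    ⟨7, 4, 6, [22, 99, 120, -132, 330, -440], none⟩,
    ⟨7, 4, 6, [22, 99, 99, 99, -160, -160], none⟩,
    ⟨7, 4, 6, [22, 99, 99, 99, 120, -440], none⟩,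
    ⟨7, 4, 6, [22, -55, -160, -160, 176, 176], none⟩,
    ⟨7, 4, 6, [22, -55, 120, 176, 176, -440], none⟩,
    ⟨7, 4, 6, [22, -55, 120, -132, -132, 176], none⟩,
    ⟨7, 4, 6, [22, -55, -55, 99, 120, -132], none⟩,
    ⟨7, 4, 6, [22, 22, 99, -160, -160, 176], none⟩,
    ⟨7, 4, 6, [22, 22, 99, 120, 176, -440], none⟩,
    ⟨7, 4, 6, [22, 22, 99, 120, -132, -132], none⟩,
    ⟨7, 4, 6, [22, 22, -55, -160, -160, 330], none⟩,
    ⟨7, 4, 6, [22, 22, -55, 120, 330, -440], none⟩,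
    ⟨7, 4, 6, [22, 22, -55, -55, -55, 120], none⟩,
    ⟨7, 4, 6, [22, 22, 22, -55, 120, -132], none⟩,
    ⟨7, 1, 3, [-132, 176], some 45⟩,
    ⟨7, 1, 3, [120, -132], some (-11)⟩,
    ⟨7, 1, 3, [99, -160], some (-60)⟩,
    ⟨7, 1, 3, [99, -132], some (-32)⟩,
    ⟨7, 1, 3, [99, 120], some 220⟩,
    ⟨7, 1, 3, [-55, 120], some 66⟩,
    ⟨7, 1, 3, [-55, 99], some 45⟩,
    ⟨7, 1, 3, [22, -55], some (-32)⟩,
    ⟨7, 1, 3, [22, 22], some 45⟩,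
    ⟨7, 1, 3, [-6, -160], some (-165)⟩,
    ⟨7, 1, 3, [-6, -55], some (-60)⟩,
    ⟨7, 1, 3, [-6, -6], some (-11)⟩]

end CfsgLib.M22Order
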