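import Cfsg.Agent.Lib.M22Order.Three

/-!
# Simple groups of order 443520: the centraliser of an involution and the sixteen over a four-group
-/

set_option autoImplicit false
set_option linter.unusedSectionVars false
set_option linter.style.haveILetI false

namespace CfsgLib.M22Order

open Cfsg CfsgLib

universe u

variable {G : Type u} [Group G] [Finite G]

theorem key_refl : ∀ τ σ : Equiv.Perm (Fin 3), τ ^ 128 = 1 → τ ≠ 1 → σ ^ 3 = 1 → σ ≠ 1 →
    (τ * (σ * τ * σ⁻¹)) ^ 128 ≠ 1 := by
  have h : ∀ τ : Equiv.Perm (Fin 3), τ ^ 128 = τ ^ 2 := fun τ => by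
    have hc : Nat.card (Equiv.Perm (Fin 3)) = 6 := by rw [Nat.card_perm, Nat.card_fin]; rfl
    have h6 : τ ^ 6 = 1 := hc ▸ pow_card_eq_one'
    rw [show 128 = 6 * 21 + 2 by norm_num, pow_add, pow_mul, h6, one_pow, one_mul]
  have k : ∀ τ σ : Equiv.Perm (Fin 3), τ ^ 2 = 1 → τ ≠ 1 → σ ^ 3 = 1 → σ ≠ 1 →
      (τ * (σ * τ * σ⁻¹)) ^ 2 ≠ 1 := by decide +kernel
  intro τ σ h1 h2 h3 h4
  rw [h]
  exact k τ σ (h τ ▸ h1) h2 h3 h4

set_option synthInstance.maxSize 1000 in
theorem key_comm : ∀ τ σ : Equiv.Perm (Fin 3), τ * τ = 1 → σ ^ 3 = 1 → σ ≠ 1 → τ * σ = σ * τ → τ = 1 := by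
  decide +kernel

set_option synthInstance.maxSize 1000 in
theorem key_fix : ∀ τ σ : Equiv.Perm (Fin 3), σ ^ 3 = 1 → σ ≠ 1 → τ * σ = σ * τ → τ ^ 3 = 1 := by
  decide +kernel

/-- The 2-core of the centraliser of an involution. -/
def core (t : G) : Subgroup G :=
  (Cfsg.pCore 2 (Subgroup.centralizer ({t} : Set G))).map (Subgroup.centralizer ({t} : Set G)).subtype

theorem core_le (t : G) : core t ≤ Subgroup.centralizer ({t} : Set G) := Subgroup.map_subtype_le _

theorem mem_core {t : G} {y : Subgroup.centralizer ({t} : Set G)} :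
    (y : G) ∈ core t ↔ y ∈ Cfsg.pCore 2 (Subgroup.centralizer ({t} : Set G)) :=
  Subgroup.mem_map_iff_mem (Subgroup.subtype_injective _)

theorem core_conj {t y q : G} (hy : y ∈ Subgroup.centralizer ({t} : Set G)) (hq : q ∈ core t) :
    y * q * y⁻¹ ∈ core t := by
  haveI := Fitting.pCore_normal (G := Subgroup.centralizer ({t} : Set G)) 2
  have h : (⟨y, hy⟩ * ⟨q, core_le t hq⟩ * ⟨y, hy⟩⁻¹ : Subgroup.centralizer ({t} : Set G)) ∈ Cfsg.pCore 2 _ :=
    Subgroup.Normal.conj_mem inferInstance _ ((mem_core (y := ⟨q, core_le t hq⟩)).mp hq) _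
  exact mem_core.mpr h

variable (F : Facts G)
include F

theorem exists_three {t : G} (ht : orderOf t = 2) : ∃ x, orderOf x = 3 ∧ x * t = t * x := by
  haveI : Fact (Nat.Prime 3) := ⟨Nat.prime_three⟩
  obtain ⟨x, hx⟩ := exists_prime_orderOf_dvd_card' (G := Subgroup.centralizer ({t} : Set G)) 3
    (by rw [F.card_invol t ht]; norm_num)
  exact ⟨x, by rw [Subgroup.orderOf_coe]; exact hx, mem_cen.mp x.2⟩

theorem self_mem_four {t x : G} (ht : orderOf t = 2) (hx : orderOf x = 3) (hxt : x * t = t * x) :
    t ∈ four x :=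
  mem_four F hx hxt.symm (by rw [show (4 : ℕ) = 2 * 2 from rfl, pow_mul, pow_two t, sq_of_order ht, one_pow])

/-- The four-group of an element of order three centralises each of its members. -/
theorem four_le_cen {t x : G} (ht : orderOf t = 2) (hx : orderOf x = 3) (hxt : x * t = t * x) :
    four x ≤ Subgroup.centralizer ({t} : Set G) := by
  intro w hw
  have hv := self_mem_four F ht hx hxt
  refine mem_cen.mpr ?_
  calc w * t = w * t * ((t * w) * (t * w)) := by rw [four_sq F hx (mul_mem hv hw), mul_one]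
    _ = w * (t * t) * (w * (t * w)) := by group
    _ = t * w := by rw [sq_of_order ht, mul_one, ← mul_assoc, four_sq F hx hw, one_mul]

/-- The fixed points in a 2-subgroup of the centraliser of `x`. -/
theorem inf_cen_eq {x : G} (hx : orderOf x = 3) (K : Subgroup G) (h2 : ∀ k ∈ K, k ^ 128 = 1) :
    K ⊓ Subgroup.centralizer ({x} : Set G) = K ⊓ four x :=
  le_antisymm (fun _ h => ⟨h.1, two_mem_four F hx (mem_cen.mp h.2) (h2 _ h.1)⟩)
    (inf_le_inf_left _ (four_le F hx))

/-- The quotient of the centraliser of an involution by its 2-core. -/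
theorem exists_hom {t : G} (ht : orderOf t = 2) :
    ∃ φ : Subgroup.centralizer ({t} : Set G) →* Equiv.Perm (Fin 3), Function.Surjective φ ∧
      φ.ker = Cfsg.pCore 2 (Subgroup.centralizer ({t} : Set G)) := by
  classical
  haveI : Fact (Nat.Prime 2) := ⟨Nat.prime_two⟩
  set C := Subgroup.centralizer ({t} : Set G) with hC
  obtain ⟨x, hx, hxt⟩ := exists_three F ht
  have hxC : x ∈ C := mem_cen.mpr hxt
  have hfac : (Nat.card C).factorization 2 = 7 := by
    rw [F.card_invol t ht, show (384 : ℕ) = 2 ^ 7 * 3 by norm_num,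
      Nat.factorization_mul (by norm_num) (by norm_num),
      Finsupp.add_apply, Nat.factorization_pow, Finsupp.smul_apply,
      Nat.Prime.factorization_self Nat.prime_two,
      Nat.factorization_eq_zero_of_not_dvd (show ¬ 2 ∣ 3 by norm_num)]
    rfl
  have h128 : ∀ P : Sylow 2 C, Nat.card (P : Subgroup C) = 128 := fun P => by
    rw [P.card_eq_multiplicity, hfac]; norm_num
  have hnn : ∀ P : Sylow 2 C, ¬ (P : Subgroup C).Normal := by
    intro P hn
    set K := (P : Subgroup C).map C.subtype with hK
    have h2 : ∀ k ∈ K, k ^ 128 = 1 := by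
      rintro _ ⟨k, hk, rfl⟩
      have : (⟨k, hk⟩ : (P : Subgroup C)) ^ 128 = 1 := h128 P ▸ pow_card_eq_one'
      exact congrArg (fun a : (P : Subgroup C) => ((a : C) : G)) this
    have hinv : ∀ k ∈ K, x * k * x⁻¹ ∈ K := by
      rintro _ ⟨k, hk, rfl⟩
      exact ⟨⟨x, hxC⟩ * k * ⟨x, hxC⟩⁻¹, hn.conj_mem k hk _, rfl⟩
    have hVK : four x ≤ K := by
      intro v hv
      have hvC := four_le_cen F ht hx hxt hv
      refine ⟨⟨v, hvC⟩, ?_, rfl⟩
      have hp : IsPGroup 2 (Subgroup.zpowers (⟨v, hvC⟩ : C)) := fun g => by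
        refine ⟨1, ?_⟩
        obtain ⟨i, hi⟩ := Subgroup.mem_zpowers_iff.mp g.2
        refine Subtype.ext ?_
        rw [Subgroup.coe_pow, ← hi, Subgroup.coe_one, pow_one, ← zpow_natCast, ← zpow_mul, mul_comm,
          zpow_mul, zpow_natCast, pow_two,
          show (⟨v, hvC⟩ : C) * ⟨v, hvC⟩ = 1 from Subtype.ext (four_sq F hx hv), one_zpow]
      obtain ⟨R, hR⟩ := hp.exists_le_sylow
      haveI := Sylow.unique_of_normal P hn
      rw [Subsingleton.elim R P] at hR
      exact hR (Subgroup.mem_zpowers _)
    have h := card_mod_of_fixed (pow_three_eq hx) K (four x) hinv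
      (by rw [inf_cen_eq F hx K h2]; exact inf_eq_right.mpr hVK)
    rw [hK, Subgroup.card_map_of_injective C.subtype_injective, h128, card_four F hx] at h
    norm_num at h
  obtain ⟨P⟩ := (inferInstance : Nonempty (Sylow 2 C))
  have hidx : (P : Subgroup C).index = 3 := by
    have := (P : Subgroup C).index_mul_card
    rw [h128, F.card_invol t ht] at this
    omega
  have hn3 : Nat.card (Sylow 2 C) = 3 := by
    have hd : Nat.card (Sylow 2 C) ∣ 3 := hidx ▸ P.card_dvd_index
    rcases (Nat.dvd_prime Nat.prime_three).mp hd with h | h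
    · refine absurd ?_ (hnn P)
      rw [P.card_eq_index_normalizer, Subgroup.index_eq_one] at h
      exact Subgroup.normalizer_eq_top_iff.mp h
    · exact h
  have hNP : ∀ P : Sylow 2 C, Subgroup.normalizer ((P : Subgroup C) : Set C) = (P : Subgroup C) := by
    intro P
    refine (Subgroup.eq_of_le_of_card_ge Subgroup.le_normalizer ?_).symm
    have h := (Subgroup.normalizer ((P : Subgroup C) : Set C)).index_mul_card
    rw [show (Subgroup.normalizer ((P : Subgroup C) : Set C)).index = 3 from
      P.card_eq_index_normalizer.symm.trans hn3, F.card_invol t ht] at h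
    rw [h128]
    omega
  letI : Fintype (Sylow 2 C) := Fintype.ofFinite _
  let e : Sylow 2 C ≃ Fin 3 := Finite.equivFinOfCardEq hn3
  let ψ : C →* Equiv.Perm (Sylow 2 C) := MulAction.toPermHom C (Sylow 2 C)
  let φ : C →* Equiv.Perm (Fin 3) := (e.permCongrHom.toMonoidHom).comp ψ
  have hkp : φ.ker = ψ.ker := by
    ext a; simp [φ, MonoidHom.mem_ker]
  have hle : ∀ P : Sylow 2 C, ψ.ker ≤ (P : Subgroup C) := fun P a ha => by
    rw [← hNP P]
    erw [← Sylow.stabilizer_eq_normalizer]
    rw [MulAction.mem_stabilizer_iff]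
    exact DFunLike.congr_fun (show ψ a = 1 from ha) P
  have hker : φ.ker = Cfsg.pCore 2 C := by
    rw [hkp]
    refine le_antisymm (Fitting.le_pCore inferInstance (P.2.to_le (hle P))) fun a ha => ?_
    refine MonoidHom.mem_ker.mpr (Equiv.ext fun R => ?_)
    show a • R = R
    rw [← MulAction.mem_stabilizer_iff, Sylow.stabilizer_eq_normalizer]
    exact Subgroup.le_normalizer (HallHigman.pCore_le_sylow_of R ha)
  refine ⟨φ, ?_, hker⟩
  have hr : φ.range = ⊤ := by
    have hcr : Nat.card φ.range = φ.ker.index := (Subgroup.index_ker φ).symm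
    have hd6 : Nat.card φ.range ∣ 6 := by
      have := Subgroup.card_subgroup_dvd_card φ.range
      rwa [Nat.card_perm, Nat.card_fin] at this
    have hkP : φ.ker ≤ (P : Subgroup C) := hkp ▸ hle P
    have h3 : 3 ∣ φ.ker.index := by
      have := Subgroup.index_dvd_of_le hkP
      rwa [hidx] at this
    rw [← hcr] at h3
    have hne : Nat.card φ.range ≠ 3 := by
      intro h
      have hk := φ.ker.index_mul_card
      rw [← hcr, h, F.card_invol t ht] at hk
      have heq : φ.ker = (P : Subgroup C) := Subgroup.eq_of_le_of_card_ge hkP (by rw [h128]; omega)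
      exact hnn P (heq ▸ φ.normal_ker)
    refine Subgroup.eq_top_of_card_eq _ ?_
    rw [Nat.card_perm, Nat.card_fin, show Nat.factorial 3 = 6 from rfl]
    obtain ⟨q, hq⟩ := h3
    have hqd : q ∣ 2 := Nat.dvd_of_mul_dvd_mul_left (by norm_num : 0 < 3) (by rw [← hq]; exact hd6)
    rcases (Nat.dvd_prime Nat.prime_two).mp hqd with rfl | rfl
    · exact absurd hq hne
    · rw [hq]
  exact MonoidHom.range_eq_top.mp hr

theorem card_core {t : G} (ht : orderOf t = 2) : Nat.card (core t) = 64 := by
  obtain ⟨φ, hφ, hk⟩ := exists_hom F ht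
  have h := φ.ker.index_mul_card
  rw [Subgroup.index_ker, MonoidHom.range_eq_top.mpr hφ, Subgroup.card_top, F.card_invol t ht, Nat.card_perm,
    Nat.card_fin, show Nat.factorial 3 = 6 from rfl, hk] at h
  rw [core, Subgroup.card_map_of_injective (Subgroup.subtype_injective _)]
  omega

theorem pow_core {t q : G} (ht : orderOf t = 2) (hq : q ∈ core t) : q ^ 128 = 1 := by
  have h : (⟨q, hq⟩ : core t) ^ 64 = 1 := card_core F ht ▸ pow_card_eq_one'
  rw [show 128 = 64 * 2 by norm_num, pow_mul, show q ^ 64 = 1 from congrArg Subtype.val h, one_pow]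

theorem three_not_mem {t x : G} (ht : orderOf t = 2) (hx : orderOf x = 3) : x ∉ core t := fun h => by
  have := Subgroup.orderOf_dvd_natCard _ h
  rw [card_core F ht, hx] at this
  norm_num at this

/-- A 2-subgroup of the centraliser invariant under an element of order three lies in the core. -/
theorem le_core {t x : G} (ht : orderOf t = 2) (hx : orderOf x = 3) (hxt : x * t = t * x) {K : Subgroup G}
    (hK : K ≤ Subgroup.centralizer ({t} : Set G)) (h2 : ∀ k ∈ K, k ^ 128 = 1)
    (hinv : ∀ k ∈ K, x * k * x⁻¹ ∈ K) : K ≤ core t := by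
  obtain ⟨φ, -, hk⟩ := exists_hom F ht
  intro r hr
  by_contra hrQ
  have hne : ∀ y : Subgroup.centralizer ({t} : Set G), (y : G) ∉ core t → φ y ≠ 1 := fun y hy h => hy (mem_core.mpr
    (by rw [← hk]; exact MonoidHom.mem_ker.mpr h))
  set x' : Subgroup.centralizer ({t} : Set G) := ⟨x, mem_cen.mpr hxt⟩ with hx'
  set r' : Subgroup.centralizer ({t} : Set G) := ⟨r, hK hr⟩ with hr'
  refine key_refl (φ r') (φ x') ?_ (hne _ hrQ) ?_ (hne _ (three_not_mem F ht hx)) ?_
  · rw [← map_pow, show r' ^ 128 = 1 from Subtype.ext (h2 r hr), map_one]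
  · rw [← map_pow, show x' ^ 3 = 1 from Subtype.ext (pow_three_eq hx), map_one]
  · rw [← map_inv, ← map_mul, ← map_mul, ← map_mul, ← map_pow,
      show (r' * (x' * r' * x'⁻¹)) ^ 128 = 1 from Subtype.ext (h2 _ (mul_mem hr (hinv r hr))), map_one]

theorem four_le_core {t x : G} (ht : orderOf t = 2) (hx : orderOf x = 3) (hxt : x * t = t * x) :
    four x ≤ core t :=
  le_core F ht hx hxt (four_le_cen F ht hx hxt)
    (fun k hk => by rw [show (128 : ℕ) = 2 * 64 from rfl, pow_mul, pow_two k, four_sq F hx hk, one_pow])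
    (fun k hk => four_conj F hx rfl hk)

omit F in
/-- The sixteen over a four-group, as the core of its centraliser. -/
def sixteen (x : G) : Subgroup G :=
  (Cfsg.pCore 2 (Subgroup.centralizer (four x : Set G))).map (Subgroup.centralizer (four x : Set G)).subtype

theorem sixteen_le {x : G} : sixteen x ≤ Subgroup.centralizer (four x : Set G) := Subgroup.map_subtype_le _

theorem sixteen_conj {x g a : G} (hg : ∀ v ∈ four x, g * v * g⁻¹ ∈ four x) (ha : a ∈ sixteen x) :
    g * a * g⁻¹ ∈ sixteen x := by
  set C := Subgroup.centralizer (four x : Set G) with hC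
  set V := four x with hV
  have hmapV : V.map (MulAut.conj g).toMonoidHom = V := Subgroup.eq_of_le_of_card_ge
    (by rintro _ ⟨v, hv, rfl⟩; exact hg v hv)
    (by rw [Subgroup.card_map_of_injective (MulAut.conj g).injective])
  have hCg : ∀ c ∈ C, g * c * g⁻¹ ∈ C := by
    intro c hc
    refine Subgroup.mem_centralizer_iff.mpr fun v hv => ?_
    obtain ⟨w, hw, rfl⟩ := Subgroup.mem_map.mp (show v ∈ V.map (MulAut.conj g).toMonoidHom by
      rw [hmapV]; exact hv)
    show g * w * g⁻¹ * (g * c * g⁻¹) = g * c * g⁻¹ * (g * w * g⁻¹)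
    rw [show g * w * g⁻¹ * (g * c * g⁻¹) = g * (w * c) * g⁻¹ by group,
      Subgroup.mem_centralizer_iff.mp hc w hw]
    group
  have hmapC : C.map (MulAut.conj g).toMonoidHom = C := Subgroup.eq_of_le_of_card_ge
    (by rintro _ ⟨c, hc, rfl⟩; exact hCg c hc)
    (by rw [Subgroup.card_map_of_injective (MulAut.conj g).injective])
  let e : C ≃* C := (C.equivMapOfInjective _ (MulAut.conj g).injective).trans (MulEquiv.subgroupCongr hmapC)
  obtain ⟨a', ha', rfl⟩ := Subgroup.mem_map.mp ha
  have h : (Cfsg.pCore 2 C).map e.toMonoidHom ≤ Cfsg.pCore 2 C :=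
    Fitting.le_pCore ((Fitting.pCore_normal 2).map _ e.surjective)
      ((Fitting.pCore_isPGroup 2).map _)
  exact Subgroup.mem_map.mpr ⟨e a', h ⟨a', ha', rfl⟩, rfl⟩

/-- The sixteen is the part of the core centralising the four-group, for every member of the four-group. -/
theorem sixteen_eq {t x : G} (ht : orderOf t = 2) (hx : orderOf x = 3) (hxt : x * t = t * x) :
    sixteen x = core t ⊓ Subgroup.centralizer (four x : Set G) := by
  haveI : Fact (Nat.Prime 2) := ⟨Nat.prime_two⟩
  have htV := self_mem_four F ht hx hxt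
  set C := Subgroup.centralizer (four x : Set G) with hC
  have hCt : C ≤ Subgroup.centralizer ({t} : Set G) := fun c hc =>
    mem_cen.mpr (Subgroup.mem_centralizer_iff.mp hc t htV).symm
  apply le_antisymm
  · refine le_inf ?_ (Subgroup.map_subtype_le _)
    refine le_core F ht hx hxt ((Subgroup.map_subtype_le _).trans hCt) (fun k hk => ?_)
      (fun k hk => sixteen_conj F (fun v hv => four_conj F hx rfl hv) hk)
    obtain ⟨k', hk', rfl⟩ := Subgroup.mem_map.mp hk
    obtain ⟨n, hn⟩ := (Fitting.pCore_isPGroup (G := C) 2) ⟨k', hk'⟩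
    have h2 : (k' : G) ^ 2 ^ n = 1 := by
      have := congrArg (fun z : Cfsg.pCore 2 C => ((z : C) : G)) hn
      simpa using this
    have h384 : (⟨(k' : G), hCt k'.2⟩ : Subgroup.centralizer ({t} : Set G)) ^ 384 = 1 :=
      F.card_invol t ht ▸ pow_card_eq_one'
    have h384' : (k' : G) ^ 384 = 1 := congrArg Subtype.val h384
    show (k' : G) ^ 128 = 1
    rw [← orderOf_dvd_iff_pow_eq_one] at h2 h384' ⊢
    obtain ⟨m, -, hm⟩ := (Nat.dvd_prime_pow Nat.prime_two).mp h2
    rw [hm] at h384' ⊢
    rw [show (384 : ℕ) = 128 * 3 from rfl] at h384'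
    exact (Nat.Coprime.pow_left m (by norm_num)).dvd_of_dvd_mul_right h384'
  · intro q hq
    refine Subgroup.mem_map.mpr ⟨⟨q, hq.2⟩, ?_, rfl⟩
    refine Fitting.le_pCore (N := (core t ⊓ C).subgroupOf C) ⟨fun a ha g => ?_⟩ (fun a => ?_) hq
    · refine ⟨core_conj (hCt g.2) ha.1, ?_⟩
      exact C.mul_mem (C.mul_mem g.2 a.2) (C.inv_mem g.2)
    · refine ⟨7, Subtype.ext (Subtype.ext ?_)⟩
      have := pow_core F ht (Subgroup.mem_subgroupOf.mp a.2).1
      simpa using this

/-- The sixteen has order 16 or 64. -/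
theorem card_sixteen {x : G} (hx : orderOf x = 3) : Nat.card (sixteen x) = 16 ∨ Nat.card (sixteen x) = 64 := by
  classical
  haveI : Fact (Nat.Prime 2) := ⟨Nat.prime_two⟩
  obtain ⟨t, htV, ht1⟩ : ∃ t ∈ four x, t ≠ 1 := by
    by_contra h; push Not at h
    have := card_four F hx
    rw [(Subgroup.eq_bot_iff_forall _).mpr h, Subgroup.card_bot] at this
    omega
  have ht := order_of_sq (four_sq F hx htV) ht1
  have hxt := (four_comm F hx htV).symm
  set Q := core t with hQ
  have hVQ := four_le_core F ht hx hxt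
  set A := sixteen x with hA
  have hAe : A = Q ⊓ Subgroup.centralizer (four x : Set G) := sixteen_eq F ht hx hxt
  have hVA : four x ≤ A := by
    rw [hAe]
    refine le_inf hVQ fun v hv => Subgroup.mem_centralizer_iff.mpr fun w hw => ?_
    by_cases hw1 : w = 1
    · rw [hw1, one_mul, mul_one]
    exact (mem_cen.mp (four_le_cen F (order_of_sq (four_sq F hx hw) hw1) hx (four_comm F hx hw).symm hv)).symm
  have hd : Nat.card A ∣ 64 := card_core F ht ▸ Subgroup.card_dvd_of_le (hAe ▸ inf_le_left)
  have h4 : 4 ∣ Nat.card A := card_four F hx ▸ Subgroup.card_dvd_of_le hVA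
  have hmod : Nat.card A % 3 = 1 := by
    rw [card_mod_of_fixed (pow_three_eq hx) A (four x)
      (fun k hk => sixteen_conj F (fun v hv => four_conj F hx rfl hv) hk)
      (by rw [inf_cen_eq F hx A fun k hk => pow_core F ht (hAe ▸ hk : k ∈ Q ⊓ _).1]; exact inf_eq_right.mpr hVA),
      card_four F hx]
  have hne : Nat.card A ≠ 4 := by
    intro h
    have hAV : four x = A := Subgroup.eq_of_le_of_card_ge hVA (by rw [h, card_four F hx])
    -- the normaliser of the four-group in the core
    set N := Q ⊓ Subgroup.normalizer (four x : Set G) with hN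
    have hNinv : ∀ k ∈ N, x * k * x⁻¹ ∈ N := by
      intro k hk
      refine ⟨core_conj (mem_cen.mpr hxt) hk.1, ?_⟩
      have hxN : x ∈ Subgroup.normalizer (four x : Set G) := Subgroup.mem_normalizer_iff.mpr fun v =>
        ⟨fun hv => four_conj F hx rfl hv, fun hv => by
          have := four_conj F hx (g := x⁻¹) (by group) hv
          rw [show x⁻¹ * (x * v * x⁻¹) * x⁻¹⁻¹ = v by group] at this
          exact this⟩
      exact Subgroup.mul_mem _ (Subgroup.mul_mem _ hxN hk.2) (Subgroup.inv_mem _ hxN)
    have hVN : four x ≤ N := le_inf hVQ Subgroup.le_normalizer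
    have hNmod : Nat.card N % 3 = 1 := by
      rw [card_mod_of_fixed (pow_three_eq hx) N (four x) hNinv
        (by rw [inf_cen_eq F hx N fun k hk => pow_core F ht hk.1]; exact inf_eq_right.mpr hVN), card_four F hx]
    have hdN : Nat.card N ∣ 64 := card_core F ht ▸ Subgroup.card_dvd_of_le inf_le_left
    have hlt : four x < N := by
      refine lt_of_le_of_ne hVN fun e => ?_
      have hp : IsPGroup 2 Q := IsPGroup.of_card (n := 6) (by rw [card_core F ht]; norm_num)
      haveI : Group.IsNilpotent Q := hp.isNilpotent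
      have hne : (four x).subgroupOf Q ≠ ⊤ := fun he => by
        have hle : Q ≤ four x := Subgroup.subgroupOf_eq_top.mp he
        have := Subgroup.card_le_of_le hle
        rw [card_core F ht, card_four F hx] at this; omega
      have hlt' := Group.normalizerCondition_of_isNilpotent _ (lt_top_iff_ne_top.mpr hne)
      obtain ⟨g, hg, hg'⟩ := SetLike.exists_of_lt hlt'
      apply hg'
      have hgn : (g : G) ∈ N := ⟨g.2, Subgroup.mem_normalizer_iff.mpr fun v => ?_⟩
      · rw [← e] at hgn; exact hgn
      · constructor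
        · intro hv
          have := (Subgroup.mem_normalizer_iff.mp hg ⟨v, hVQ hv⟩).mp hv
          exact this
        · intro hv
          have hvQ : v ∈ Q := by
            have := mul_mem (mul_mem (inv_mem g.2) (hVQ hv)) g.2
            rwa [show (g : G)⁻¹ * (g * v * (g : G)⁻¹) * g = v by group] at this
          exact (Subgroup.mem_normalizer_iff.mp hg ⟨v, hvQ⟩).mpr hv
    -- the normaliser acts on the four-group fixing t
    have hbound : Nat.card N ≤ 2 * Nat.card A := by
      obtain ⟨u, huV, hu1, hut⟩ : ∃ u ∈ four x, u ≠ 1 ∧ u ≠ t := by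
        by_contra hh; push Not at hh
        have hsub : (four x : Set G) ⊆ {1, t} := fun v hv => by
          by_cases hv1 : v = 1
          · exact Or.inl hv1
          · exact Or.inr (hh v hv hv1)
        have hle := Set.ncard_le_ncard hsub (Set.toFinite _)
        rw [← Nat.card_coe_set_eq] at hle
        have h2 := Set.ncard_insert_le (1 : G) {t}
        rw [Set.ncard_singleton] at h2
        have := card_four F hx
        rw [show Nat.card ↥(four x) = Nat.card ↥(four x : Set G) from rfl] at this
        omega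
      have hVset : (four x : Set G) = {1, t, u, t * u} := by
        refine (Set.eq_of_subset_of_ncard_le ?_ ?_ (Set.toFinite _)).symm
        · intro v hv
          rcases hv with rfl | rfl | rfl | rfl
          exacts [one_mem _, htV, huV, mul_mem htV huV]
        · rw [← Nat.card_coe_set_eq, show Nat.card ↥(four x : Set G) = 4 from card_four F hx,
            Set.ncard_eq_four.mpr ⟨1, t, u, t * u, Ne.symm ht1, Ne.symm hu1, ?_, Ne.symm hut, ?_, ?_, rfl⟩]
          · exact fun e => hut (by
              calc u = (t * t) * u := by rw [sq_of_order ht, one_mul]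
                _ = t * (t * u) := mul_assoc _ _ _
                _ = t := by rw [← e, mul_one])
          · exact fun e => hu1 (mul_left_cancel (e.symm.trans (mul_one t).symm))
          · exact fun e => ht1 (mul_right_cancel (e.symm.trans (one_mul u).symm))
      have hcoset : ∀ g ∈ N, ∀ g' ∈ N, g * u * g⁻¹ = g' * u * g'⁻¹ → g'⁻¹ * g ∈ A := by
        intro g hg g' hg' he
        rw [hAe]
        refine ⟨Q.mul_mem (Q.inv_mem hg'.1) hg.1, Subgroup.mem_centralizer_iff.mpr ?_⟩
        have h1 : Commute (g'⁻¹ * g) u := by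
          show g'⁻¹ * g * u = u * (g'⁻¹ * g)
          calc g'⁻¹ * g * u = g'⁻¹ * (g * u * g⁻¹) * g := by group
            _ = u * (g'⁻¹ * g) := by rw [he]; group
        have h2 : Commute (g'⁻¹ * g) t := mem_cen.mp (core_le t (mul_mem (inv_mem hg'.1) hg.1))
        intro v hv
        rw [hVset] at hv
        rcases hv with rfl | rfl | rfl | rfl
        exacts [(one_mul _).trans (mul_one _).symm, h2.symm, h1.symm, ((h2.mul_right h1)).symm]
      have himg : ∀ g ∈ N, g * u * g⁻¹ = u ∨ g * u * g⁻¹ = t * u := by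
        intro g hg
        have hm : g * u * g⁻¹ ∈ (four x : Set G) := (Subgroup.mem_normalizer_iff.mp hg.2 u).mp huV
        rw [hVset] at hm
        rcases hm with e | e | e | e
        · exact absurd (conj_eq_one_iff.mp e) hu1
        · refine absurd ?_ hut
          calc u = g⁻¹ * (g * u * g⁻¹) * g := by group
            _ = g⁻¹ * (t * g) := by rw [e, mul_assoc]
            _ = t := by rw [← mem_cen.mp (core_le t hg.1)]; group
        · exact Or.inl e
        · exact Or.inr e
      by_cases hall : ∀ g ∈ N, g * u * g⁻¹ = u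
      · have : N ≤ A := fun g hg => by
          have := hcoset g hg 1 (one_mem _) (by rw [hall g hg]; group)
          rwa [inv_one, one_mul] at this
        have := Subgroup.card_le_of_le this
        omega
      · push Not at hall
        obtain ⟨g₀, hg₀, hne₀⟩ := hall
        have hsub : (N : Set G) ⊆ (A : Set G) ∪ (fun a => g₀ * a) '' (A : Set G) := fun g hg => by
          rcases himg g hg with e | e
          · left
            have := hcoset g hg 1 (one_mem _) (by rw [e]; group)
            rwa [inv_one, one_mul] at this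
          · right
            exact ⟨g₀⁻¹ * g, hcoset g hg g₀ hg₀ (by rw [e, (himg g₀ hg₀).resolve_left hne₀]), by
              show g₀ * (g₀⁻¹ * g) = g; group⟩
        have hle := (Set.ncard_le_ncard hsub (Set.toFinite _)).trans (Set.ncard_union_le _ _)
        rw [Set.ncard_image_of_injective _ (mul_right_injective g₀), ← Nat.card_coe_set_eq,
          ← Nat.card_coe_set_eq] at hle
        change Nat.card N ≤ Nat.card A + Nat.card A at hle
        omega
    have hlt' : 4 < Nat.card N := by
      have hle := Subgroup.card_le_of_le hVN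
      rw [card_four F hx] at hle
      rcases Nat.lt_or_eq_of_le hle with h' | h'
      · exact h'
      · exact absurd (Subgroup.eq_of_le_of_card_ge hVN (by rw [card_four F hx, h'])) hlt.ne
    have hN8 : Nat.card N ≤ 8 := by omega
    interval_cases hc : Nat.card N <;> omega
  obtain ⟨m, hm⟩ := h4
  rw [hm] at hd hmod hne ⊢
  have hm16 : m ∣ 16 := Nat.dvd_of_mul_dvd_mul_left (by norm_num : 0 < 4) hd
  have hm' := Nat.le_of_dvd (by norm_num) hm16
  interval_cases m <;> omega

end CfsgLib.M22Order
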