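import Cfsg.Agent.Lib.M22Order.Core

/-!
# Simple groups of order 443520: an element of order five normalises no subgroup of order divisible by three
-/

set_option autoImplicit false
set_option linter.unusedSectionVars false
set_option linter.style.haveILetI false

namespace CfsgLib.M22Order

open Cfsg CfsgLib
open scoped Pointwise

universe u

variable {G : Type u} [Group G] [Finite G]

/-- An element of order five acting on a finite set fixes a number of points congruent to all. -/
theorem card_mod_five {α : Type*} [Finite α] (σ : Equiv.Perm α) (h5 : σ ^ 5 = 1) :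
    Nat.card α % 5 = Nat.card {a : α // σ a = a} % 5 := by
  classical
  letI : Fintype α := Fintype.ofFinite α
  haveI : Fact (Nat.Prime 5) := ⟨by norm_num⟩
  have h := Equiv.Perm.card_fixedPoints_modEq (α := α) (f := ((⇑σ : α → α) : Function.End α)) (p := 5) (n := 1)
    (by
      funext a
      have := DFunLike.congr_fun h5 a
      show σ (σ (σ (σ (σ a)))) = a
      simpa [pow_succ, Equiv.Perm.mul_apply] using this)
  simp only [← Nat.card_eq_fintype_card] at h
  rw [h]
  rfl

theorem not_sixteen (F : Facts G) {g : G} (hg : orderOf g = 5) {u : G} (hc : u * g = g * u)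
    (h2 : ¬ 5 ∣ orderOf u) : u = 1 := by
  have hu : (⟨u, mem_cen.mpr hc⟩ : Subgroup.centralizer ({g} : Set G)) ^ 5 = 1 := F.card_five g hg ▸ pow_card_eq_one'
  have h := orderOf_dvd_of_pow_eq_one (show u ^ 5 = 1 from congrArg Subtype.val hu)
  rcases (Nat.dvd_prime (by norm_num)).mp h with h | h
  · exact orderOf_eq_one_iff.mp h
  · exact absurd (dvd_refl 5) (h ▸ h2)

/-- An element of order five normalises no subgroup of order divisible by three and prime to five. -/
theorem false_of_five (F : Facts G) {g : G} (hg : orderOf g = 5) (K : Subgroup G)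
    (hinv : ∀ k ∈ K, g * k * g⁻¹ ∈ K) (h3 : 3 ∣ Nat.card K) (h5 : ¬ 5 ∣ Nat.card K) : False := by
  classical
  haveI : Fact (Nat.Prime 3) := ⟨Nat.prime_three⟩
  haveI : Fact (Nat.Prime 5) := ⟨by norm_num⟩
  have hgN : ∀ k, k ∈ K ↔ g * k * g⁻¹ ∈ K := by
    intro k
    refine ⟨hinv k, fun h => ?_⟩
    have hmap : K.map (MulAut.conj g).toMonoidHom = K := Subgroup.eq_of_le_of_card_ge
      (by rintro _ ⟨a, ha, rfl⟩; exact hinv a ha)
      (by rw [Subgroup.card_map_of_injective (MulAut.conj g).injective])
    rw [← hmap] at h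
    obtain ⟨a, ha, e⟩ := h
    rwa [← (MulAut.conj g).injective e]
  let c : MulAut K :=
    { toFun := fun k => ⟨g * k * g⁻¹, hinv k k.2⟩
      invFun := fun k => ⟨g⁻¹ * k * g, (hgN _).mpr (by
        rw [show g * (g⁻¹ * (k : G) * g) * g⁻¹ = k by group]; exact k.2)⟩
      left_inv := fun k => Subtype.ext (by show g⁻¹ * (g * (k : G) * g⁻¹) * g = k; group)
      right_inv := fun k => Subtype.ext (by show g * (g⁻¹ * (k : G) * g) * g⁻¹ = k; group)
      map_mul' := fun a b => Subtype.ext (by
        show g * ((a : G) * b) * g⁻¹ = g * a * g⁻¹ * (g * b * g⁻¹); group) }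
  have hg5 : g ^ 5 = 1 := by rw [← hg, pow_orderOf_eq_one]
  have hcpow : ∀ (n : ℕ) (k : K), (((c ^ n) k : K) : G) = g ^ n * k * (g ^ n)⁻¹ := by
    intro n
    induction n with
    | zero => intro k; simp
    | succ n ih =>
      intro k
      rw [pow_succ', MulAut.mul_apply]
      show g * (((c ^ n) k : K) : G) * g⁻¹ = _
      rw [ih, pow_succ']
      group
  have hc5 : c ^ 5 = 1 := by
    ext k
    rw [hcpow, hg5]
    simp
  let σ : Equiv.Perm (Sylow 3 K) :=
    { toFun := fun P => c • P
      invFun := fun P => c⁻¹ • P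
      left_inv := fun P => inv_smul_smul c P
      right_inv := fun P => smul_inv_smul c P }
  have hσ : σ ^ 5 = 1 := by
    have hp : ∀ n : ℕ, ∀ P, (σ ^ n) P = c ^ n • P := by
      intro n
      induction n with
      | zero => intro P; simp
      | succ n ih => intro P; rw [pow_succ', Equiv.Perm.mul_apply, ih, pow_succ', mul_smul]; rfl
    ext1 P
    rw [hp, hc5, one_smul, Equiv.Perm.one_apply]
  have hS5 : ¬ 5 ∣ Nat.card (Sylow 3 K) := fun h => by
    obtain ⟨P⟩ := (inferInstance : Nonempty (Sylow 3 K))
    exact h5 (h.trans (P.card_dvd_index.trans (Subgroup.index_dvd_card _)))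
  obtain ⟨⟨P, hP⟩⟩ : Nonempty {P : Sylow 3 K // σ P = P} := by
    by_contra h
    rw [not_nonempty_iff] at h
    have := card_mod_five σ hσ
    rw [Nat.card_of_isEmpty (α := {P : Sylow 3 K // σ P = P})] at this
    exact hS5 (Nat.dvd_of_mod_eq_zero (by simpa using this))
  have hPinv : ∀ k : K, k ∈ (P : Subgroup K) → c k ∈ (P : Subgroup K) := by
    intro k hk
    have h1 : c k ∈ ((c • P : Sylow 3 K) : Subgroup K) := by
      rw [Sylow.pointwise_smul_def]
      exact ⟨k, hk, rfl⟩
    rwa [show c • P = P from hP] at h1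
  have hd := Subgroup.card_subgroup_dvd_card ((P : Subgroup K).map K.subtype)
  rw [Subgroup.card_map_of_injective K.subtype_injective, F.card] at hd
  obtain ⟨n, hn⟩ := P.2.exists_card_eq
  have hn1 : 1 ≤ n := by
    by_contra h
    have h0 : n = 0 := by omega
    have hi : (P : Subgroup K).index = Nat.card K := by
      have := (P : Subgroup K).index_mul_card
      rwa [hn, h0, pow_zero, mul_one] at this
    exact P.not_dvd_index (hi ▸ h3)
  have hn2 : n ≤ 2 := by
    rw [hn] at hd
    by_contra h
    have h27 : 3 ^ 3 ∣ 443520 := (pow_dvd_pow 3 (by omega : 3 ≤ n)).trans hd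
    norm_num at h27
  let τ : Equiv.Perm (P : Subgroup K) := Equiv.ofBijective (fun k => ⟨c k, hPinv k k.2⟩)
    ((Finite.injective_iff_bijective).mp fun a b h => Subtype.ext (c.injective (congrArg Subtype.val h)))
  have hτ : τ ^ 5 = 1 := by
    have hp : ∀ n : ℕ, ∀ k, (((τ ^ n) k : (P : Subgroup K)) : K) = (c ^ n) k := by
      intro n
      induction n with
      | zero => intro k; simp
      | succ n ih =>
        intro k
        rw [pow_succ', Equiv.Perm.mul_apply, pow_succ', MulAut.mul_apply]
        show c (((τ ^ n) k : (P : Subgroup K)) : K) = _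
        rw [ih]
    ext1 k
    refine Subtype.ext ?_
    rw [hp, hc5]
    rfl
  have hmod := card_mod_five τ hτ
  rw [hn] at hmod
  obtain ⟨⟨k, hk⟩, hk1⟩ : ∃ k : {k : (P : Subgroup K) // τ k = k}, ((k.1 : K) : G) ≠ 1 := by
    by_contra h
    push Not at h
    have hs : Nat.card {k : (P : Subgroup K) // τ k = k} = 1 := Nat.card_eq_one_iff_unique.mpr
      ⟨⟨fun a b => Subtype.ext (Subtype.ext (Subtype.ext ((h a).trans (h b).symm)))⟩,
        ⟨⟨1, Subtype.ext (map_one c)⟩⟩⟩
    rw [hs] at hmod
    interval_cases n <;> omega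
  refine hk1 (not_sixteen F hg ?_ ?_)
  · have e : g * ((k : K) : G) * g⁻¹ = ((k : K) : G) :=
      congrArg (fun z : (P : Subgroup K) => ((z : K) : G)) hk
    exact (mul_inv_eq_iff_eq_mul.mp e).symm
  · intro h5k
    have h1 : orderOf ((k : K) : G) ∣ 3 ^ n := by
      rw [← hn, Subgroup.orderOf_coe, Subgroup.orderOf_coe]
      exact orderOf_dvd_natCard k
    exact absurd (h5k.trans h1) (by interval_cases n <;> norm_num)

end CfsgLib.M22Order
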