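import Cfsg.Agent.Lib.M22Order.Pieces
import Cfsg.Agent.Lib.Steiner.SRGSeventySeven

/-!
# Simple groups of order 443520: the strongly regular graph on the 77 blocks
-/

set_option autoImplicit false
set_option linter.unusedSectionVars false
set_option linter.style.haveILetI false

namespace CfsgLib.M22Order

open Cfsg CfsgLib

universe u

variable {G : Type u} [Group G] [Finite G]

/-- An element of order five stabilising four points fixes one of them. -/
theorem five_fixed {α : Type*} [MulAction G α] {h : G} (h5 : h ^ 5 = 1) {s : Set α} (hs : s.ncard = 4)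
    (hinv : ∀ a ∈ s, h • a ∈ s) : ∃ a ∈ s, h • a = a := by
  classical
  haveI : Finite s := Set.finite_of_ncard_ne_zero (by omega)
  let f : s → s := fun a => ⟨h • (a : α), hinv a a.2⟩
  have hf : Function.Injective f := fun a b he =>
    Subtype.ext (smul_left_cancel h (congrArg Subtype.val he))
  let σ : Equiv.Perm s := Equiv.ofBijective f (Finite.injective_iff_bijective.mp hf)
  have hp : ∀ (n : ℕ) (a : s), (((σ ^ n) a : s) : α) = h ^ n • (a : α) := by
    intro n
    induction n with
    | zero => intro a; simp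
    | succ n ih =>
      intro a
      rw [pow_succ', Equiv.Perm.mul_apply]
      show h • (((σ ^ n) a : s) : α) = _
      rw [ih, pow_succ', mul_smul]
  have hm := card_mod_five σ (Equiv.ext fun a => Subtype.ext (by rw [hp, h5]; simp))
  rw [Nat.card_coe_set_eq, hs] at hm
  obtain ⟨⟨a, ha⟩⟩ : Nonempty {a : s // σ a = a} :=
    (Nat.card_pos_iff.mp (show 0 < Nat.card {a : s // σ a = a} by omega)).1
  exact ⟨a, a.2, congrArg Subtype.val ha⟩

/-- A common orbit size divides the size of an invariant set. -/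
theorem dvd_ncard_of_stab {α : Type*} [MulAction G α] [Finite α] (H : Subgroup G) (S : Set α) (n : ℕ)
    (hS : ∀ h ∈ H, ∀ q ∈ S, h • q ∈ S)
    (hk : ∀ q ∈ S, n * Nat.card ↥(H ⊓ MulAction.stabilizer G q) = Nat.card H) : n ∣ S.ncard := by
  classical
  letI : MulAction H S :=
    { smul := fun h q => ⟨(h : G) • (q : α), hS h h.2 q q.2⟩
      one_smul := fun q => Subtype.ext (one_smul G (q : α))
      mul_smul := fun h h' q => Subtype.ext (mul_smul (h : G) (h' : G) (q : α)) }
  have horb : ∀ q : S, Nat.card (MulAction.orbit H q) = n := fun q => by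
    have e := Nat.card_congr (MulAction.orbitProdStabilizerEquivGroup H q)
    rw [Nat.card_prod] at e
    have hst : Nat.card (MulAction.stabilizer H q) = Nat.card ↥(H ⊓ MulAction.stabilizer G (q : α)) :=
      Nat.card_congr
        { toFun := fun h => ⟨(h.1 : G), h.1.2, congrArg Subtype.val h.2⟩
          invFun := fun g => ⟨⟨g.1, g.2.1⟩, Subtype.ext g.2.2⟩
          left_inv := fun _ => rfl
          right_inv := fun _ => rfl }
    rw [hst, ← hk q q.2] at e
    exact Nat.eq_of_mul_eq_mul_right Nat.card_pos e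
  rw [← Nat.card_coe_set_eq, Nat.card_congr (MulAction.selfEquivSigmaOrbits H S)]
  letI : Fintype (MulAction.orbitRel.Quotient H S) := Fintype.ofFinite _
  rw [Nat.card_sigma]
  exact Finset.dvd_sum fun w _ => by rw [horb]

variable (E : Subgroup G)

/-- The conjugate of the block at a point. -/
noncomputable def blk (p : G ⧸ Subgroup.normalizer (E : Set G)) : Subgroup G :=
  E.map (MulAut.conj (Quotient.out p)).toMonoidHom

theorem mem_blk {g a : G} : a ∈ blk E (g : G ⧸ Subgroup.normalizer (E : Set G)) ↔ g⁻¹ * a * g ∈ E := by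
  obtain ⟨m, hm⟩ := QuotientGroup.mk_out_eq_mul (Subgroup.normalizer (E : Set G)) g
  rw [blk, hm]
  constructor
  · rintro ⟨e, he, rfl⟩
    show g⁻¹ * (g * (m : G) * e * (g * (m : G))⁻¹) * g ∈ E
    rw [show g⁻¹ * (g * (m : G) * e * (g * (m : G))⁻¹) * g = (m : G) * e * (m : G)⁻¹ by group]
    exact norm_conj m.2 he
  · intro h
    refine ⟨(m : G)⁻¹ * (g⁻¹ * a * g) * m, conj_mem_inv (fun k hk => norm_conj m.2 hk) h, ?_⟩
    show g * (m : G) * ((m : G)⁻¹ * (g⁻¹ * a * g) * m) * (g * (m : G))⁻¹ = a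
    group

theorem mem_blk_one {a : G} : a ∈ blk E ((1 : G) : G ⧸ Subgroup.normalizer (E : Set G)) ↔ a ∈ E := by
  rw [mem_blk, inv_one, one_mul, mul_one]

theorem mem_blk_smul {g a : G} {p : G ⧸ Subgroup.normalizer (E : Set G)} :
    a ∈ blk E (g • p) ↔ g⁻¹ * a * g ∈ blk E p := by
  induction p using QuotientGroup.induction_on with
  | H k =>
    show a ∈ blk E ((g * k : G) : G ⧸ Subgroup.normalizer (E : Set G)) ↔ _
    rw [mem_blk, mem_blk, show (g * k)⁻¹ * a * (g * k) = k⁻¹ * (g⁻¹ * a * g) * k by group]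

theorem conj_mem_blk {g a : G} {p : G ⧸ Subgroup.normalizer (E : Set G)} (h : g • p = p) (ha : a ∈ blk E p) :
    g * a * g⁻¹ ∈ blk E p := by
  rw [← h, mem_blk_smul]
  rwa [show g⁻¹ * (g * a * g⁻¹) * g = a by group]

theorem stab_one {a : G} :
    a • ((1 : G) : G ⧸ Subgroup.normalizer (E : Set G)) = ((1 : G) : G ⧸ Subgroup.normalizer (E : Set G)) ↔
      a ∈ Subgroup.normalizer (E : Set G) := by
  show ((a * 1 : G) : G ⧸ Subgroup.normalizer (E : Set G)) = _ ↔ _
  rw [mul_one, QuotientGroup.eq, mul_one, inv_mem_iff]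

/-- Members of the block at the first point fixing the second. -/
noncomputable def fixPair (p q : G ⧸ Subgroup.normalizer (E : Set G)) : Subgroup G :=
  blk E p ⊓ MulAction.stabilizer G q

/-- The adjacency: the block of the first point moves the second point without fixed elements. -/
def adjB (p q : G ⧸ Subgroup.normalizer (E : Set G)) : Prop := p ≠ q ∧ fixPair E p q = ⊥

theorem card_fixPair_smul (g : G) (p q : G ⧸ Subgroup.normalizer (E : Set G)) :
    Nat.card (fixPair E (g • p) (g • q)) = Nat.card (fixPair E p q) := by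
  refine (Nat.card_congr (Equiv.ofBijective
    (fun a : fixPair E p q => (⟨g * a * g⁻¹, (mem_blk_smul E).mpr ?_, ?_⟩ : fixPair E (g • p) (g • q))) ⟨?_, ?_⟩)).symm
  · rw [show g⁻¹ * (g * (a : G) * g⁻¹) * g = a by group]; exact a.2.1
  · show (g * (a : G) * g⁻¹) • g • q = g • q
    rw [← mul_smul, inv_mul_cancel_right, mul_smul, show (a : G) • q = q from a.2.2]
  · exact fun a b h => Subtype.ext (mul_left_cancel (mul_right_cancel (congrArg Subtype.val h)))
  · rintro ⟨b, hb, hb'⟩
    refine ⟨⟨g⁻¹ * b * g, (mem_blk_smul E).mp hb, ?_⟩, Subtype.ext (by show g * (g⁻¹ * b * g) * g⁻¹ = b; group)⟩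
    show (g⁻¹ * b * g) • q = q
    rw [mul_smul, mul_smul, show b • g • q = g • q from hb', inv_smul_smul]

theorem adjB_smul (g : G) (p q : G ⧸ Subgroup.normalizer (E : Set G)) : adjB E (g • p) (g • q) ↔ adjB E p q := by
  unfold adjB
  rw [ne_eq, smul_left_cancel_iff, ← Subgroup.card_eq_one, card_fixPair_smul, Subgroup.card_eq_one]

variable {E}

theorem Block.uniq (hB : Block E) {a : G} {p q : G ⧸ Subgroup.normalizer (E : Set G)} (hp : a ∈ blk E p)
    (hq : a ∈ blk E q) (ha : a ≠ 1) : p = q := by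
  induction p using QuotientGroup.induction_on with
  | H g =>
  induction q using QuotientGroup.induction_on with
  | H h =>
    rw [mem_blk] at hp hq
    have hs1 : g⁻¹ * a * g ≠ 1 := fun e => ha (by rw [show a = g * (g⁻¹ * a * g) * g⁻¹ by group, e]; group)
    have hs1' : h⁻¹ * a * h ≠ 1 := fun e => ha (by rw [show a = h * (h⁻¹ * a * h) * h⁻¹ by group, e]; group)
    obtain ⟨m, hm, he⟩ := hB.trans _ hp hs1 _ hq hs1'
    have hc : g⁻¹ * h * m ∈ Subgroup.normalizer (E : Set G) := hB.cen_le _ hp hs1 (mem_cen.mpr (by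
      calc g⁻¹ * h * m * (g⁻¹ * a * g) = g⁻¹ * h * (m * (g⁻¹ * a * g) * m⁻¹) * m := by group
        _ = g⁻¹ * a * g * (g⁻¹ * h * m) := by rw [he]; group))
    refine QuotientGroup.eq.mpr ?_
    have := Subgroup.mul_mem _ hc (Subgroup.inv_mem _ hm)
    rwa [mul_inv_cancel_right] at this

variable (F : Facts G) (hB : Block E)
include F hB

local notation "P77" => G ⧸ Subgroup.normalizer (E : Set G)
local notation "M77" => Subgroup.normalizer (E : Set G)
local notation "o77" => (QuotientGroup.mk (1 : G) : G ⧸ Subgroup.normalizer (E : Set G))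

theorem card_points : Nat.card P77 = 77 := hB.index_norm F

theorem fix_ge_one {a : G} {p : P77} (ha : a ∈ fixPair E p o77) (ha1 : a ≠ 1) :
    4 ≤ Nat.card (fixPair E o77 p) := by
  have haM := (stab_one E).mp ha.2
  have hsq : a * a = 1 := by
    obtain ⟨g, rfl⟩ := QuotientGroup.mk_surjective p
    have := hB.sq _ ((mem_blk E).mp ha.1)
    rw [show g⁻¹ * a * g * (g⁻¹ * a * g) = g⁻¹ * (a * a) * g by group] at this
    calc a * a = g * (g⁻¹ * (a * a) * g) * g⁻¹ := by group
      _ = 1 := by rw [this]; group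
  refine (hB.fix_four hsq fun e he => norm_conj haM he).trans (Subgroup.card_le_of_le fun e he => ?_)
  refine ⟨(mem_blk_one E).mpr he.1, ?_⟩
  -- the centraliser of a fixes the point of a
  obtain ⟨g, rfl⟩ := QuotientGroup.mk_surjective p
  have hs := (mem_blk E).mp ha.1
  have hs1 : g⁻¹ * a * g ≠ 1 := fun h => ha1 (by rw [show a = g * (g⁻¹ * a * g) * g⁻¹ by group, h]; group)
  have hmem : g⁻¹ * e * g ∈ Subgroup.normalizer (E : Set G) := hB.cen_le _ hs hs1 (mem_cen.mpr (by
    rw [show g⁻¹ * e * g * (g⁻¹ * a * g) = g⁻¹ * (e * a) * g by group, mem_cen.mp he.2]; group))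
  show ((e * g : G) : P77) = (g : P77)
  refine QuotientGroup.eq.mpr ?_
  rw [show (e * g)⁻¹ * g = (g⁻¹ * e * g)⁻¹ by group]
  exact inv_mem hmem

theorem fix_ge {a : G} {p q : P77} (ha : a ∈ fixPair E p q) (ha1 : a ≠ 1) : 4 ≤ Nat.card (fixPair E q p) := by
  obtain ⟨g, rfl⟩ := QuotientGroup.mk_surjective q
  have hg : g • o77 = (g : P77) := congrArg QuotientGroup.mk (mul_one g)
  have hne : fixPair E (g⁻¹ • p) o77 ≠ ⊥ := fun h => ha1 (by
    have h1 := card_fixPair_smul E g (g⁻¹ • p) o77
    rw [smul_inv_smul, hg, h, Subgroup.card_bot, Subgroup.card_eq_one] at h1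
    exact Subgroup.mem_bot.mp (h1 ▸ ha))
  obtain ⟨b, hb⟩ := (Subgroup.ne_bot_iff_exists_ne_one).mp hne
  have hb1 : (b : G) ≠ 1 := fun e => hb (Subtype.ext e)
  have hb : (b : G) ∈ fixPair E (g⁻¹ • p) o77 := b.2
  have := fix_ge_one F hB hb hb1
  rwa [← card_fixPair_smul E g, hg, smul_inv_smul] at this

theorem adjB_symm {p q : P77} (h : adjB E p q) : adjB E q p := by
  refine ⟨h.1.symm, (Subgroup.eq_bot_iff_forall _).mpr fun a ha => ?_⟩
  by_contra ha1
  have := fix_ge F hB ha ha1
  rw [h.2, Subgroup.card_bot] at this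
  omega

theorem card_fix_le {q : P77} (hq : q ≠ o77) : Nat.card (fixPair E o77 q) ≤ 4 := by
  classical
  haveI : Fact (Nat.Prime 2) := ⟨Nat.prime_two⟩
  by_contra hlt
  push Not at hlt
  obtain ⟨g, rfl⟩ := QuotientGroup.mk_surjective q
  have hd : Nat.card (fixPair E o77 (g : P77)) ∣ 16 := by
    have := Subgroup.card_dvd_of_le (show fixPair E o77 (g : P77) ≤ E from fun a ha => (mem_blk_one E).mp ha.1)
    rwa [hB.card] at this
  have h8 : 2 ^ 3 ∣ Nat.card (fixPair E o77 (g : P77)) := by
    obtain ⟨k, hk, hk'⟩ := (Nat.dvd_prime_pow Nat.prime_two (m := 4)).mp hd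
    rw [hk'] at hlt ⊢
    refine pow_dvd_pow 2 ?_
    by_contra h3
    have := Nat.pow_le_pow_right (show 0 < 2 by norm_num) (show k ≤ 2 by omega)
    omega
  obtain ⟨K, hK⟩ := Sylow.exists_subgroup_card_pow_prime 2 h8
  set D0 := K.map (fixPair E o77 (g : P77)).subtype with hD0
  have hD0c : Nat.card D0 = 8 := by
    rw [hD0, Subgroup.card_map_of_injective (Subgroup.subtype_injective _), hK]; norm_num
  have hD0le : D0 ≤ fixPair E o77 (g : P77) := Subgroup.map_subtype_le K
  set D := D0.map (MulAut.conj g⁻¹).toMonoidHom with hD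
  refine hB.small F D ?_ (by rw [hD, card_map_conj, hD0c]) ?_ ?_
  · rintro _ ⟨a, ha, rfl⟩
    show g⁻¹ * a * g⁻¹⁻¹ ∈ _
    have h2 : ((a * g : G) : P77) = (g : P77) := (hD0le ha).2
    have := inv_mem (QuotientGroup.eq.mp h2)
    rw [show ((a * g)⁻¹ * g)⁻¹ = g⁻¹ * a * g⁻¹⁻¹ by group] at this
    exact this
  · rintro _ ⟨a, ha, rfl⟩ _ ⟨b, hb, rfl⟩
    rw [← map_mul, ← map_mul, hB.comm ((mem_blk_one E).mp (hD0le ha).1) ((mem_blk_one E).mp (hD0le hb).1)]
  · refine (Subgroup.eq_bot_iff_forall _).mpr ?_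
    rintro d ⟨⟨a, ha, rfl⟩, hd'⟩
    by_contra hd1
    refine hq (hB.uniq ((mem_blk E).mpr ?_) (hD0le ha).1 fun e => hd1 (by rw [e, map_one]))
    simpa using hd'

theorem fixPair_cases {q : P77} (hq : q ≠ o77) :
    fixPair E o77 q = ⊥ ∨ Nat.card (fixPair E o77 q) = 4 := by
  by_cases h : fixPair E o77 q = ⊥
  · exact Or.inl h
  · right
    obtain ⟨a', ha'⟩ := (Subgroup.ne_bot_iff_exists_ne_one).mp h
    obtain ⟨a, ha, ha1⟩ : ∃ a ∈ fixPair E o77 q, a ≠ 1 := ⟨a', a'.2, fun e => ha' (Subtype.ext e)⟩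
    have h2 := fix_ge F hB ha ha1
    obtain ⟨b, hb, hb1⟩ : ∃ b ∈ fixPair E q o77, b ≠ 1 := by
      by_contra hh; push Not at hh
      rw [(Subgroup.eq_bot_iff_forall _).mpr hh, Subgroup.card_bot] at h2
      omega
    have h3 := fix_ge F hB hb hb1
    have h4 := card_fix_le F hB hq
    omega

theorem inf_stab_eq (q : P77) : E ⊓ MulAction.stabilizer G q = fixPair E o77 q := by
  ext a
  exact ⟨fun h => ⟨(mem_blk_one E).mpr h.1, h.2⟩, fun h => ⟨(mem_blk_one E).mp h.1, h.2⟩⟩

theorem blk_fix {e : G} (he : e ∈ E) : e • o77 = o77 := (stab_one E).mpr (Subgroup.le_normalizer he)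

theorem exists_five : ∃ g : G, orderOf g = 5 ∧ g ∈ Subgroup.normalizer (E : Set G) := by
  haveI : Fact (Nat.Prime 5) := ⟨by norm_num⟩
  obtain ⟨g, hg⟩ := exists_prime_orderOf_dvd_card' (G := Subgroup.normalizer (E : Set G)) 5
    (by rw [hB.card_norm]; norm_num)
  exact ⟨g, by rw [Subgroup.orderOf_coe]; exact hg, g.2⟩

theorem five_no_fix {g : G} (hg : orderOf g = 5) (hgM : g ∈ Subgroup.normalizer (E : Set G)) {q : P77}
    (hq : Nat.card (fixPair E o77 q) = 4) : g • q ≠ q := by
  intro he
  obtain ⟨u, hu, hu1⟩ : ∃ u ∈ fixPair E o77 q, u ≠ 1 := by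
    by_contra hh; push Not at hh
    rw [(Subgroup.eq_bot_iff_forall _).mpr hh, Subgroup.card_bot] at hq
    omega
  have hc := five_fix_four (h := g) (by rw [← hg, pow_orderOf_eq_one]) hq (fun k hk =>
    ⟨conj_mem_blk E ((stab_one E).mpr hgM) hk.1, by
      show (g * k * g⁻¹) • q = q
      rw [mul_smul, mul_smul, inv_smul_eq_iff.mpr he.symm, show k • q = q from hk.2, he]⟩) hu
  refine hu1 (not_sixteen F hg hc ?_)
  rw [hB.order_two ((mem_blk_one E).mp hu.1) hu1]
  norm_num

theorem five_dvd {S : Set P77} (hS : ∀ m ∈ Subgroup.normalizer (E : Set G), ∀ q ∈ S, m • q ∈ S)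
    (h4 : ∀ q ∈ S, Nat.card (fixPair E o77 q) = 4) : 5 ∣ S.ncard := by
  obtain ⟨g, hg, hgM⟩ := exists_five F hB
  refine dvd_ncard_of_stab (Subgroup.zpowers g) S 5 (fun h hh => hS h (Subgroup.zpowers_le.mpr hgM hh)) fun q hq => ?_
  have hb : Subgroup.zpowers g ⊓ MulAction.stabilizer G q = ⊥ := by
    refine (Subgroup.eq_bot_iff_forall _).mpr fun z hz => ?_
    by_contra hz1
    have hzo : orderOf z = 5 := by
      rcases (Nat.dvd_prime (by norm_num)).mp
        (hg ▸ Nat.card_zpowers g ▸ Subgroup.orderOf_dvd_natCard _ hz.1) with h | h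
      · exact absurd (orderOf_eq_one_iff.mp h) hz1
      · exact h
    exact five_no_fix F hB hzo (Subgroup.zpowers_le.mpr hgM hz.1) (h4 q hq) hz.2
  rw [hb, Subgroup.card_bot, Nat.card_zpowers, hg]

theorem four_dvd {S : Set P77} (hS : ∀ m ∈ Subgroup.normalizer (E : Set G), ∀ q ∈ S, m • q ∈ S)
    (h4 : ∀ q ∈ S, Nat.card (fixPair E o77 q) = 4) : 4 ∣ S.ncard :=
  dvd_ncard_of_stab E S 4 (fun h hh => hS h (Subgroup.le_normalizer hh))
    fun q hq => by rw [inf_stab_eq F hB, h4 q hq, hB.card]

/-- No invariant set of twenty points meeting blocks in fours. -/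
theorem no_twenty {S : Set P77} (hS : ∀ m ∈ Subgroup.normalizer (E : Set G), ∀ q ∈ S, m • q ∈ S)
    (h4 : ∀ q ∈ S, Nat.card (fixPair E o77 q) = 4) : S.ncard ≠ 20 := by
  classical
  intro h20
  let orb : P77 → Set P77 := fun q => Set.range fun e : E => (e : G) • q
  have horb4 : ∀ q ∈ S, (orb q).ncard = 4 := by
    intro q hq
    have e := Nat.card_congr (MulAction.orbitProdStabilizerEquivGroup E q)
    have hst : Nat.card (MulAction.stabilizer E q) = 4 := by
      rw [← h4 q hq, ← inf_stab_eq F hB q]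
      exact Nat.card_congr
        { toFun := fun h => ⟨(h.1 : G), h.1.2, h.2⟩
          invFun := fun g => ⟨⟨g.1, g.2.1⟩, g.2.2⟩
          left_inv := fun _ => rfl
          right_inv := fun _ => rfl }
    rw [Nat.card_prod, hst, hB.card, Nat.card_coe_set_eq] at e
    have he : (orb q).ncard = (MulAction.orbit E q).ncard := rfl
    omega
  have horbS : ∀ q ∈ S, orb q ⊆ S := by
    rintro q hq _ ⟨e, rfl⟩; exact hS e (Subgroup.le_normalizer e.2) q hq
  have horbEq : ∀ q r : P77, r ∈ orb q → orb r = orb q := fun q r hr =>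
    MulAction.orbit_eq_iff.mpr (show r ∈ MulAction.orbit E q from hr)
  let T := {s : Set P77 // ∃ q ∈ S, s = orb q}
  have himg : ∀ (m : M77) (q : P77), (fun r => (m : G) • r) '' orb q = orb ((m : G) • q) := by
    intro m q
    ext r
    constructor
    · rintro ⟨_, ⟨e, rfl⟩, rfl⟩
      refine ⟨⟨(m : G) * e * (m : G)⁻¹, norm_conj m.2 e.2⟩, ?_⟩
      show ((m : G) * e * (m : G)⁻¹) • (m : G) • q = (m : G) • (e : G) • q
      rw [← mul_smul, inv_mul_cancel_right, mul_smul]
    · rintro ⟨e, rfl⟩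
      refine ⟨((m : G)⁻¹ * e * m) • q, ⟨⟨(m : G)⁻¹ * e * m, conj_mem_inv (fun k hk => norm_conj m.2 hk) e.2⟩, rfl⟩, ?_⟩
      show (m : G) • ((m : G)⁻¹ * e * m) • q = (e : G) • (m : G) • q
      rw [← mul_smul, ← mul_smul]; group
  letI : MulAction M77 T :=
    { smul := fun m s => ⟨(fun r => (m : G) • r) '' s.1, by
        obtain ⟨q, hq, e⟩ := s.2
        exact ⟨(m : G) • q, hS m m.2 q hq, by rw [e, himg]⟩⟩
      one_smul := fun s => Subtype.ext (by
        show (fun r => (1 : G) • r) '' s.1 = s.1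
        simp)
      mul_smul := fun m m' s => Subtype.ext (by
        show (fun r => ((m : G) * m') • r) '' s.1 = (fun r => (m : G) • r) '' ((fun r => (m' : G) • r) '' s.1)
        rw [Set.image_image]
        simp only [mul_smul]) }
  have hT5 : Nat.card T = 5 := by
    let π : S → T := fun q => ⟨orb q, q, q.2, rfl⟩
    have hfib : ∀ s : T, Nat.card {q : S // π q = s} = 4 := by
      intro s
      obtain ⟨q₀, hq₀, e⟩ := s.2
      rw [← horb4 q₀ hq₀, ← Nat.card_coe_set_eq]
      refine Nat.card_congr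
        { toFun := fun q => ⟨(q.1 : P77), ?_⟩
          invFun := fun r => ⟨⟨r.1, horbS q₀ hq₀ r.2⟩, Subtype.ext ((horbEq _ _ r.2).trans e.symm)⟩
          left_inv := fun _ => rfl
          right_inv := fun _ => rfl }
      rw [← e, ← show orb q.1 = s.1 from congrArg Subtype.val q.2]
      exact ⟨1, one_smul G _⟩
    have h := Nat.card_congr (Equiv.sigmaFiberEquiv π)
    letI : Fintype T := Fintype.ofFinite T
    rw [Nat.card_sigma, Finset.sum_congr rfl (fun s _ => hfib s), Finset.sum_const, Finset.card_univ,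
      smul_eq_mul, ← Nat.card_eq_fintype_card, Nat.card_coe_set_eq, h20] at h
    omega
  set φ := MulAction.toPermHom M77 T with hφ
  obtain ⟨g, hg, hgM⟩ := exists_five F hB
  set K := φ.ker.map (Subgroup.subtype M77) with hK
  haveI : Fact (Nat.Prime 5) := ⟨by norm_num⟩
  refine false_of_five F hg K ?_ ?_ ?_
  · rintro _ ⟨k, hk, rfl⟩
    exact ⟨(⟨g, hgM⟩ : M77) * k * (⟨g, hgM⟩ : M77)⁻¹, φ.normal_ker.conj_mem k hk _, rfl⟩
  · rw [hK, Subgroup.card_map_of_injective (Subgroup.subtype_injective _)]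
    have h1 := φ.ker.index_mul_card
    rw [Subgroup.index_ker, hB.card_norm] at h1
    have h2 : Nat.card φ.range ∣ 120 := by
      have := Subgroup.card_subgroup_dvd_card φ.range
      rwa [Nat.card_perm, hT5, show Nat.factorial 5 = 120 from rfl] at this
    have h3 : 5760 ∣ 120 * Nat.card φ.ker := h1 ▸ Nat.mul_dvd_mul_right h2 _
    rw [show (5760 : ℕ) = 120 * 48 by norm_num] at h3
    exact (show (3 : ℕ) ∣ 48 by norm_num).trans (Nat.dvd_of_mul_dvd_mul_left (by norm_num) h3)
  · intro h5
    rw [hK, Subgroup.card_map_of_injective (Subgroup.subtype_injective _)] at h5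
    obtain ⟨h, hh⟩ := exists_prime_orderOf_dvd_card' (G := φ.ker) 5 h5
    have ho : orderOf ((h : M77) : G) = 5 := by rw [Subgroup.orderOf_coe, Subgroup.orderOf_coe]; exact hh
    obtain ⟨q, hq⟩ := (Set.ncard_pos (Set.toFinite S)).mp (by omega)
    have hfix : (h : M77) • (⟨orb q, q, hq, rfl⟩ : T) = ⟨orb q, q, hq, rfl⟩ :=
      DFunLike.congr_fun (MonoidHom.mem_ker.mp h.2) _
    obtain ⟨a, ha, hfa⟩ := five_fixed (h := ((h : M77) : G)) (by rw [← ho, pow_orderOf_eq_one]) (horb4 q hq)
      (fun a ha => (congrArg Subtype.val hfix).le ⟨a, ha, rfl⟩)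
    exact five_no_fix F hB ho (h : M77).2 (h4 a (horbS q hq ha)) hfa

theorem mem_set_smul {m : G} (hm : m ∈ Subgroup.normalizer (E : Set G)) (q : P77) :
    (adjB E o77 (m • q) ↔ adjB E o77 q) ∧
      Nat.card (fixPair E o77 (m • q)) = Nat.card (fixPair E o77 q) := by
  have hmo : m • o77 = o77 := (stab_one E).mpr hm
  constructor
  · conv_lhs => rw [← hmo]
    exact adjB_smul E m o77 q
  · conv_lhs => rw [← hmo]
    exact card_fixPair_smul E m o77 q

/-- The neighbours of the base point number sixteen and the others are one orbit of sixty. -/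
theorem counts : {q : P77 | adjB E o77 q}.ncard = 16 ∧
    {q : P77 | q ≠ o77 ∧ ¬ adjB E o77 q}.ncard = 60 := by
  classical
  set N1 := {q : P77 | adjB E o77 q} with hN1
  set N4 := {q : P77 | q ≠ o77 ∧ ¬ adjB E o77 q} with hN4
  have h4 : ∀ q ∈ N4, Nat.card (fixPair E o77 q) = 4 := fun q hq =>
    (fixPair_cases F hB hq.1).resolve_left fun h => hq.2 ⟨hq.1.symm, h⟩
  have hinv : ∀ m ∈ Subgroup.normalizer (E : Set G), ∀ q ∈ N4, m • q ∈ N4 := fun m hm q hq =>
    ⟨fun e => hq.1 (smul_left_cancel m (e.trans ((stab_one E).mpr hm).symm)),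
      fun h => hq.2 ((mem_set_smul F hB hm q).1.mp h)⟩
  have h16 : 16 ∣ N1.ncard := dvd_ncard_of_stab E N1 16
    (fun e he q hq => (mem_set_smul F hB (Subgroup.le_normalizer he) q).1.mpr hq)
    fun q hq => by rw [inf_stab_eq F hB, hq.2, Subgroup.card_bot, hB.card]
  have h5 := five_dvd F hB hinv h4
  have h4' := four_dvd F hB hinv h4
  have hsum : N1.ncard + N4.ncard = 76 := by
    have hdis : Disjoint N1 N4 := Set.disjoint_left.mpr fun q h h' => h'.2 h
    have hun : N1 ∪ N4 = ({o77} : Set P77)ᶜ := by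
      ext q
      constructor
      · rintro (h | h)
        · exact fun e => h.1 (Set.mem_singleton_iff.mp e).symm
        · exact fun e => h.1 e
      · intro h
        by_cases hR : adjB E o77 q
        · exact Or.inl hR
        · exact Or.inr ⟨h, hR⟩
    rw [← Set.ncard_union_eq hdis, hun, Set.ncard_compl, Set.ncard_singleton, card_points F hB]
  omega

theorem trans_far {q r : P77} (hq : q ≠ o77) (hq' : ¬ adjB E o77 q) (hr : r ≠ o77) (hr' : ¬ adjB E o77 r) :
    ∃ m ∈ Subgroup.normalizer (E : Set G), m • q = r := by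
  classical
  set N4 := {q : P77 | q ≠ o77 ∧ ¬ adjB E o77 q} with hN4
  have h4 : ∀ q ∈ N4, Nat.card (fixPair E o77 q) = 4 := fun q hq =>
    (fixPair_cases F hB hq.1).resolve_left fun h => hq.2 ⟨hq.1.symm, h⟩
  have hinv : ∀ m ∈ M77, ∀ q ∈ N4, m • q ∈ N4 := fun m hm q hq =>
    ⟨fun e => hq.1 (smul_left_cancel m (e.trans ((stab_one E).mpr hm).symm)),
      fun h => hq.2 ((mem_set_smul F hB hm q).1.mp h)⟩
  let orbM : P77 → Set P77 := fun a => Set.range fun m : M77 => (m : G) • a
  have hsub : ∀ a ∈ N4, orbM a ⊆ N4 := by rintro a ha _ ⟨m, rfl⟩; exact hinv m m.2 a ha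
  have hoi : ∀ a, ∀ m ∈ M77, ∀ b ∈ orbM a, m • b ∈ orbM a := by
    rintro a m hm _ ⟨m', rfl⟩; exact ⟨⟨m, hm⟩ * m', mul_smul m (m' : G) a⟩
  have hsz : ∀ a ∈ N4, (orbM a).ncard = 40 ∨ (orbM a).ncard = 60 := by
    intro a ha
    have h5 := five_dvd F hB (hoi a) fun b hb => h4 b (hsub a ha hb)
    have h4' := four_dvd F hB (hoi a) fun b hb => h4 b (hsub a ha hb)
    have h20 := no_twenty F hB (hoi a) fun b hb => h4 b (hsub a ha hb)
    have hle := (Set.ncard_le_ncard (hsub a ha) (Set.toFinite _)).trans_eq (counts F hB).2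
    have hpos : 0 < (orbM a).ncard := (Set.ncard_pos (Set.toFinite _)).mpr ⟨a, 1, one_smul G a⟩
    omega
  have hqN : q ∈ N4 := ⟨hq, hq'⟩
  have hall : orbM q = N4 := by
    refine Set.eq_of_subset_of_ncard_le (hsub q hqN) ?_ (Set.toFinite _)
    rw [(counts F hB).2]
    rcases hsz q hqN with h | h
    · exfalso
      refine no_twenty F hB (S := N4 \ orbM q) (fun m hm b hb => ⟨hinv m hm b hb.1, fun h' => hb.2 ?_⟩)
        (fun b hb => h4 b hb.1) ?_
      · have := hoi q m⁻¹ (inv_mem hm) _ h'
        rwa [inv_smul_smul] at this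
      · rw [Set.ncard_sdiff (hsub q hqN), (counts F hB).2, h]
    · rw [h]
  obtain ⟨m, hm⟩ := hall.ge ⟨hr, hr'⟩
  exact ⟨m, m.2, hm⟩

theorem degree (p : P77) : {q : P77 | adjB E p q}.ncard = 16 := by
  obtain ⟨g, rfl⟩ := QuotientGroup.mk_surjective p
  have hg : g • o77 = (g : P77) := congrArg QuotientGroup.mk (mul_one g)
  rw [← (counts F hB).1]
  have : {q : P77 | adjB E (g : P77) q} = (fun q => g • q) '' {q : P77 | adjB E o77 q} := by
    ext q
    constructor
    · intro h
      refine ⟨g⁻¹ • q, ?_, smul_inv_smul g q⟩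
      have h' := (adjB_smul E g⁻¹ _ _).mpr h
      rwa [← hg, inv_smul_smul] at h'
    · rintro ⟨r, hr, rfl⟩
      show adjB E (g : P77) (g • r)
      rw [← hg]
      exact (adjB_smul E g _ _).mpr hr
  rw [this, Set.ncard_image_of_injective _ (MulAction.injective g)]

theorem no_triangle_one {q r : P77} (hq : adjB E o77 q) (hr : adjB E o77 r) : ¬ adjB E q r := by
  classical
  intro hqr
  set N1 := {q : P77 | adjB E o77 q} with hN1
  have horb : ∀ b ∈ N1, ∃ e ∈ E, b = e • q := by
    let O : Set P77 := Set.range fun e : E => (e : G) • q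
    have hO : O = N1 := by
      refine Set.eq_of_subset_of_ncard_le ?_ ?_ (Set.toFinite _)
      · rintro _ ⟨e, rfl⟩; exact (mem_set_smul F hB (Subgroup.le_normalizer e.2) q).1.mpr hq
      · rw [(counts F hB).1, ← hB.card, ← Nat.card_coe_set_eq]
        refine Nat.card_le_card_of_injective (fun e : E => (⟨(e : G) • q, e, rfl⟩ : O)) fun e e' h => ?_
        have h' : (e : G) • q = (e' : G) • q := congrArg Subtype.val h
        have hm : (e' : G)⁻¹ * e ∈ fixPair E o77 q := by
          refine ⟨(mem_blk_one E).mpr (mul_mem (inv_mem e'.2) e.2), ?_⟩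
          show ((e' : G)⁻¹ * e) • q = q
          rw [mul_smul, h', inv_smul_smul]
        rw [hq.2, Subgroup.mem_bot, inv_mul_eq_one] at hm
        exact Subtype.ext hm.symm
    intro b hb
    obtain ⟨e, he⟩ := hO.ge hb
    exact ⟨e, e.2, he.symm⟩
  -- every other neighbour of the base point is adjacent to q
  have hall : ∀ z ∈ N1, z ≠ q → adjB E q z := by
    intro z hz hzq
    obtain ⟨e, he, rfl⟩ := horb z hz
    obtain ⟨f, hf, hr'⟩ := horb r hr
    have he1 : e ≠ 1 := fun h => hzq (by rw [h, one_smul])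
    have hf1 : f ≠ 1 := fun h => hqr.1 (by rw [hr', h, one_smul])
    obtain ⟨m, hm, hme⟩ := hB.trans f hf hf1 e he he1
    obtain ⟨e₀, he₀, hmq⟩ := horb (m • q) ((mem_set_smul F hB hm q).1.mpr hq)
    set k := e₀⁻¹ * m with hk
    have hkq : k • q = q := by rw [hk, mul_smul, hmq, inv_smul_smul]
    have hkf : k * f * k⁻¹ = e := by
      calc k * f * k⁻¹ = e₀⁻¹ * (m * f * m⁻¹) * e₀ := by rw [hk]; group
        _ = e := by rw [hme, hB.inv_eq he₀, hB.comm he₀ he, mul_assoc, hB.sq e₀ he₀, mul_one]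
    have := (adjB_smul E k q r).mpr hqr
    rw [hkq, hr', ← mul_smul, show k * f = e * k by rw [← hkf, inv_mul_cancel_right], mul_smul, hkq] at this
    exact this
  -- hence the relation is transitive
  have hNq : {z : P77 | adjB E q z} = insert o77 (N1 \ {q}) := by
    refine (Set.eq_of_subset_of_ncard_le ?_ ?_ (Set.toFinite _)).symm
    · rintro z (rfl | hz)
      · exact adjB_symm F hB hq
      · exact hall z hz.1 hz.2
    · rw [degree F hB q, Set.ncard_insert_of_notMem (fun h => h.1.1 rfl) (Set.toFinite _),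
        Set.ncard_sdiff_singleton_of_mem (show q ∈ N1 from hq), (counts F hB).1]
  have hM1 : ∀ a : P77, adjB E o77 a → ∀ b : P77, adjB E a b → b ≠ o77 → adjB E o77 b := by
    intro a ha b hab hb
    obtain ⟨e, he, rfl⟩ := horb a ha
    have heo := blk_fix F hB he
    have h := (adjB_smul E e⁻¹ _ _).mpr hab
    rw [inv_smul_smul] at h
    have hmem : e⁻¹ • b ∈ insert o77 (N1 \ {q}) := hNq ▸ h
    rcases hmem with h0 | h0
    · exact absurd ((inv_smul_eq_iff.mp h0).trans heo) hb
    · exact (mem_set_smul F hB (inv_mem (Subgroup.le_normalizer he)) b).1.mp h0.1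
  have htr : ∀ a b c : P77, adjB E a b → adjB E b c → a ≠ c → adjB E a c := by
    intro a b c hab hbc hac
    obtain ⟨g, rfl⟩ := QuotientGroup.mk_surjective a
    have hg : g • o77 = (g : P77) := congrArg QuotientGroup.mk (mul_one g)
    rw [← hg, ← adjB_smul E g⁻¹, inv_smul_smul] at hab
    rw [← adjB_smul E g⁻¹] at hbc
    have h := hM1 _ hab _ hbc (fun e => hac (by rw [← hg, ← e, smul_inv_smul]))
    rw [← hg, ← adjB_smul E g⁻¹, inv_smul_smul]
    exact h
  let s : Setoid P77 :=
    { r := fun a b => a = b ∨ adjB E a b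
      iseqv :=
        { refl := fun a => Or.inl rfl
          symm := fun {a b} h => h.elim (fun e => Or.inl e.symm) fun h => Or.inr (adjB_symm F hB h)
          trans := fun {a b c} h h' => by
            rcases h with rfl | h
            · exact h'
            · rcases h' with rfl | h'
              · exact Or.inr h
              · by_cases hac : a = c
                · exact Or.inl hac
                · exact Or.inr (htr a b c h h' hac) } }
  have hcls : ∀ w : Quotient s, Nat.card {a : P77 // Quotient.mk s a = w} = 17 := by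
    intro w
    induction w using Quotient.inductionOn with
    | h a =>
      have e : {b : P77 | Quotient.mk s b = Quotient.mk s a} = insert a {b : P77 | adjB E a b} := by
        ext b
        constructor
        · intro h
          rcases (Quotient.exact h : b = a ∨ adjB E b a) with h' | h'
          · exact Or.inl h'
          · exact Or.inr (adjB_symm F hB h')
        · rintro (rfl | h)
          · rfl
          · exact Quotient.sound (Or.inr (adjB_symm F hB h))
      rw [show Nat.card {b : P77 // Quotient.mk s b = Quotient.mk s a} =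
          ({b : P77 | Quotient.mk s b = Quotient.mk s a}).ncard from Nat.card_coe_set_eq _, e,
        Set.ncard_insert_of_notMem (fun h => h.1 rfl) (Set.toFinite _), degree F hB a]
  have h := Nat.card_congr (Equiv.sigmaFiberEquiv (Quotient.mk s))
  letI : Fintype (Quotient s) := Fintype.ofFinite _
  rw [Nat.card_sigma, Finset.sum_congr rfl (fun w _ => hcls w), Finset.sum_const, Finset.card_univ, smul_eq_mul,
    card_points F hB] at h
  omega

theorem common_smul (g : G) (a b : P77) :
    {z : P77 | adjB E (g • a) z ∧ adjB E (g • b) z}.ncard = {z : P77 | adjB E a z ∧ adjB E b z}.ncard := by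
  rw [← Set.ncard_image_of_injective {z : P77 | adjB E a z ∧ adjB E b z} (MulAction.injective g)]
  congr 1
  ext z
  constructor
  · intro h
    refine ⟨g⁻¹ • z, ?_, smul_inv_smul g z⟩
    refine ⟨(adjB_smul E g _ _).mp ?_, (adjB_smul E g _ _).mp ?_⟩ <;> rw [smul_inv_smul]
    exacts [h.1, h.2]
  · rintro ⟨r, hr, rfl⟩
    exact ⟨(adjB_smul E g _ _).mpr hr.1, (adjB_smul E g _ _).mpr hr.2⟩

theorem common_far {q : P77} (hq : q ≠ o77) (hq' : ¬ adjB E o77 q) :
    {z : P77 | adjB E o77 z ∧ adjB E q z}.ncard = 4 := by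
  classical
  letI : Fintype P77 := Fintype.ofFinite _
  set c := {z : P77 | adjB E o77 z ∧ adjB E q z}.ncard with hc
  let A : Finset P77 := Finset.univ.filter fun z => adjB E o77 z
  let B : Finset P77 := Finset.univ.filter fun z => z ≠ o77 ∧ ¬ adjB E o77 z
  have h := Finset.sum_card_bipartiteAbove_eq_sum_card_bipartiteBelow (adjB E) (s := A) (t := B)
  have hl : ∀ z ∈ A, (B.bipartiteAbove (adjB E) z).card = 15 := by
    intro z hz
    have hz' : adjB E o77 z := (Finset.mem_filter.mp hz).2
    have e : ((B.bipartiteAbove (adjB E) z : Finset P77) : Set P77) = {w : P77 | adjB E z w} \ {o77} := by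
      ext w
      simp only [Finset.bipartiteAbove, B, Finset.coe_filter, Finset.mem_filter, Finset.mem_univ, true_and]
      constructor
      · exact fun h => ⟨h.2, h.1.1⟩
      · exact fun h => ⟨⟨h.2, fun h' => no_triangle_one F hB hz' h' h.1⟩, h.1⟩
    rw [← Set.ncard_coe_finset, e,
      Set.ncard_sdiff_singleton_of_mem (show o77 ∈ {w : P77 | adjB E z w} from adjB_symm F hB hz'),
      degree F hB z]
  have hr : ∀ w ∈ B, (A.bipartiteBelow (adjB E) w).card = c := by
    intro w hw
    have hw' := (Finset.mem_filter.mp hw).2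
    obtain ⟨m, hm, hmq⟩ := trans_far F hB hq hq' hw'.1 hw'.2
    have e : ((A.bipartiteBelow (adjB E) w : Finset P77) : Set P77) = {z : P77 | adjB E o77 z ∧ adjB E w z} := by
      ext z
      simp only [Finset.bipartiteBelow, A, Finset.coe_filter, Finset.mem_filter, Finset.mem_univ, true_and]
      exact and_congr_right fun _ => ⟨adjB_symm F hB, adjB_symm F hB⟩
    rw [← Set.ncard_coe_finset, e, ← hmq, hc, ← common_smul F hB m o77 q, (stab_one E).mpr hm]
  rw [Finset.sum_congr rfl hl, Finset.sum_congr rfl hr, Finset.sum_const, Finset.sum_const, smul_eq_mul,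
    smul_eq_mul] at h
  have hA : A.card = 16 := by
    rw [← (counts F hB).1, ← Set.ncard_coe_finset]; simp [A]
  have hBc : B.card = 60 := by
    rw [← (counts F hB).2, ← Set.ncard_coe_finset]; simp [B]
  rw [hA, hBc] at h
  omega

open CfsgLib.Steiner in
/-- A simple group of order 443520 acts faithfully on the model graph on 77 points. -/
theorem exists_model [IsSimpleGroup G] : ∃ f : G →* Equiv.Perm (Fin 77), Function.Injective f ∧
    ∀ g i j, SeventySeven.adjR (f g i).val (f g j).val = SeventySeven.adjR i.val j.val := by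
  classical
  letI : Fintype P77 := Fintype.ofFinite _
  let Γ : SimpleGraph P77 :=
    { Adj := adjB E
      symm := ⟨fun _ _ h => adjB_symm F hB h⟩
      loopless := ⟨fun _ h => h.1 rfl⟩ }
  haveI : DecidableRel Γ.Adj := Classical.decRel _
  have hsrg : Γ.IsSRGWith 77 16 0 4 := by
    refine ⟨?_, ?_, ?_, ?_⟩
    · rw [← Nat.card_eq_fintype_card, card_points F hB]
    · intro p
      rw [← SimpleGraph.card_neighborSet_eq_degree, ← Nat.card_eq_fintype_card, Nat.card_coe_set_eq]
      exact degree F hB p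
    · intro a b hab
      rw [← Nat.card_eq_fintype_card, Nat.card_coe_set_eq, Set.ncard_eq_zero (Set.toFinite _)]
      refine Set.eq_empty_iff_forall_notMem.mpr fun z hz => ?_
      obtain ⟨g, rfl⟩ := QuotientGroup.mk_surjective a
      have hg : g • o77 = (g : P77) := congrArg QuotientGroup.mk (mul_one g)
      rw [SimpleGraph.mem_commonNeighbors] at hz
      change adjB E _ _ ∧ adjB E _ _ at hz
      change adjB E _ _ at hab
      rw [← hg, ← adjB_smul E g⁻¹, inv_smul_smul] at hab hz
      exact no_triangle_one F hB hab hz.1 ((adjB_smul E g⁻¹ _ _).mpr hz.2)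
    · intro a b hne hab
      rw [← Nat.card_eq_fintype_card, Nat.card_coe_set_eq]
      obtain ⟨g, rfl⟩ := QuotientGroup.mk_surjective a
      have hg : g • o77 = (g : P77) := congrArg QuotientGroup.mk (mul_one g)
      have h4 := common_far F hB (q := g⁻¹ • b) (fun e => hne (by rw [← hg, ← e, smul_inv_smul]))
        (fun h => hab (by
          show adjB E (g : P77) b
          rw [← hg, ← adjB_smul E g⁻¹, inv_smul_smul]; exact h))
      rw [← h4, ← common_smul F hB g, hg, smul_inv_smul]
      rfl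
  obtain ⟨e, he⟩ := srg77_model hsrg
  refine ⟨e.permCongrHom.toMonoidHom.comp (MulAction.toPermHom G P77), ?_, fun g i j => ?_⟩
  · rw [MonoidHom.coe_comp]
    refine Function.Injective.comp (e.permCongrHom.injective) ((MonoidHom.ker_eq_bot_iff _).mp ?_)
    rcases (MulAction.toPermHom G P77).normal_ker.eq_bot_or_eq_top with h | h
    · exact h
    · exfalso
      have htop : Subgroup.normalizer (E : Set G) = ⊤ := eq_top_iff.mpr fun g _ => (stab_one E).mp
        (DFunLike.congr_fun (MonoidHom.mem_ker.mp (h ▸ Subgroup.mem_top g :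
          g ∈ (MulAction.toPermHom G P77).ker)) o77)
      have := hB.index_norm F
      rw [htop, Subgroup.index_top] at this
      omega
  · have h1 := he (g • e.symm i) (g • e.symm j)
    have h2 := he (e.symm i) (e.symm j)
    simp only [Equiv.apply_symm_apply] at h2
    show SeventySeven.adjR (e (g • e.symm i)).val (e (g • e.symm j)).val = _
    exact Bool.eq_iff_iff.mpr ((h1.symm.trans (adjB_smul E g _ _)).trans h2)

end CfsgLib.M22Order
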