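import Cfsg.Agent.Lib.M22Order.Big

/-!
# Simple groups of order 443520: five lines in a pair group
-/

set_option autoImplicit false
set_option linter.unusedSectionVars false
set_option linter.style.haveILetI false

namespace CfsgLib.M22Order

open Cfsg CfsgLib

universe u

variable {G : Type u} [Group G] [Finite G]

theorem conj_mem_map {g : G} {K : Subgroup G} {k : G} (hk : k ∈ K) :
    g * k * g⁻¹ ∈ K.map (MulAut.conj g).toMonoidHom := ⟨k, hk, rfl⟩

/-- An element of order five stabilising a subgroup of order four centralises it. -/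
theorem five_fix_four {h : G} (h5 : h ^ 5 = 1) {L : Subgroup G} (hL : Nat.card L = 4)
    (hinv : ∀ k ∈ L, h * k * h⁻¹ ∈ L) {u : G} (hu : u ∈ L) : u * h = h * u := by
  classical
  let f : L → L := fun k => ⟨h * k * h⁻¹, hinv k k.2⟩
  have hf : Function.Injective f := fun a b he => Subtype.ext
    (mul_left_cancel (mul_right_cancel (congrArg Subtype.val he)))
  let σ : Equiv.Perm L := Equiv.ofBijective f (Finite.injective_iff_bijective.mp hf)
  have hp : ∀ (n : ℕ) (k : L), (((σ ^ n) k : L) : G) = h ^ n * (k : G) * (h ^ n)⁻¹ := by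
    intro n
    induction n with
    | zero => intro k; simp
    | succ n ih =>
      intro k
      rw [pow_succ', Equiv.Perm.mul_apply]
      show h * (((σ ^ n) k : L) : G) * h⁻¹ = _
      rw [ih, pow_succ']; group
  have hσ : σ ^ 5 = 1 := Equiv.ext fun k => Subtype.ext (by rw [hp, h5]; simp)
  have hm := card_mod_five σ hσ
  rw [hL] at hm
  have hle : Nat.card {a : L // σ a = a} ≤ 4 :=
    hL ▸ Nat.card_le_card_of_injective (fun a : {a : L // σ a = a} => a.1) Subtype.val_injective
  have hall : Function.Bijective (fun a : {a : L // σ a = a} => a.1) :=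
    (Nat.bijective_iff_injective_and_card _).mpr ⟨Subtype.val_injective, by rw [hL]; omega⟩
  obtain ⟨a, ha⟩ := hall.2 ⟨u, hu⟩
  have := a.2
  rw [show a.1 = (⟨u, hu⟩ : L) from ha] at this
  exact (mul_inv_eq_iff_eq_mul.mp (congrArg Subtype.val this : h * u * h⁻¹ = u)).symm

variable (F : Facts G)
include F

/-- The sixteen over a four-group has order 16. -/
theorem card_sixteen_small {x : G} (hx : orderOf x = 3) : Nat.card (sixteen x) = 16 := by
  classical
  refine (card_sixteen F hx).resolve_right fun h64 => ?_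
  have hbig : ∀ z : G, orderOf z = 3 → Nat.card (sixteen z) = 64 := fun z hz => card_sixteen_eq F hz hx ▸ h64
  obtain ⟨y, hy, hxy, hne, hle⟩ := exists_partner F hx
  have hne' := not_mem_zpowers_symm F hx hy hne
  have hle' := partner_symm F hx hy hxy hle
  set E := sixteen x ⊓ Subgroup.centralizer (four y : Set G) with hE
  have hsym : sixteen y ⊓ Subgroup.centralizer (four x : Set G) = E := pair_symm F hbig hx hy hxy hne hle
  obtain ⟨hVE, hYE⟩ := four_le_pair F hbig hx hy hxy hne hle
  set M := Subgroup.normalizer (E : Set G) with hM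
  have hAM : sixteen x ≤ M := fun q hq => pair_norm F hbig hx hy hxy hne hle hq
  have hBM : sixteen y ≤ M := fun q hq => by
    have := pair_norm F hbig hy hx hxy.symm hne' hle' hq
    rw [hsym] at this
    exact this
  have hcM : ∀ g : G, g * x = x * g → g * y = y * g → g ∈ M := by
    intro g hgx hgy
    refine mem_norm fun k hk => ⟨sixteen_conj F (fun v hv => four_conj F hx hgx hv) hk.1,
      Subgroup.mem_centralizer_iff.mpr fun b hb => ?_⟩
    have h := Subgroup.mem_centralizer_iff.mp hk.2 _ (conj_mem_inv (fun w hw => four_conj F hy hgy hw) hb)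
    calc b * (g * k * g⁻¹) = g * (g⁻¹ * b * g * k) * g⁻¹ := by group
      _ = g * k * g⁻¹ * b := by rw [h]; group
  have hxM : x ∈ M := hcM x rfl hxy
  have hyM : y ∈ M := hcM y hxy.symm rfl
  -- the lines
  let T := {L : Subgroup G // L ≤ E ∧ ∃ z, orderOf z = 3 ∧ four z = L}
  have hT4 : ∀ L : T, Nat.card (L : Subgroup G) = 4 := by
    rintro ⟨L, hL, z, hz, rfl⟩; exact card_four F hz
  have hdis : ∀ (L L' : T) (a : G), a ∈ (L : Subgroup G) → a ∈ (L' : Subgroup G) → a ≠ 1 → L = L' := by
    rintro ⟨L, hL, z, hz, rfl⟩ ⟨L', hL', z', hz', rfl⟩ a ha ha' ha1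
    exact Subtype.ext (four_eq_of_common F hbig hz' hz (order_of_sq (four_sq F hz ha) ha1) ha' ha)
  have hact : ∀ (m : M) (L : T), (L : Subgroup G).map (MulAut.conj (m : G)).toMonoidHom ≤ E ∧
      ∃ z, orderOf z = 3 ∧ four z = (L : Subgroup G).map (MulAut.conj (m : G)).toMonoidHom := by
    rintro m ⟨L, hL, z, hz, rfl⟩
    exact ⟨map_conj_le fun k hk => norm_conj m.2 (hL hk), m * z * (m : G)⁻¹,
      (order_conj (m : G) z).trans hz, (four_map (m : G) z).symm⟩
  letI : MulAction M T :=
    { smul := fun m L => ⟨(L : Subgroup G).map (MulAut.conj (m : G)).toMonoidHom, hact m L⟩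
      one_smul := fun L => Subtype.ext (by
        show (L : Subgroup G).map (MulAut.conj (1 : G)).toMonoidHom = L
        exact map_eq_self fun k hk => by rwa [one_mul, inv_one, mul_one])
      mul_smul := fun m m' L => Subtype.ext (by
        show (L : Subgroup G).map (MulAut.conj ((m : G) * m')).toMonoidHom =
          ((L : Subgroup G).map (MulAut.conj (m' : G)).toMonoidHom).map (MulAut.conj (m : G)).toMonoidHom
        rw [Subgroup.map_map]
        congr 1
        ext k
        show (m : G) * m' * k * ((m : G) * m')⁻¹ = (m : G) * ((m' : G) * k * (m' : G)⁻¹) * (m : G)⁻¹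
        group) }
  have hfix : ∀ (m : M) (L : T), (∀ k ∈ (L : Subgroup G), (m : G) * k * (m : G)⁻¹ ∈ (L : Subgroup G)) →
      m • L = L := fun m L h => Subtype.ext (map_eq_self h)
  have hfix' : ∀ (m : M) (L : T), m • L = L → ∀ k ∈ (L : Subgroup G),
      (m : G) * k * (m : G)⁻¹ ∈ (L : Subgroup G) := fun m L h k hk => by
    have := (congrArg Subtype.val h).le (conj_mem_map (g := (m : G)) hk)
    exact this
  let a : T := ⟨four x, hVE, x, hx, rfl⟩
  let b : T := ⟨four y, hYE, y, hy, rfl⟩
  have hab : a ≠ b := fun e => by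
    obtain ⟨u, hu, hou⟩ := four_ne_bot F hx
    have h' : u ∈ four x ⊓ four y := ⟨hu, (congrArg Subtype.val e).le hu⟩
    rw [four_inf_four F hx hy hxy hne, Subgroup.mem_bot] at h'
    exact ne_one_of_order hou le_rfl h'
  -- at most five lines
  letI : Fintype T := Fintype.ofFinite T
  have hcard : Nat.card T ≤ 5 := by
    have hL3 : ∀ L : T, Nat.card {k : G // k ∈ (L : Subgroup G) ∧ k ≠ 1} = 3 := fun L => by
      have e : Nat.card {k : G // k ∈ (L : Subgroup G) ∧ k ≠ 1} =
          (((L : Subgroup G) : Set G) \ {1}).ncard := Nat.card_coe_set_eq _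
      rw [e, Set.ncard_sdiff (Set.singleton_subset_iff.mpr (one_mem _)), Set.ncard_singleton,
        ← Nat.card_coe_set_eq]
      exact congrArg (· - 1) (hT4 L)
    have hE15 : Nat.card {k : G // k ∈ E ∧ k ≠ 1} = 15 := by
      have e : Nat.card {k : G // k ∈ E ∧ k ≠ 1} = ((E : Set G) \ {1}).ncard := Nat.card_coe_set_eq _
      rw [e, Set.ncard_sdiff (Set.singleton_subset_iff.mpr (one_mem _)), Set.ncard_singleton,
        ← Nat.card_coe_set_eq]
      exact congrArg (· - 1) (card_pair F hbig hx hy hxy hne hle)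
    have h := Nat.card_le_card_of_injective
      (fun p : Σ L : T, {k : G // k ∈ (L : Subgroup G) ∧ k ≠ 1} =>
        (⟨p.2.1, p.1.2.1 p.2.2.1, p.2.2.2⟩ : {k : G // k ∈ E ∧ k ≠ 1})) (by
      rintro ⟨L, k, hk, hk1⟩ ⟨L', k', hk', hk1'⟩ he
      have hkk : k = k' := congrArg Subtype.val he
      subst hkk
      have hLL := hdis L L' k hk hk' hk1
      subst hLL
      rfl)
    rw [Nat.card_sigma, Finset.sum_congr rfl (fun L _ => hL3 L), Finset.sum_const, hE15, Finset.card_univ,
      ← Nat.card_eq_fintype_card, smul_eq_mul] at h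
    omega
  -- the orbit under the sixteen of the partner
  let O : Set T := Set.range fun q : sixteen y => (⟨q, hBM q.2⟩ : M) • a
  have hbO : b ∉ O := by
    rintro ⟨q, hq⟩
    refine hab ?_
    rw [eq_inv_smul_iff.mpr hq]
    refine hfix _ _ fun k hk => ?_
    show (q : G)⁻¹ * k * ((q : G)⁻¹)⁻¹ ∈ four y
    rw [inv_inv, mul_assoc, ← sixteen_comm F q.2 hk, inv_mul_cancel_left]
    exact hk
  have hO4 : 4 ≤ O.ncard := by
    by_contra hlt
    push Not at hlt
    have hle' : Nat.card (sixteen y) ≤ O.ncard * 16 := by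
      classical
      letI : Fintype (sixteen y) := Fintype.ofFinite _
      rw [Nat.card_eq_fintype_card, ← Finset.card_univ]
      have hOc : O.ncard = (Finset.univ.image fun q : sixteen y => (⟨q, hBM q.2⟩ : M) • a).card := by
        rw [← Set.ncard_coe_finset]
        congr 1
        ext L
        simp [O]
      rw [hOc, mul_comm]
      refine Finset.card_le_mul_card_image _ 16 fun L hL => ?_
      obtain ⟨q₀, -, hq₀⟩ := Finset.mem_image.mp hL
      have h16 : (Finset.univ.filter fun q : sixteen y => (⟨q, hBM q.2⟩ : M) • a = L).card ≤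
          Nat.card ↥(sixteen y ⊓ Subgroup.centralizer (four x : Set G)) := by
        letI : Fintype ↥(sixteen y ⊓ Subgroup.centralizer (four x : Set G)) := Fintype.ofFinite _
        rw [Nat.card_eq_fintype_card, ← Finset.card_univ]
        have hmem : ∀ q : sixteen y, (⟨q, hBM q.2⟩ : M) • a = L →
            (q₀ : G)⁻¹ * q ∈ sixteen y ⊓ Subgroup.centralizer (four x : Set G) := by
          intro q hq
          refine norm_four_mem F hbig hy hx hxy.symm hne' hle' (mul_mem (inv_mem q₀.2) q.2) ?_
          have h1 : ((⟨q₀, hBM q₀.2⟩ : M)⁻¹ * ⟨q, hBM q.2⟩) • a = a := by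
            rw [mul_smul, hq, ← hq₀, inv_smul_smul]
          exact hfix' _ _ h1
        refine Finset.card_le_card_of_injOn
          (fun q => if h : (⟨q, hBM q.2⟩ : M) • a = L then ⟨(q₀ : G)⁻¹ * q, hmem q h⟩ else 1)
          (fun q _ => Finset.mem_univ _) fun q hq q' hq' he => ?_
        simp only [Finset.coe_filter, Finset.mem_univ, true_and, Set.mem_setOf_eq] at hq hq'
        simp only [dif_pos hq, dif_pos hq'] at he
        exact Subtype.ext (mul_left_cancel (congrArg Subtype.val he))
      rwa [hsym, card_pair F hbig hx hy hxy hne hle] at h16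
    rw [hbig y hy] at hle'
    omega
  have hsub : insert b O ⊆ Set.univ := Set.subset_univ _
  have huniv : insert b O = Set.univ := by
    refine Set.eq_of_subset_of_ncard_le hsub ?_ (Set.toFinite _)
    rw [Set.ncard_univ, Set.ncard_insert_of_notMem hbO (Set.toFinite _)]
    omega
  have hT5 : Nat.card T = 5 := by
    have := Set.ncard_insert_of_notMem hbO (Set.toFinite _)
    rw [huniv, Set.ncard_univ] at this
    omega
  -- the normaliser is transitive
  have hbA : ∃ q : sixteen x, (⟨q, hAM q.2⟩ : M) • b ≠ b := by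
    by_contra hno
    push Not at hno
    have : sixteen x ≤ E := fun q hq =>
      norm_four_mem F hbig hx hy hxy hne hle hq (hfix' _ _ (hno ⟨q, hq⟩))
    have := Subgroup.card_le_of_le this
    rw [hbig x hx, card_pair F hbig hx hy hxy hne hle] at this
    omega
  have horb : MulAction.orbit M a = Set.univ := by
    refine Set.eq_univ_of_forall fun L => ?_
    have hOorb : ∀ L' ∈ O, L' ∈ MulAction.orbit M a := by
      rintro _ ⟨q, rfl⟩; exact MulAction.mem_orbit _ _
    have hL : L ∈ insert b O := by rw [huniv]; trivial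
    rcases hL with rfl | hL
    · obtain ⟨q, hq⟩ := hbA
      have hqb : (⟨q, hAM q.2⟩ : M) • b ∈ insert b O := by rw [huniv]; trivial
      obtain ⟨m, hm⟩ := hOorb _ (hqb.resolve_left hq)
      exact ⟨(⟨q, hAM q.2⟩ : M)⁻¹ * m, by
        show ((⟨q, hAM q.2⟩ : M)⁻¹ * m) • a = b
        rw [mul_smul, show m • a = (⟨q, hAM q.2⟩ : M) • b from hm, inv_smul_smul]⟩
    · exact hOorb L hL
  have h5M : 5 ∣ Nat.card M := by
    have h1 := Nat.card_congr (MulAction.orbitEquivQuotientStabilizer M a)
    rw [horb, Nat.card_congr (Equiv.Set.univ T), hT5] at h1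
    exact h1 ▸ Subgroup.card_quotient_dvd_card _
  haveI : Fact (Nat.Prime 5) := ⟨by norm_num⟩
  obtain ⟨g, hg⟩ := exists_prime_orderOf_dvd_card' (G := M) 5 h5M
  -- an element of order three in the kernel
  set φ := MulAction.toPermHom M T with hφ
  set xM : M := ⟨x, hxM⟩ with hxM'
  set yM : M := ⟨y, hyM⟩ with hyM'
  have hxa : xM • a = a := hfix _ _ fun k hk => four_conj F hx rfl hk
  have hxb : xM • b = b := hfix _ _ fun k hk => four_conj F hy hxy hk
  have hya : yM • a = a := hfix _ _ fun k hk => four_conj F hx hxy.symm hk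
  have hyb : yM • b = b := hfix _ _ fun k hk => four_conj F hy rfl hk
  have honly : ∀ L : T, xM • L = L → L = a ∨ L = b := by
    intro L hL
    obtain ⟨u, huL, hu1⟩ : ∃ u ∈ (L : Subgroup G), u ≠ 1 := by
      by_contra h; push Not at h
      have h4 := hT4 L
      rw [(Subgroup.eq_bot_iff_forall _).mpr h, Subgroup.card_bot] at h4; omega
    obtain ⟨v, hv, w, hw, hvw⟩ := mem_pair F hbig hx hy hxy hne hle (L.2.1 huL)
    by_cases hw1 : w = 1
    · left
      rw [hw1, mul_one] at hvw
      exact hdis L a u huL (show u ∈ four x by rw [hvw]; exact hv) hu1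
    · right
      have hk : w⁻¹ * (x * w * x⁻¹) ∈ (L : Subgroup G) := by
        have := mul_mem (inv_mem huL) (hfix' _ _ hL u huL)
        rwa [hvw, show (v * w)⁻¹ * (x * (v * w) * x⁻¹) = w⁻¹ * (v⁻¹ * ((x * v) * w * x⁻¹)) by group,
          ← four_comm F hx hv, show w⁻¹ * (v⁻¹ * (v * x * w * x⁻¹)) = w⁻¹ * (x * w * x⁻¹) by group] at this
      refine hdis L b _ hk (mul_mem (inv_mem hw) (four_conj F hy hxy hw)) fun e => hw1 ?_
      refine four_fix F hy hx hxy.symm hne' hw ?_
      rw [inv_mul_eq_one] at e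
      exact (mul_inv_eq_iff_eq_mul.mp e.symm).symm
  obtain ⟨c, hca, hcb⟩ : ∃ c : T, c ≠ a ∧ c ≠ b := by
    by_contra h
    push Not at h
    have hsub' : (Set.univ : Set T) ⊆ {a, b} := fun L _ => by
      by_cases hLa : L = a
      · exact Or.inl hLa
      · exact Or.inr (h L hLa)
    have := Set.ncard_le_ncard hsub' (Set.toFinite _)
    rw [Set.ncard_univ, hT5, Set.ncard_pair hab] at this
    omega
  have hx3 : xM ^ 3 = 1 := Subtype.ext (pow_three_eq hx)
  have hy3 : yM ^ 3 = 1 := Subtype.ext (pow_three_eq hy)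
  have hc : ∀ d : T, d ≠ a → d ≠ b → xM • d ≠ d := fun d h1 h2 e => (honly d e).elim h1 h2
  have hsa : ∀ (m : M), m • a = a → ∀ d : T, d ≠ a → m • d ≠ a := fun m hm d hd e =>
    hd (smul_left_cancel m (e.trans hm.symm))
  have hsb : ∀ (m : M), m • b = b → ∀ d : T, d ≠ b → m • d ≠ b := fun m hm d hd e =>
    hd (smul_left_cancel m (e.trans hm.symm))
  set c1 := xM • c with hc1
  set c2 := xM • c1 with hc2
  have hc12 : c1 ≠ c2 := (hc c1 (hsa _ hxa c hca) (hsb _ hxb c hcb)).symm
  have hc02 : c ≠ c2 := fun e => hc c hca hcb (by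
    have h3 : xM • c2 = c := by
      rw [hc2, hc1, ← mul_smul, ← mul_smul, ← pow_three', hx3, one_smul]
    rwa [← e] at h3)
  have hfive : ∀ d : T, d = a ∨ d = b ∨ d = c ∨ d = c1 ∨ d = c2 := by
    have hu : (Finset.univ : Finset T) = {a, b, c, c1, c2} := by
      refine (Finset.eq_univ_of_card _ ?_).symm
      rw [← Nat.card_eq_fintype_card, hT5]
      have h1 : c1 ≠ a := hsa _ hxa c hca
      have h2 : c1 ≠ b := hsb _ hxb c hcb
      have h3 : c2 ≠ a := hsa _ hxa c1 h1
      have h4 : c2 ≠ b := hsb _ hxb c1 h2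
      have h5 : c ≠ c1 := (hc c hca hcb).symm
      rw [Finset.card_insert_of_notMem (by simp [hab, hca.symm, h1.symm, h3.symm]),
        Finset.card_insert_of_notMem (by simp [hcb.symm, h2.symm, h4.symm]),
        Finset.card_insert_of_notMem (by simp [h5, hc02]),
        Finset.card_pair hc12]
    intro d
    have hd := Finset.mem_univ d
    rw [hu] at hd
    simpa using hd
  have hyx : Commute yM xM := Subtype.ext hxy.symm
  obtain ⟨i, hi⟩ : ∃ i : ℕ, yM • c = (xM ^ i) • c := by
    rcases hfive (yM • c) with e | e | e | e | e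
    · exact absurd e (hsa _ hya c hca)
    · exact absurd e (hsb _ hyb c hcb)
    · exact ⟨0, by rw [e, pow_zero, one_smul]⟩
    · exact ⟨1, by rw [e, pow_one, hc1]⟩
    · exact ⟨2, by rw [e, hc2, hc1, ← mul_smul, pow_two]⟩
  set zM : M := (xM ^ i)⁻¹ * yM with hzM
  have hzx : Commute zM xM := ((Commute.refl xM).pow_left i).inv_left.mul_left hyx
  have hzk : zM ∈ φ.ker := by
    refine MonoidHom.mem_ker.mpr (Equiv.ext fun d => ?_)
    show zM • d = d
    have hxi : ∀ d : T, xM • d = d → (xM ^ i) • d = d := fun d hd => by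
      clear hi hzM hzx
      induction i with
      | zero => rw [pow_zero, one_smul]
      | succ n ih => rw [pow_succ, mul_smul, hd, ih]
    have hza : ∀ d : T, xM • d = d → yM • d = d → zM • d = d := fun d h1 h2 => by
      rw [hzM, mul_smul, h2, inv_smul_eq_iff, hxi d h1]
    have hzc : zM • c = c := by rw [hzM, mul_smul, hi, inv_smul_smul]
    have hzc1 : zM • c1 = c1 := by rw [hc1, ← mul_smul, hzx.eq, mul_smul, hzc]
    rcases hfive d with rfl | rfl | rfl | rfl | rfl
    · exact hza _ hxa hya
    · exact hza _ hxb hyb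
    · exact hzc
    · exact hzc1
    · rw [hc2, ← mul_smul, hzx.eq, mul_smul, hzc1]
  have hzo : orderOf zM = 3 := by
    haveI : Fact (Nat.Prime 3) := ⟨Nat.prime_three⟩
    refine orderOf_eq_prime ?_ fun e => hne ?_
    · rw [hzM, (hyx.symm.pow_left i).inv_left.mul_pow, inv_pow, ← pow_mul, mul_comm, pow_mul, hx3, one_pow,
        inv_one, one_mul, hy3]
    · rw [hzM, inv_mul_eq_one] at e
      have e' : x ^ i = y := congrArg Subtype.val e
      exact e' ▸ Subgroup.pow_mem _ (Subgroup.mem_zpowers x) i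
  set K := φ.ker.map M.subtype with hK
  refine false_of_five F (g := (g : G)) (by rw [Subgroup.orderOf_coe]; exact hg) K ?_ ?_ ?_
  · rintro _ ⟨k, hk, rfl⟩
    exact ⟨g * k * g⁻¹, φ.normal_ker.conj_mem k hk g, rfl⟩
  · rw [hK, Subgroup.card_map_of_injective M.subtype_injective, ← hzo]
    exact Subgroup.orderOf_dvd_natCard _ hzk
  · intro h5K
    rw [hK, Subgroup.card_map_of_injective M.subtype_injective] at h5K
    obtain ⟨h, hh⟩ := exists_prime_orderOf_dvd_card' (G := φ.ker) 5 h5K
    obtain ⟨u, hu, hou⟩ := four_ne_bot F hx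
    have ho : orderOf ((h : M) : G) = 5 := by rw [Subgroup.orderOf_coe, Subgroup.orderOf_coe]; exact hh
    have hha : (h : M) • a = a := DFunLike.congr_fun (MonoidHom.mem_ker.mp h.2) a
    have hc' := five_fix_four (h := ((h : M) : G)) (by rw [← ho, pow_orderOf_eq_one]) (card_four F hx)
      (hfix' _ _ hha) hu
    exact ne_one_of_order hou le_rfl (not_sixteen F ho hc' (by rw [hou]; norm_num))

end CfsgLib.M22Order
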