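import Cfsg.Agent.Lib.Steiner.SRGSeventySevenData

/-!
# The automorphisms of the model graph on 77 vertices number at most 887040
-/

set_option autoImplicit false
set_option linter.unusedSectionVars false
set_option linter.style.haveILetI false

namespace CfsgLib.M22Order

open CfsgLib.Steiner.SeventySeven

/-- The automorphism group of the model. -/
def autModel : Subgroup (Equiv.Perm (Fin 77)) where
  carrier := {σ | ∀ i j, adjR (σ i).val (σ j).val = adjR i.val j.val}
  one_mem' := fun _ _ => rfl
  mul_mem' := fun {σ τ} hσ hτ i j => (hσ (τ i) (τ j)).trans (hτ i j)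
  inv_mem' := fun {σ} hσ i j => by
    have h := hσ (σ⁻¹ i) (σ⁻¹ j)
    simp only [Equiv.Perm.coe_inv, Equiv.apply_symm_apply] at h
    exact h.symm

/-- The adjacency pattern of a vertex to a list of vertices. -/
def pat (t : List ℕ) (q : ℕ) : List Bool := t.map (adjR q)

/-- The vertices with a given pattern. -/
def patCount (t : List ℕ) (β : List Bool) : ℕ := (List.range 77).countP fun q => pat t q == β

/-- The candidates for the next point of a base. -/
def cands (t : List ℕ) (β : List Bool) (n : ℕ) : List ℕ :=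
  (List.range 77).filter fun x => adjR 0 x && !(t.contains x) && (patCount (t ++ [x]) β).beq n

/-- Whether a list of fixed vertices pins down each vertex of another list. -/
def pins (t s : List ℕ) : Bool := s.all fun q => (patCount t (pat t q)).beq 1

theorem cands_two : cands [0, 1, 2] [false, false, false, false] 23 = [3, 4, 5, 6, 7, 8] := by decide +kernel

theorem cands_three : cands [0, 1, 2, 3] [false, false, false, true, false] 7 = [5, 6, 7, 8] := by decide +kernel

theorem cands_four : cands [0, 1, 2, 3, 5] [false, false, true, false, false, false] 5 = [9, 11] := by decide +kernel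

theorem pins_one : pins [0, 1, 2, 3, 5, 9] [17, 21, 26, 29, 34, 45, 68, 75] = true := by decide +kernel

theorem pins_two : pins [0, 1, 2, 3, 5, 9, 17, 21, 26, 29, 34, 45, 68, 75] [14, 25, 4, 10] = true := by
  decide +kernel

theorem pins_three :
    pins [0, 1, 2, 3, 5, 9, 17, 21, 26, 29, 34, 45, 68, 75, 14, 25, 4, 10] (List.range 77) = true := by
  decide +kernel

theorem start_three : patCount [0, 1, 2, 3] [false, false, false, false] = 23 := by decide +kernel

theorem start_four : patCount [0, 1, 2, 3, 5] [false, false, false, true, false] = 7 := by decide +kernel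

theorem start_five : patCount [0, 1, 2, 3, 5, 9] [false, false, true, false, false, false] = 5 := by decide +kernel

theorem countP_eq_card (p : ℕ → Bool) :
    (List.range 77).countP p = (Finset.univ.filter fun i : Fin 77 => p i.val = true).card := by
  rw [List.countP_eq_length_filter, ← List.toFinset_card_of_nodup (List.nodup_range.filter p),
    ← Finset.card_map Fin.valEmbedding (s := Finset.univ.filter fun i : Fin 77 => p i.val = true)]
  congr 1
  ext x
  simp only [List.mem_toFinset, List.mem_filter, List.mem_range, Finset.mem_map, Finset.mem_filter,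
    Finset.mem_univ, true_and, Fin.valEmbedding_apply]
  exact ⟨fun h => ⟨⟨x, h.1⟩, h.2, rfl⟩, by rintro ⟨i, h, rfl⟩; exact ⟨i.2, h⟩⟩

theorem pat_image {σ : Equiv.Perm (Fin 77)} (hσ : σ ∈ autModel) (t : List (Fin 77)) (q : Fin 77) :
    pat ((t.map σ).map Fin.val) (σ q).val = pat (t.map Fin.val) q.val := by
  simp only [pat, List.map_map]
  refine List.map_congr_left fun x _ => ?_
  exact hσ q x

theorem patCount_image {σ : Equiv.Perm (Fin 77)} (hσ : σ ∈ autModel) (t : List (Fin 77)) (β : List Bool) :
    patCount ((t.map σ).map Fin.val) β = patCount (t.map Fin.val) β := by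
  rw [patCount, patCount, countP_eq_card, countP_eq_card]
  refine (Finset.card_equiv σ fun q => ?_).symm
  simp only [Finset.mem_filter, Finset.mem_univ, true_and, pat_image hσ]

/-- Vertices pinned down by fixed vertices are fixed. -/
theorem fix_of_pins {σ : Equiv.Perm (Fin 77)} (hσ : σ ∈ autModel) {t s : List ℕ} (h : pins t s = true)
    (ht : ∀ v : Fin 77, v.val ∈ t → σ v = v) (ht7 : ∀ v ∈ t, v < 77) :
    ∀ v : Fin 77, v.val ∈ s → σ v = v := by
  intro v hv
  simp only [pins, List.all_eq_true, Nat.beq_eq] at h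
  have h1 := h v.val hv
  rw [patCount, countP_eq_card, Finset.card_eq_one] at h1
  obtain ⟨a, ha⟩ := h1
  obtain ⟨t', rfl⟩ : ∃ t' : List (Fin 77), t'.map Fin.val = t :=
    ⟨t.pmap (fun x hx => ⟨x, hx⟩) ht7, by simp [List.map_pmap]⟩
  have hfix : t'.map σ = t' := by
    calc t'.map σ = t'.map id := List.map_congr_left fun x hx => ht x (List.mem_map.mpr ⟨x, hx, rfl⟩)
      _ = t' := List.map_id t'
  have h2 := pat_image hσ t' v
  rw [hfix] at h2
  have e1 : v ∈ ({a} : Finset (Fin 77)) := ha ▸ Finset.mem_filter.mpr ⟨Finset.mem_univ _, by simp⟩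
  have e2 : σ v ∈ ({a} : Finset (Fin 77)) := ha ▸ Finset.mem_filter.mpr ⟨Finset.mem_univ _, by simp [h2]⟩
  rw [Finset.mem_singleton] at e1 e2
  exact e2.trans e1.symm

/-- The subgroup fixing a list of vertices. -/
def fixList (t : List (Fin 77)) : Subgroup (Equiv.Perm (Fin 77)) where
  carrier := {σ | σ ∈ autModel ∧ ∀ v ∈ t, σ v = v}
  one_mem' := ⟨one_mem _, fun _ _ => rfl⟩
  mul_mem' := fun {σ τ} hσ hτ => ⟨mul_mem hσ.1 hτ.1, fun v hv => by
    rw [Equiv.Perm.mul_apply, hτ.2 v hv, hσ.2 v hv]⟩
  inv_mem' := fun {σ} hσ => ⟨inv_mem hσ.1, fun v hv => by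
    rw [Equiv.Perm.inv_eq_iff_eq, hσ.2 v hv]⟩

theorem card_step (t : List (Fin 77)) (v : Fin 77) (S : Finset (Fin 77))
    (hS : ∀ σ ∈ fixList t, σ v ∈ S) :
    Nat.card (fixList t) ≤ S.card * Nat.card (fixList (t ++ [v])) := by
  classical
  letI : MulAction (fixList t) (Fin 77) := MulAction.compHom _ (fixList t).subtype
  have e := Nat.card_congr (MulAction.orbitProdStabilizerEquivGroup (fixList t) v)
  rw [Nat.card_prod] at e
  rw [← e]
  refine Nat.mul_le_mul ?_ ?_
  · rw [Nat.card_coe_set_eq, ← Set.ncard_coe_finset]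
    refine Set.ncard_le_ncard ?_ (Set.toFinite _)
    rintro _ ⟨σ, rfl⟩
    exact hS σ σ.2
  · refine Nat.card_le_card_of_injective
      (fun σ : MulAction.stabilizer (fixList t) v => (⟨(σ.1 : Equiv.Perm (Fin 77)), σ.1.2.1, fun w hw => ?_⟩ :
        fixList (t ++ [v]))) fun σ τ h => Subtype.ext (Subtype.ext (congrArg
          (fun ρ : fixList (t ++ [v]) => (ρ : Equiv.Perm (Fin 77))) h))
    rcases List.mem_append.mp hw with h | h
    · exact σ.1.2.2 w h
    · rw [List.mem_singleton.mp h]; exact σ.2

theorem mem_cands {t : List (Fin 77)} {v : Fin 77} {β : List Bool} {n : ℕ} {σ : Equiv.Perm (Fin 77)}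
    (hσ : σ ∈ fixList t) (h0 : (0 : Fin 77) ∈ t) (hv : adjR 0 v.val = true) (hvt : v ∉ t)
    (hn : patCount ((t ++ [v]).map Fin.val) β = n) : (σ v).val ∈ cands (t.map Fin.val) β n := by
  have hfix : t.map σ = t := by
    calc t.map σ = t.map id := List.map_congr_left hσ.2
      _ = t := List.map_id t
  rw [cands, List.mem_filter, List.mem_range, Bool.and_eq_true, Bool.and_eq_true, Nat.beq_eq]
  refine ⟨(σ v).2, ⟨?_, ?_⟩, ?_⟩
  · have h := hσ.1 0 v
    rw [hσ.2 0 h0] at h
    exact h.trans hv
  · simp only [Bool.not_eq_true', List.contains_eq_mem, decide_eq_false_iff_not, List.mem_map, not_exists, not_and]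
    intro x hx e
    have : σ v = σ x := by rw [hσ.2 x hx]; exact (Fin.ext e).symm
    exact hvt (σ.injective this ▸ hx)
  · rw [← hn, ← patCount_image hσ.1 (t ++ [v]), List.map_append, List.map_append, hfix]
    rfl

theorem card_autModel_le : Nat.card autModel ≤ 887040 := by
  classical
  have hbase : Nat.card (fixList [0, 1, 2, 3, 5, 9]) = 1 := by
    rw [Subgroup.card_eq_one, Subgroup.eq_bot_iff_forall]
    rintro σ ⟨hσ, h0⟩
    have hb : ∀ v : Fin 77, v.val ∈ [0, 1, 2, 3, 5, 9] → σ v = v := by
      intro v hv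
      refine h0 v ?_
      simp only [List.mem_cons, List.not_mem_nil, or_false] at hv ⊢
      simp only [Fin.ext_iff]
      exact hv
    have h1 := fix_of_pins hσ pins_one hb (by decide)
    have hb2 : ∀ v : Fin 77, v.val ∈ [0, 1, 2, 3, 5, 9, 17, 21, 26, 29, 34, 45, 68, 75] → σ v = v := fun v hv =>
      ((List.mem_append (s := [0, 1, 2, 3, 5, 9]) (t := [17, 21, 26, 29, 34, 45, 68, 75])).mp hv).elim (hb v) (h1 v)
    have h2 := fix_of_pins hσ pins_two hb2 (by decide)
    have hb3 : ∀ v : Fin 77,
        v.val ∈ [0, 1, 2, 3, 5, 9, 17, 21, 26, 29, 34, 45, 68, 75, 14, 25, 4, 10] → σ v = v := fun v hv =>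
      ((List.mem_append (s := [0, 1, 2, 3, 5, 9, 17, 21, 26, 29, 34, 45, 68, 75]) (t := [14, 25, 4, 10])).mp
        hv).elim (hb2 v) (h2 v)
    exact Equiv.ext fun v => fix_of_pins hσ pins_three hb3 (by decide) v (List.mem_range.mpr v.2)
  have hmem : autModel = fixList [] :=
    le_antisymm (fun σ h => show σ ∈ autModel ∧ _ from ⟨h, by simp⟩) fun σ h => h.1
  have s0 := card_step [] 0 Finset.univ fun σ _ => Finset.mem_univ _
  have s1 := card_step [0] 1 (Finset.univ.filter fun x : Fin 77 => 1 ≤ x.val ∧ x.val < 17) fun σ hσ => by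
    have h := hσ.1 0 1
    rw [hσ.2 0 (List.mem_singleton.mpr rfl)] at h
    refine Finset.mem_filter.mpr ⟨Finset.mem_univ _, ?_⟩
    have h' : adjR 0 (σ 1).val = true := h.trans (by decide)
    simpa [adjR] using h'
  have s2 := card_step [0, 1] 2 (Finset.univ.filter fun x : Fin 77 => 2 ≤ x.val ∧ x.val < 17) fun σ hσ => by
    have h := hσ.1 0 2
    rw [hσ.2 0 (by simp)] at h
    have h' : adjR 0 (σ 2).val = true := h.trans (by decide)
    have h'' : 1 ≤ (σ 2).val ∧ (σ 2).val < 17 := by simpa [adjR] using h'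
    have hne : (σ 2).val ≠ 1 := fun e => by
      have : σ 2 = σ 1 := by rw [hσ.2 1 (by simp)]; exact Fin.ext e
      exact absurd (σ.injective this) (by decide)
    exact Finset.mem_filter.mpr ⟨Finset.mem_univ _, by omega⟩
  have s3 := card_step [0, 1, 2] 3 {3, 4, 5, 6, 7, 8} fun σ hσ => by
    have h : (σ 3).val ∈ [3, 4, 5, 6, 7, 8] := cands_two ▸ mem_cands (β := [false, false, false, false]) (n := 23) hσ
      (by simp) (by decide) (by decide) start_three
    simpa [Fin.ext_iff] using h
  have s4 := card_step [0, 1, 2, 3] 5 {5, 6, 7, 8} fun σ hσ => by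
    have h : (σ 5).val ∈ [5, 6, 7, 8] := cands_three ▸ mem_cands (β := [false, false, false, true, false]) (n := 7) hσ
      (by simp) (by decide) (by decide) start_four
    simpa [Fin.ext_iff] using h
  have s5 := card_step [0, 1, 2, 3, 5] 9 {9, 11} fun σ hσ => by
    have h : (σ 9).val ∈ [9, 11] := cands_four ▸ mem_cands (β := [false, false, true, false, false, false]) (n := 5) hσ
      (by simp) (by decide) (by decide) start_five
    simpa [Fin.ext_iff] using h
  simp only [List.nil_append, List.cons_append] at s0 s1 s2 s3 s4 s5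
  rw [Finset.card_univ, Fintype.card_fin] at s0
  rw [show (Finset.univ.filter fun x : Fin 77 => 1 ≤ x.val ∧ x.val < 17).card = 16 by decide] at s1
  rw [show (Finset.univ.filter fun x : Fin 77 => 2 ≤ x.val ∧ x.val < 17).card = 15 by decide] at s2
  rw [show ({3, 4, 5, 6, 7, 8} : Finset (Fin 77)).card = 6 by decide] at s3
  rw [show ({5, 6, 7, 8} : Finset (Fin 77)).card = 4 by decide] at s4
  rw [show ({9, 11} : Finset (Fin 77)).card = 2 by decide, hbase] at s5
  rw [hmem]
  omega

end CfsgLib.M22Order
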