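import Cfsg.Agent.Lib.M22Order.Graph
import Cfsg.Agent.Lib.M22Order.Model
import Cfsg.Agent.Lib.HSRec.Basic

/-!
# Simple groups of order 443520 with the centraliser facts are the Mathieu group on 22 points
-/

set_option autoImplicit false
set_option linter.unusedSectionVars false
set_option linter.style.haveILetI false

namespace CfsgLib.M22Order

open Cfsg CfsgLib CfsgLib.Steiner

universe u v

theorem sep22 : ∀ i j : Fin 22, i ≠ j → ∃ m ∈ std22, m.testBit i.val = true ∧ m.testBit j.val = false := by
  decide +kernel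

/-- The group on 22 points acts faithfully on the model graph on its blocks. -/
theorem exists_model_K22 : ∃ f : K22 →* Equiv.Perm (Fin 77), Function.Injective f ∧
    ∀ g i j, SeventySeven.adjR (f g i).val (f g j).val = SeventySeven.adjR i.val j.val := by
  classical
  set B : Set (Finset (Fin 22)) := (sysL 22 std22 : Set (Finset (Fin 22))) with hB
  have hst : ∀ σ : K22, ∀ b ∈ B, b.image (σ.1.1 : Equiv.Perm (Fin 22)) ∈ B := fun σ b hb =>
    (mem_aut_iff.1 σ.1.2 b).2 hb
  letI : MulAction K22 B :=
    { smul := fun σ b => ⟨(b : Finset (Fin 22)).image (σ.1.1 : Equiv.Perm (Fin 22)), hst σ b b.2⟩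
      one_smul := fun b => Subtype.ext (by
        show (b : Finset (Fin 22)).image ((1 : Equiv.Perm (Fin 22)) : Fin 22 → Fin 22) = b
        simp)
      mul_smul := fun σ τ b => Subtype.ext (by
        show (b : Finset (Fin 22)).image ((σ.1.1 * τ.1.1 : Equiv.Perm (Fin 22)) : Fin 22 → Fin 22) =
          ((b : Finset (Fin 22)).image (τ.1.1 : Equiv.Perm (Fin 22))).image (σ.1.1 : Equiv.Perm (Fin 22))
        rw [Finset.image_image]; rfl) }
  haveI : Fintype B := Fintype.ofFinite B
  haveI : DecidableRel (blockGraph B).Adj := Classical.decRel _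
  obtain ⟨e, he⟩ := srg77_model (blockGraph_srg (Fintype.card_fin 22) steiner22)
  refine ⟨e.permCongrHom.toMonoidHom.comp (MulAction.toPermHom K22 B), ?_, fun g i j => ?_⟩
  · rw [MonoidHom.coe_comp]
    refine Function.Injective.comp e.permCongrHom.injective ?_
    intro σ τ h
    refine Subtype.ext (Subtype.ext (Equiv.ext fun i => ?_))
    by_contra hne
    obtain ⟨m, hm, h1, h2⟩ := sep22 _ _ hne
    have hb : dN 22 m ∈ B := Finset.mem_coe.2 (mem_sysL.2 ⟨m, hm, rfl⟩)
    have hpre : (dN 22 m).image ((σ.1.1 : Equiv.Perm (Fin 22)).symm) ∈ B := by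
      have := hst σ⁻¹ _ hb
      exact this
    have hi : i ∈ (dN 22 m).image ((σ.1.1 : Equiv.Perm (Fin 22)).symm) :=
      Finset.mem_image.2 ⟨_, mem_dN.2 h1, Equiv.symm_apply_apply _ _⟩
    have heq : σ • (⟨_, hpre⟩ : B) = τ • (⟨_, hpre⟩ : B) := DFunLike.congr_fun h _
    have h3 : (τ.1.1 : Equiv.Perm (Fin 22)) i ∈ ((τ • (⟨_, hpre⟩ : B) : B) : Finset (Fin 22)) :=
      Finset.mem_image_of_mem _ hi
    rw [← heq] at h3
    have h4 : (τ.1.1 : Equiv.Perm (Fin 22)) i ∈ dN 22 m := by
      obtain ⟨z, hz, hze⟩ := Finset.mem_image.1 h3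
      obtain ⟨w, hw, rfl⟩ := Finset.mem_image.1 hz
      rw [Equiv.apply_symm_apply] at hze
      exact hze ▸ hw
    rw [mem_dN, h2] at h4
    exact Bool.false_ne_true h4
  · have h1 := he (g • e.symm i) (g • e.symm j)
    have h2 := he (e.symm i) (e.symm j)
    simp only [Equiv.apply_symm_apply] at h2
    show SeventySeven.adjR (e (g • e.symm i)).val (e (g • e.symm j)).val = _
    refine Bool.eq_iff_iff.mpr ((h1.symm.trans ?_).trans h2)
    have hinj : Function.Injective fun b : B => g • b := MulAction.injective g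
    simp only [blockGraph, SimpleGraph.fromRel_adj, hinj.ne_iff]
    show _ ∧ (Disjoint ((e.symm i : Finset (Fin 22)).image (g.1.1 : Equiv.Perm (Fin 22)))
        ((e.symm j : Finset (Fin 22)).image (g.1.1 : Equiv.Perm (Fin 22))) ∨
      Disjoint ((e.symm j : Finset (Fin 22)).image (g.1.1 : Equiv.Perm (Fin 22)))
        ((e.symm i : Finset (Fin 22)).image (g.1.1 : Equiv.Perm (Fin 22)))) ↔ _
    rw [Finset.disjoint_image (g.1.1 : Equiv.Perm (Fin 22)).injective,
      Finset.disjoint_image (g.1.1 : Equiv.Perm (Fin 22)).injective]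

/-- Simple subgroups of the order of the Mathieu group in the automorphisms of the model are equal. -/
theorem range_eq {G : Type u} [Group G] [Finite G] [IsSimpleGroup G] {K : Type v} [Group K] [Finite K]
    (hG : Nat.card G = 443520) (hK : Nat.card K = 443520)
    {f : G →* Equiv.Perm (Fin 77)} (hf : Function.Injective f) {f' : K →* Equiv.Perm (Fin 77)}
    (hf' : Function.Injective f') (h : ∀ g, f g ∈ autModel) (h' : ∀ g, f' g ∈ autModel) : f.range = f'.range := by
  classical
  set φ := f.codRestrict autModel h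
  set b := f'.range.subgroupOf autModel with hb
  have hr : Nat.card f'.range = 443520 := by rw [← hK]; exact Nat.card_congr (MonoidHom.ofInjective hf').toEquiv.symm
  have hle : f'.range ≤ autModel := by rintro _ ⟨g, rfl⟩; exact h' g
  have hidx : b.index ≤ 2 := by
    have h1 := b.index_mul_card
    rw [hb, Nat.card_congr (Subgroup.subgroupOfEquivOfLe hle).toEquiv, hr] at h1
    have := card_autModel_le
    rw [hb]
    omega
  have hne : b.index ≠ 0 := Subgroup.index_ne_zero_of_finite
  haveI hn : b.Normal := by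
    rcases (show b.index = 1 ∨ b.index = 2 by omega) with h2 | h2
    · rw [Subgroup.index_eq_one.mp h2]; infer_instance
    · exact Subgroup.normal_of_index_eq_two h2
  set ψ := (QuotientGroup.mk' b).comp φ with hψ
  have hker : ψ.ker = ⊤ := by
    rcases ψ.normal_ker.eq_bot_or_eq_top with e | e
    · exfalso
      have hc := Nat.card_le_card_of_injective _ ((MonoidHom.ker_eq_bot_iff ψ).mp e)
      rw [hG, show Nat.card (↥autModel ⧸ b) = b.index from rfl] at hc
      omega
    · exact e
  refine Subgroup.eq_of_le_of_card_ge ?_ ?_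
  · rintro _ ⟨g, rfl⟩
    have hg : φ g ∈ b := (QuotientGroup.eq_one_iff _).mp (MonoidHom.mem_ker.mp (hker ▸ Subgroup.mem_top g : g ∈ ψ.ker))
    exact Subgroup.mem_subgroupOf.mp hg
  · rw [hr, ← hG]
    exact (Nat.card_congr (MonoidHom.ofInjective hf).toEquiv).le

/-- A simple group with the centraliser facts is the Mathieu group on 22 points. -/
theorem isoM22_of_facts {G : Type u} [Group G] [Finite G] [IsSimpleGroup G] (F : Facts G) :
    Cfsg.Spor.IsoM22 G := by
  obtain ⟨E, hE⟩ := exists_block F
  obtain ⟨f, hf, ha⟩ := exists_model F hE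
  obtain ⟨f', hf', ha'⟩ := exists_model_K22
  have he := range_eq F.card natCard_K22.1 hf hf' ha ha'
  obtain ⟨e0⟩ := HSRec.exists_sporEquiv
  let eK : K22 ≃* ↥HSRec.S0 :=
    (K22.equivMapOfInjective θ θ_injective).trans (MulEquiv.subgroupCongr HSRec.S0_eq.symm)
  exact ⟨((MonoidHom.ofInjective hf).trans ((MulEquiv.subgroupCongr he).trans (MonoidHom.ofInjective hf').symm)).trans
    (eK.trans e0.symm)⟩

end CfsgLib.M22Order
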