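import Cfsg.Agent.Lib.M22Order.Lines

/-!
# Simple groups of order 443520: the elementary sixteen and its normaliser of index 77
-/

set_option autoImplicit false
set_option linter.unusedSectionVars false
set_option linter.style.haveILetI false

namespace CfsgLib.M22Order

open Cfsg CfsgLib

universe u

variable {G : Type u} [Group G] [Finite G]

/-- The conjugates of `t` under a subgroup, and the stabiliser. -/
theorem card_conj_range (H : Subgroup G) (t : G) :
    (Set.range fun h : H => (h : G) * t * (h : G)⁻¹).ncard *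
      Nat.card ↥(H ⊓ Subgroup.centralizer ({t} : Set G)) = Nat.card H := by
  letI : MulAction H G :=
    { smul := fun h g => (h : G) * g * (h : G)⁻¹
      one_smul := fun g => by show (1 : G) * g * (1 : G)⁻¹ = g; group
      mul_smul := fun h h' g => by
        show (h : G) * h' * g * ((h : G) * h')⁻¹ = (h : G) * ((h' : G) * g * (h' : G)⁻¹) * (h : G)⁻¹
        group }
  have e := Nat.card_congr (MulAction.orbitProdStabilizerEquivGroup H t)
  rw [Nat.card_prod, Nat.card_coe_set_eq] at e
  rw [← e]
  congr 1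
  exact Nat.card_congr
    { toFun := fun g => ⟨⟨g.1, g.2.1⟩, mul_inv_eq_iff_eq_mul.mpr (mem_cen.mp g.2.2)⟩
      invFun := fun h => ⟨h.1, h.1.2, mem_cen.mpr (mul_inv_eq_iff_eq_mul.mp h.2)⟩
      left_inv := fun _ => rfl
      right_inv := fun _ => rfl }

theorem card_le_mul_cen (H : Subgroup G) (t : G) (S : Set G) (hS : ∀ h ∈ H, h * t * h⁻¹ ∈ S) :
    Nat.card H ≤ S.ncard * Nat.card ↥(H ⊓ Subgroup.centralizer ({t} : Set G)) := by
  rw [← card_conj_range H t]
  refine Nat.mul_le_mul_right _ (Set.ncard_le_ncard ?_ (Set.toFinite S))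
  rintro _ ⟨h, rfl⟩
  exact hS h h.2

/-- The block of a simple group of order 443520. -/
structure Block (E : Subgroup G) : Prop where
  card : Nat.card E = 16
  sq : ∀ e ∈ E, e * e = 1
  self_cen : Subgroup.centralizer (E : Set G) = E
  card_norm : Nat.card ↥(Subgroup.normalizer (E : Set G)) = 5760
  cen_le : ∀ t ∈ E, t ≠ 1 → Subgroup.centralizer ({t} : Set G) ≤ Subgroup.normalizer (E : Set G)
  trans : ∀ s ∈ E, s ≠ 1 → ∀ t ∈ E, t ≠ 1 →
    ∃ m ∈ Subgroup.normalizer (E : Set G), m * s * m⁻¹ = t

variable (F : Facts G)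
include F

theorem map_sixteen_eq (g : G) {x : G} (hx : orderOf x = 3) :
    (sixteen x).map (MulAut.conj g).toMonoidHom = sixteen (g * x * g⁻¹) :=
  Subgroup.eq_of_le_of_card_ge (map_sixteen_le F g hx)
    (by rw [card_map_conj, card_sixteen_eq F ((order_conj g x).trans hx) hx])

/-- The centraliser of a member of a four-group normalises the sixteen. -/
theorem cen_le_norm {t x : G} (ht : orderOf t = 2) (hx : orderOf x = 3) (htx : t ∈ four x) :
    Subgroup.centralizer ({t} : Set G) ≤ Subgroup.normalizer (sixteen x : Set G) := by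
  classical
  haveI : Fact (Nat.Prime 3) := ⟨Nat.prime_three⟩
  have hxt := (four_comm F hx htx).symm
  set M := Subgroup.normalizer (sixteen x : Set G) with hM
  set C := Subgroup.centralizer ({t} : Set G) with hC
  have hxM : x ∈ M := mem_norm fun a ha => sixteen_conj F (fun v hv => four_conj F hx rfl hv) ha
  have hQM : core t ≤ M := fun q hq =>
    norm_of_sixteen F hx (card_core F ht) (card_sixteen_small F hx)
      (by rw [sixteen_eq F ht hx hxt]; exact inf_le_left) (four_le_sixteen F hx)
      (fun k hk => core_conj (mem_cen.mpr hxt) hk)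
      (fun k hk => sixteen_conj F (fun v hv => four_conj F hx rfl hv) hk) hq
  obtain ⟨φ, hφ, hk⟩ := exists_hom F ht
  set ψ := (Equiv.Perm.sign (α := Fin 3)).comp φ with hψ
  have hsurj : Function.Surjective ψ := (Equiv.Perm.sign_surjective (Fin 3)).comp hφ
  set N := ψ.ker with hN
  have hN192 : Nat.card N = 192 := by
    have h := N.index_mul_card
    rw [hN, Subgroup.index_ker, MonoidHom.range_eq_top.mpr hsurj, Subgroup.card_top, Nat.card_eq_fintype_card,
      Fintype.card_units_int, F.card_invol t ht] at h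
    rw [hN]
    omega
  set x' : C := ⟨x, mem_cen.mpr hxt⟩ with hx'
  have hx'N : x' ∈ N := by
    refine MonoidHom.mem_ker.mpr ?_
    rcases Int.units_eq_one_or (ψ x') with h | h
    · exact h
    · exfalso
      have h3 : (ψ x') ^ 3 = 1 := by rw [← map_pow, show x' ^ 3 = 1 from Subtype.ext (pow_three_eq hx), map_one]
      rw [h] at h3
      exact absurd h3 (by decide)
  set x'' : N := ⟨x', hx'N⟩ with hx''
  have ho : orderOf x'' = 3 := by rw [hx'', Subgroup.orderOf_mk, hx', Subgroup.orderOf_mk, hx]
  let P : Sylow 3 N := Sylow.ofCard (Subgroup.zpowers x'') (by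
    rw [Nat.card_zpowers, ho, hN192, show (192 : ℕ) = 3 ^ 1 * 64 by norm_num,
      Nat.factorization_mul (by norm_num) (by norm_num), Finsupp.add_apply, Nat.factorization_pow,
      Finsupp.smul_apply, Nat.Prime.factorization_self Nat.prime_three,
      Nat.factorization_eq_zero_of_not_dvd (show ¬ 3 ∣ 64 by norm_num)]
    norm_num)
  have hfr := Sylow.normalizer_sup_eq_top P
  have hNM : N ≤ M.comap C.subtype := by
    have hle : φ.ker ⊔ Subgroup.zpowers x' ≤ N := sup_le
      (fun a ha => MonoidHom.mem_ker.mpr (by rw [hψ, MonoidHom.comp_apply, MonoidHom.mem_ker.mp ha, map_one]))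
      (Subgroup.zpowers_le.mpr hx'N)
    have hk64 : Nat.card φ.ker = 64 := by
      rw [hk]
      have := card_core F ht
      rwa [core, Subgroup.card_map_of_injective (Subgroup.subtype_injective _)] at this
    have hdis : φ.ker ⊓ Subgroup.zpowers x' = ⊥ :=
      Subgroup.inf_eq_bot_of_coprime (by rw [Nat.card_zpowers, hk64, hx', Subgroup.orderOf_mk, hx]; norm_num)
    have hge := mul_card_le hdis (le_sup_left) (le_sup_right : Subgroup.zpowers x' ≤ _)
    rw [hk64, Nat.card_zpowers, hx', Subgroup.orderOf_mk, hx] at hge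
    rw [← Subgroup.eq_of_le_of_card_ge hle (by rw [hN192]; exact hge), sup_le_iff, Subgroup.zpowers_le]
    exact ⟨fun a ha => hQM (mem_core.mpr (hk ▸ ha)), hxM⟩
  intro c hc
  have hall : (⊤ : Subgroup C) ≤ M.comap C.subtype := by
    rw [← hfr]
    refine sup_le (fun g hg => ?_) hNM
    have hgx : g * x' * g⁻¹ ∈ Subgroup.zpowers x' := by
      have hP : (P : Subgroup N).map N.subtype = Subgroup.zpowers x' := by
        show (Subgroup.zpowers x'').map N.subtype = _
        rw [MonoidHom.map_zpowers]
        rfl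
      rw [hP] at hg
      exact norm_conj hg (Subgroup.mem_zpowers x')
    obtain ⟨i, hi⟩ := Subgroup.mem_zpowers_iff.mp hgx
    have hi' : (g : G) * x * (g : G)⁻¹ = x ^ i := (congrArg Subtype.val hi).symm
    show (g : G) ∈ M
    refine mem_norm fun a ha => ?_
    have h := (map_sixteen_eq F (g : G) hx).le (conj_mem_map ha)
    rw [hi'] at h
    have hxi : sixteen (x ^ i) = sixteen x := by
      have h3 : x ^ i = x ^ (i % 3) := by
        rw [← zpow_mod_orderOf x i, hx]; rfl
      have hne : x ^ i ≠ 1 := fun e => ne_one_of_order hx (by norm_num) (conj_eq_one_iff.mp (hi'.trans e))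
      rcases (show i % 3 = 0 ∨ i % 3 = 1 ∨ i % 3 = 2 by omega) with e | e | e <;> rw [e] at h3
      · exact absurd (by rw [h3, zpow_zero]) hne
      · rw [h3, zpow_one]
      · rw [h3, show x ^ (2 : ℤ) = x⁻¹ from ?_, sixteen_inv]
        rw [show (2 : ℤ) = ((2 : ℕ) : ℤ) from rfl, zpow_natCast, eq_inv_iff_mul_eq_one, ← pow_succ]
        exact pow_three_eq hx
    rwa [hxi] at h
  exact hall (Subgroup.mem_top (⟨c, hc⟩ : C))

/-- A simple group of order 443520 has a block. -/
theorem exists_block : ∃ E : Subgroup G, Block E := by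
  classical
  haveI : Fact (Nat.Prime 3) := ⟨Nat.prime_three⟩
  obtain ⟨x, hx⟩ := exists_prime_orderOf_dvd_card' (G := G) 3 (by rw [F.card]; norm_num)
  obtain ⟨y, hy, hxy, hne, hle⟩ := exists_partner F hx
  have hne' := not_mem_zpowers_symm F hx hy hne
  set E := sixteen x with hE
  have h16 : Nat.card E = 16 := card_sixteen_small F hx
  have hdis := four_inf_four F hx hy hxy hne
  have hVE : four x ≤ E := four_le_sixteen F hx
  have hmem : ∀ e ∈ E, ∃ v ∈ four x, ∃ b ∈ four y, e = v * b := fun e he =>
    exists_mul hdis hVE hle (by rw [h16, card_four F hx, card_four F hy]) he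
  have hcomm : ∀ e ∈ E, ∀ e' ∈ E, e * e' = e' * e := by
    intro e he e' he'
    obtain ⟨v, hv, b, hb, rfl⟩ := hmem e he
    obtain ⟨v', hv', b', hb', rfl⟩ := hmem e' he'
    have h1 : Commute v v' := four_comm_four F hx hv hv'
    have h2 : Commute b b' := four_comm_four F hy hb hb'
    have h3 : Commute b v' := sixteen_comm F (hle hb) hv'
    have h4 : Commute v b' := (sixteen_comm F (hle hb') hv).symm
    exact ((h1.mul_right h4).mul_left (h3.mul_right h2)).eq
  have hsq : ∀ e ∈ E, e * e = 1 := by
    intro e he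
    obtain ⟨v, hv, b, hb, rfl⟩ := hmem e he
    rw [show v * b * (v * b) = v * (b * v) * b by group, sixteen_comm F (hle hb) hv, ← mul_assoc,
      four_sq F hx hv, one_mul, four_sq F hy hb]
  have hsym : sixteen y = E := by
    refine (Subgroup.eq_of_le_of_card_ge (fun e he => ?_) ?_).symm
    · obtain ⟨v, hv, b, hb, rfl⟩ := hmem e he
      exact mul_mem (partner_symm F hx hy hxy hle hv) (four_le_sixteen F hy hb)
    · rw [h16, card_sixteen_small F hy]
  obtain ⟨t, htV, ht⟩ := four_ne_bot F hx
  obtain ⟨u, huW, hu⟩ := four_ne_bot F hy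
  have hxt := (four_comm F hx htV).symm
  set M := Subgroup.normalizer (E : Set G) with hM
  have hCt : Subgroup.centralizer ({t} : Set G) ≤ M := cen_le_norm F ht hx htV
  have hCu : Subgroup.centralizer ({u} : Set G) ≤ M := by
    have := cen_le_norm F hu hy huW
    rwa [hsym] at this
  have hxM : x ∈ M := mem_norm fun a ha => sixteen_conj F (fun v hv => four_conj F hx rfl hv) ha
  have hself : Subgroup.centralizer (E : Set G) = E := by
    refine le_antisymm ?_ fun e he => Subgroup.mem_centralizer_iff.mpr fun e' he' => hcomm e' he' e he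
    set D := Subgroup.centralizer (E : Set G) with hD
    have hDt : D ≤ Subgroup.centralizer ({t} : Set G) := fun d hd =>
      mem_cen.mpr (Subgroup.mem_centralizer_iff.mp hd t (hVE htV)).symm
    have h3 : ¬ 3 ∣ Nat.card D := by
      intro h3
      obtain ⟨z, hz⟩ := exists_prime_orderOf_dvd_card' (G := D) 3 h3
      have hz' : orderOf (z : G) = 3 := by rw [Subgroup.orderOf_coe]; exact hz
      have hEz : E ≤ four (z : G) := fun e he => by
        refine two_mem_four F hz' (Subgroup.mem_centralizer_iff.mp z.2 e he) ?_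
        rw [show (128 : ℕ) = 2 * 64 from rfl, pow_mul, pow_two e, hsq e he, one_pow]
      have := Subgroup.card_le_of_le hEz
      rw [h16, card_four F hz'] at this
      omega
    have hd128 : Nat.card D ∣ 128 := by
      have hd : Nat.card D ∣ 128 * 3 := by
        have := Subgroup.card_dvd_of_le hDt
        rwa [F.card_invol t ht] at this
      exact ((Nat.prime_three.coprime_iff_not_dvd.mpr h3).symm).dvd_of_dvd_mul_right hd
    have hpow : ∀ d ∈ D, d ^ 128 = 1 := fun d hd =>
      orderOf_dvd_iff_pow_eq_one.mp ((Subgroup.orderOf_dvd_natCard _ hd).trans hd128)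
    have hinv : ∀ d ∈ D, x * d * x⁻¹ ∈ D := by
      intro d hd
      refine Subgroup.mem_centralizer_iff.mpr fun e he => ?_
      have h := Subgroup.mem_centralizer_iff.mp hd _ (conj_mem_inv (fun k hk => norm_conj hxM hk) he)
      calc e * (x * d * x⁻¹) = x * (x⁻¹ * e * x * d) * x⁻¹ := by group
        _ = x * d * x⁻¹ * e := by rw [h]; group
    intro d hd
    rw [hE, sixteen_eq F ht hx hxt]
    exact ⟨le_core F ht hx hxt hDt hpow hinv hd,
      Subgroup.mem_centralizer_iff.mpr fun v hv => Subgroup.mem_centralizer_iff.mp hd v (hVE hv)⟩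
  -- the orbit of t
  set O : Set G := Set.range fun m : M => (m : G) * t * (m : G)⁻¹ with hO
  have hOE : O ⊆ (E : Set G) \ {1} := by
    rintro _ ⟨m, rfl⟩
    exact ⟨norm_conj m.2 (hVE htV), fun e => ne_one_of_order ht le_rfl (conj_eq_one_iff.mp e)⟩
  have hE15 : ((E : Set G) \ {1}).ncard = 15 := by
    rw [Set.ncard_sdiff (Set.singleton_subset_iff.mpr (one_mem _)), Set.ncard_singleton, ← Nat.card_coe_set_eq]
    exact congrArg (· - 1) h16
  have hO15 : O.ncard ≤ 15 := hE15 ▸ Set.ncard_le_ncard hOE (Set.toFinite _)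
  have hMO := card_conj_range M t
  rw [inf_eq_right.mpr hCt, F.card_invol t ht] at hMO
  have hmd : O.ncard ∣ 1155 := by
    have h := Subgroup.card_subgroup_dvd_card M
    rw [F.card, ← hMO, show (443520 : ℕ) = 1155 * 384 by norm_num] at h
    exact Nat.dvd_of_mul_dvd_mul_right (by norm_num) h
  have hm3 : 3 ∣ O.ncard := by
    have hyM : y ∈ M := mem_norm fun a ha => sixteen_conj F (fun v hv => four_conj F hx hxy.symm hv) ha
    have hdz : Subgroup.zpowers x ⊓ Subgroup.zpowers y = ⊥ := by
      refine (Subgroup.eq_bot_iff_forall _).mpr fun z hz => ?_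
      by_contra hz1
      apply hne
      have hoz : orderOf z = 3 := by
        rcases (Nat.dvd_prime Nat.prime_three).mp
          (hx ▸ Nat.card_zpowers x ▸ Subgroup.orderOf_dvd_natCard _ hz.1) with h | h
        · exact absurd (orderOf_eq_one_iff.mp h) hz1
        · exact h
      have e1 : Subgroup.zpowers z = Subgroup.zpowers y := Subgroup.eq_of_le_of_card_ge
        (Subgroup.zpowers_le.mpr hz.2) (by rw [Nat.card_zpowers, Nat.card_zpowers, hy, hoz])
      exact Subgroup.zpowers_le.mpr hz.1 (e1.ge (Subgroup.mem_zpowers y))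
    let f : Subgroup.zpowers x × Subgroup.zpowers y →* M :=
      { toFun := fun p => ⟨p.1 * p.2, mul_mem (Subgroup.zpowers_le.mpr hxM p.1.2) (Subgroup.zpowers_le.mpr hyM p.2.2)⟩
        map_one' := Subtype.ext (one_mul 1)
        map_mul' := fun p q => Subtype.ext (by
          show (p.1 : G) * q.1 * ((p.2 : G) * q.2) = p.1 * p.2 * ((q.1 : G) * q.2)
          obtain ⟨i, hi⟩ := Subgroup.mem_zpowers_iff.mp p.2.2
          obtain ⟨j, hj⟩ := Subgroup.mem_zpowers_iff.mp q.1.2
          have h : Commute (p.2 : G) (q.1 : G) := hi ▸ hj ▸ ((show Commute y x from hxy.symm).zpow_left i).zpow_right j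
          rw [mul_assoc, mul_assoc, ← mul_assoc (q.1 : G), ← h.eq, mul_assoc (p.2 : G)]) }
    have hf : Function.Injective f := fun p q h => prod_injective hdz (congrArg Subtype.val h)
    have h9 := Subgroup.card_dvd_of_injective f hf
    rw [Nat.card_prod, Nat.card_zpowers, Nat.card_zpowers, hx, hy, ← hMO,
      show (384 : ℕ) = 3 * 128 by norm_num, ← mul_assoc, mul_comm O.ncard 3, mul_assoc] at h9
    exact (show Nat.Coprime 3 128 by norm_num).dvd_of_dvd_mul_right
      (Nat.dvd_of_mul_dvd_mul_left (by norm_num) h9)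
  have hm0 : 0 < O.ncard := (Set.ncard_pos (Set.toFinite _)).mpr ⟨_, ⟨1, rfl⟩⟩
  have hne3 : O.ncard ≠ 3 := by
    intro h3
    have hOset : ∀ {a b : G}, orderOf a = 3 → orderOf b = 3 → a * b = b * a → b ∉ Subgroup.zpowers a →
        sixteen a = E → b ∈ M → ∀ s ∈ four a, orderOf s = 2 → ∀ m ∈ M, m * s * m⁻¹ ∈ (four a : Set G) \ {1} := by
      intro a b ha hb hab hnab hae hbM s hs hos m hm
      have hCs : Subgroup.centralizer ({s} : Set G) ≤ M := by
        have := cen_le_norm F hos ha hs
        rwa [hae] at this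
      have hR := card_conj_range M s
      rw [inf_eq_right.mpr hCs, F.card_invol s hos] at hR
      have hR3 : (Set.range fun m : M => (m : G) * s * (m : G)⁻¹).ncard = 3 := by
        refine Nat.eq_of_mul_eq_mul_right (by norm_num : 0 < 384) ?_
        rw [hR, ← hMO, h3]
      have hsub : (four a : Set G) \ {1} ⊆ Set.range fun m : M => (m : G) * s * (m : G)⁻¹ := by
        have hbs : ∀ k : ℕ, b ^ k * s * (b ^ k)⁻¹ ∈ Set.range fun m : M => (m : G) * s * (m : G)⁻¹ :=
          fun k => ⟨⟨b ^ k, pow_mem hbM k⟩, rfl⟩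
        have hbs4 : ∀ k : ℕ, b ^ k * s * (b ^ k)⁻¹ ∈ (four a : Set G) \ {1} := fun k =>
          ⟨four_conj F ha ((show Commute b a from hab.symm).pow_left k).eq hs,
            fun e => ne_one_of_order hos le_rfl (conj_eq_one_iff.mp e)⟩
        have h3' : ((four a : Set G) \ {1}).ncard = 3 := by
          rw [Set.ncard_sdiff (Set.singleton_subset_iff.mpr (one_mem _)), Set.ncard_singleton,
            ← Nat.card_coe_set_eq]
          exact congrArg (· - 1) (card_four F ha)
        set r := b * s * b⁻¹ with hr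
        have hrs : r ≠ s := fun e => ne_one_of_order hos le_rfl
          (four_fix F ha hb hab hnab hs (mul_inv_eq_iff_eq_mul.mp e).symm)
        have hqr : b * r * b⁻¹ ≠ r := fun e => hrs
          (mul_left_cancel (mul_right_cancel (e.trans hr)))
        have hb3 : b * (b * r * b⁻¹) * b⁻¹ = s := by
          rw [hr, show b * (b * (b * s * b⁻¹) * b⁻¹) * b⁻¹ = b * b * b * s * (b * b * b)⁻¹ by group,
            ← pow_three', pow_three_eq hb, one_mul, inv_one, mul_one]
        have hqs : b * r * b⁻¹ ≠ s := fun e => hrs (by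
          have := hb3
          rwa [e] at this)
        have he : ({s, r, b * r * b⁻¹} : Set G) = (four a : Set G) \ {1} := by
          refine Set.eq_of_subset_of_ncard_le ?_ ?_ (Set.toFinite _)
          · rintro z (rfl | rfl | rfl)
            · simpa using hbs4 0
            · simpa [hr] using hbs4 1
            · have := hbs4 2
              rwa [pow_two, show b * b * s * (b * b)⁻¹ = b * r * b⁻¹ by rw [hr]; group] at this
          · rw [h3', Set.ncard_eq_three.mpr ⟨s, r, _, hrs.symm, hqs.symm, hqr.symm, rfl⟩]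
        rw [← he]
        rintro z (rfl | rfl | rfl)
        · simpa using hbs 0
        · simpa [hr] using hbs 1
        · have := hbs 2
          rwa [pow_two, show b * b * s * (b * b)⁻¹ = b * r * b⁻¹ by rw [hr]; group] at this
      rw [Set.eq_of_subset_of_ncard_le hsub ?_ (Set.toFinite _)]
      · exact ⟨⟨m, hm⟩, rfl⟩
      · rw [hR3, Set.ncard_sdiff (Set.singleton_subset_iff.mpr (one_mem _)), Set.ncard_singleton,
          ← Nat.card_coe_set_eq]
        exact (congrArg (· - 1) (card_four F ha)).ge
    have hyM : y ∈ M := mem_norm fun a ha => sixteen_conj F (fun v hv => four_conj F hx hxy.symm hv) ha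
    have hV := hOset hx hy hxy hne rfl hyM
    have hW := hOset hy hx hxy.symm hne' hsym hxM
    obtain ⟨t', ht'V, ht't, ht'o⟩ : ∃ t' ∈ four x, t' ≠ t ∧ orderOf t' = 2 :=
      ⟨y * t * y⁻¹, four_conj F hx hxy.symm htV,
        fun e => ne_one_of_order ht le_rfl (four_fix F hx hy hxy hne htV (mul_inv_eq_iff_eq_mul.mp e).symm),
        (order_conj y t).trans ht⟩
    obtain ⟨u', hu'W, hu'u, hu'o⟩ : ∃ u' ∈ four y, u' ≠ u ∧ orderOf u' = 2 :=
      ⟨x * u * x⁻¹, four_conj F hy hxy huW,
        fun e => ne_one_of_order hu le_rfl (four_fix F hy hx hxy.symm hne' huW (mul_inv_eq_iff_eq_mul.mp e).symm),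
        (order_conj x u).trans hu⟩
    have h2 : ∀ {W : Subgroup G} {s : G}, Nat.card W = 4 → s ∈ W → s ≠ 1 →
        ((W : Set G) \ {1, s}).ncard = 2 := by
      intro W s hW hs hs1
      rw [Set.ncard_sdiff (fun z hz => by rcases hz with rfl | rfl; exacts [one_mem _, hs]),
        Set.ncard_pair hs1.symm, ← Nat.card_coe_set_eq]
      exact congrArg (· - 2) hW
    have hfixed : ∀ {s s' : G} {W : Subgroup G} {m : G}, m * s' * m⁻¹ ∈ (W : Set G) \ {1} →
        m * s = s * m → s' ≠ s → m * s' * m⁻¹ ∈ (W : Set G) \ {1, s} := by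
      intro s s' W m hm hms hss
      refine ⟨hm.1, ?_⟩
      rintro (h | h)
      · exact hm.2 h
      · refine hss (mul_left_cancel (mul_right_cancel (h.trans ?_) : m * s' = m * s))
        rw [hms, mul_inv_cancel_right]
    set H1 := Subgroup.centralizer ({t} : Set G) with hH1
    set H2 := H1 ⊓ Subgroup.centralizer ({t'} : Set G) with hH2
    set H3 := H2 ⊓ Subgroup.centralizer ({u} : Set G) with hH3
    set H4 := H3 ⊓ Subgroup.centralizer ({u'} : Set G) with hH4
    have b1 : Nat.card H1 ≤ 2 * Nat.card H2 := h2 (card_four F hx) htV (ne_one_of_order ht le_rfl) ▸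
      card_le_mul_cen H1 t' _ fun m hm => hfixed (hV t' ht'V ht'o m (hCt hm)) (mem_cen.mp hm) ht't
    have b2 : Nat.card H2 ≤ 3 * Nat.card H3 := by
      have h3' : ((four y : Set G) \ {1}).ncard = 3 := by
        rw [Set.ncard_sdiff (Set.singleton_subset_iff.mpr (one_mem _)), Set.ncard_singleton,
          ← Nat.card_coe_set_eq]
        exact congrArg (· - 1) (card_four F hy)
      exact h3' ▸ card_le_mul_cen H2 u _ fun m hm => hW u huW hu m (hCt hm.1)
    have b3 : Nat.card H3 ≤ 2 * Nat.card H4 := h2 (card_four F hy) huW (ne_one_of_order hu le_rfl) ▸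
      card_le_mul_cen H3 u' _ fun m hm => hfixed (hW u' hu'W hu'o m (hCt hm.1.1)) (mem_cen.mp hm.2) hu'u
    have hH4E : H4 ≤ E := by
      rw [← hself]
      intro m hm
      refine Subgroup.mem_centralizer_iff.mpr fun e he => ?_
      obtain ⟨v, hv, b, hb, rfl⟩ := hmem e he
      have hgen : ∀ {W : Subgroup G} {s s' : G}, Nat.card W = 4 → (∀ w ∈ W, w * w = 1) → s ∈ W → s' ∈ W → s ≠ 1 →
          s' ≠ 1 → s' ≠ s → m * s = s * m → m * s' = s' * m → ∀ w ∈ W, Commute m w := by
        intro W s s' hW hWsq hs hs' hs1 hs1' hss h1 h2 w hw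
        have he : ({1, s, s', s * s'} : Set G) = (W : Set G) := by
          refine Set.eq_of_subset_of_ncard_le ?_ ?_ (Set.toFinite _)
          · rintro z (rfl | rfl | rfl | rfl)
            exacts [one_mem _, hs, hs', mul_mem hs hs']
          · rw [← Nat.card_coe_set_eq, show Nat.card ↥(W : Set G) = 4 from hW,
              Set.ncard_eq_four.mpr ⟨1, s, s', s * s', hs1.symm, hs1'.symm, ?_, hss.symm, ?_, ?_, rfl⟩]
            · exact fun e => hss (by
                have h' : s⁻¹ = s' := inv_eq_of_mul_eq_one_right e.symm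
                rw [← h']; exact inv_eq_of_mul_eq_one_right (hWsq s hs))
            · exact fun e => hs1' (mul_left_cancel (e.symm.trans (mul_one s).symm))
            · exact fun e => hs1 (mul_right_cancel (e.symm.trans (one_mul s').symm))
        have hw' : w ∈ ({1, s, s', s * s'} : Set G) := he ▸ hw
        rcases hw' with rfl | rfl | rfl | rfl
        exacts [Commute.one_right m, h1, h2, Commute.mul_right h1 h2]
      have hcv := hgen (card_four F hx) (fun w hw => four_sq F hx hw) htV ht'V (ne_one_of_order ht le_rfl)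
        (ne_one_of_order ht'o le_rfl) ht't (mem_cen.mp hm.1.1.1) (mem_cen.mp hm.1.1.2) v hv
      have hcb := hgen (card_four F hy) (fun w hw => four_sq F hy hw) huW hu'W (ne_one_of_order hu le_rfl)
        (ne_one_of_order hu'o le_rfl) hu'u (mem_cen.mp hm.1.2) (mem_cen.mp hm.2) b hb
      exact (hcv.mul_right hcb).eq.symm
    have b4 := Subgroup.card_le_of_le hH4E
    rw [h16] at b4
    have b0 : Nat.card H1 = 384 := F.card_invol t ht
    omega
  have hm15 : O.ncard = 15 := by
    obtain ⟨q, hq⟩ := hm3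
    rw [hq] at hmd hO15 hm0 hne3 ⊢
    have : q ≤ 5 := by omega
    interval_cases q <;> omega
  have hOeq : O = (E : Set G) \ {1} := Set.eq_of_subset_of_ncard_le hOE (by rw [hE15, hm15]) (Set.toFinite _)
  refine ⟨E, h16, hsq, hself, by rw [← hMO, hm15], ?_, ?_⟩
  · intro s hs hs1 c hc
    obtain ⟨m, hm⟩ := hOeq.ge ⟨hs, hs1⟩
    have hmem' : (m : G)⁻¹ * c * m ∈ Subgroup.centralizer ({t} : Set G) := mem_cen.mpr (by
      have hcs : c * ((m : G) * t * (m : G)⁻¹) = (m : G) * t * (m : G)⁻¹ * c := by
        rw [show (m : G) * t * (m : G)⁻¹ = s from hm]; exact mem_cen.mp hc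
      calc (m : G)⁻¹ * c * m * t = (m : G)⁻¹ * (c * ((m : G) * t * (m : G)⁻¹)) * m := by group
        _ = t * ((m : G)⁻¹ * c * m) := by rw [hcs]; group)
    have := M.mul_mem (M.mul_mem m.2 (hCt hmem')) (M.inv_mem m.2)
    rwa [show (m : G) * ((m : G)⁻¹ * c * m) * (m : G)⁻¹ = c by group] at this
  · intro s hs hs1 s' hs' hs1'
    obtain ⟨m, hm⟩ := hOeq.ge ⟨hs, hs1⟩
    obtain ⟨m', hm'⟩ := hOeq.ge ⟨hs', hs1'⟩
    refine ⟨(m' : G) * (m : G)⁻¹, M.mul_mem m'.2 (M.inv_mem m.2), ?_⟩
    rw [← show (m : G) * t * (m : G)⁻¹ = s from hm, ← show (m' : G) * t * (m' : G)⁻¹ = s' from hm']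
    group

end CfsgLib.M22Order
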