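import Cfsg.Agent.Lib.M22Order.Five

/-!
# Simple groups of order 443520: a second element of order three for a four-group
-/

set_option autoImplicit false
set_option linter.unusedSectionVars false
set_option linter.style.haveILetI false

namespace CfsgLib.M22Order

open Cfsg CfsgLib

universe u

variable {G : Type u} [Group G] [Finite G]

theorem map_conj_le {g : G} {K L : Subgroup G} (h : ∀ k ∈ K, g * k * g⁻¹ ∈ L) :
    K.map (MulAut.conj g).toMonoidHom ≤ L := by
  rintro _ ⟨k, hk, rfl⟩
  exact h k hk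

theorem card_map_conj (g : G) (K : Subgroup G) :
    Nat.card ↥(K.map (MulAut.conj g).toMonoidHom) = Nat.card K :=
  Subgroup.card_map_of_injective (MulAut.conj g).injective

/-- An element mapping a subgroup into itself normalises it. -/
theorem map_eq_self {g : G} {K : Subgroup G} (h : ∀ k ∈ K, g * k * g⁻¹ ∈ K) :
    K.map (MulAut.conj g).toMonoidHom = K :=
  Subgroup.eq_of_le_of_card_ge (map_conj_le h) (card_map_conj g K).ge

theorem conj_mem_inv {g : G} {K : Subgroup G} (h : ∀ k ∈ K, g * k * g⁻¹ ∈ K) {k : G} (hk : k ∈ K) :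
    g⁻¹ * k * g ∈ K := by
  rw [← map_eq_self h] at hk
  obtain ⟨a, ha, rfl⟩ := hk
  show g⁻¹ * (g * a * g⁻¹) * g ∈ K
  rwa [show g⁻¹ * (g * a * g⁻¹) * g = a by group]

theorem four_map (g x : G) : (four x).map (MulAut.conj g).toMonoidHom = four (g * x * g⁻¹) := by
  rw [four, MonoidHom.map_closure, four]
  congr 1
  ext a
  constructor
  · rintro ⟨b, ⟨h1, h2⟩, rfl⟩
    refine ⟨?_, ?_⟩
    · show g * b * g⁻¹ * (g * x * g⁻¹) = g * x * g⁻¹ * (g * b * g⁻¹)
      rw [show g * b * g⁻¹ * (g * x * g⁻¹) = g * (b * x) * g⁻¹ by group, h1]; group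
    · show g * b * g⁻¹ * (g * b * g⁻¹) = 1
      rw [show g * b * g⁻¹ * (g * b * g⁻¹) = g * (b * b) * g⁻¹ by group, h2]; group
  · rintro ⟨h1, h2⟩
    refine ⟨g⁻¹ * a * g, ⟨?_, ?_⟩, ?_⟩
    · calc g⁻¹ * a * g * x = g⁻¹ * (a * (g * x * g⁻¹)) * g := by group
        _ = x * (g⁻¹ * a * g) := by rw [h1]; group
    · rw [show g⁻¹ * a * g * (g⁻¹ * a * g) = g⁻¹ * (a * a) * g by group, h2]; group
    · show g * (g⁻¹ * a * g) * g⁻¹ = a
      group

theorem four_inv (x : G) : four x⁻¹ = four x := by
  refine congrArg Subgroup.closure (Set.ext fun a => ?_)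
  exact and_congr_left' (Commute.inv_right_iff (a := a) (b := x))

theorem sixteen_inv (x : G) : sixteen x⁻¹ = sixteen x := by
  rw [sixteen, sixteen, four_inv]

theorem order_conj (g x : G) : orderOf (g * x * g⁻¹) = orderOf x :=
  orderOf_injective (MulAut.conj g).toMonoidHom (MulAut.conj g).injective x

variable (F : Facts G)
include F

theorem four_ne_bot {x : G} (hx : orderOf x = 3) : ∃ t ∈ four x, orderOf t = 2 := by
  by_contra h
  push Not at h
  have : four x = ⊥ := (Subgroup.eq_bot_iff_forall _).mpr fun t ht => by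
    by_contra h1
    exact h t ht (order_of_sq (four_sq F hx ht) h1)
  have h' := card_four F hx
  rw [this, Subgroup.card_bot] at h'
  omega

theorem four_comm_four {x v w : G} (hx : orderOf x = 3) (hv : v ∈ four x) (hw : w ∈ four x) : v * w = w * v := by
  calc v * w = v * w * ((w * v) * (w * v))⁻¹⁻¹ := by rw [four_sq F hx (mul_mem hw hv)]; simp
    _ = v * (w * w) * (v * (w * v)) := by group
    _ = w * v := by rw [four_sq F hx hw, mul_one, ← mul_assoc, four_sq F hx hv, one_mul]

theorem four_le_sixteen {x : G} (hx : orderOf x = 3) : four x ≤ sixteen x := by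
  obtain ⟨t, ht, ho⟩ := four_ne_bot F hx
  rw [sixteen_eq F ho hx (four_comm F hx ht).symm]
  exact le_inf (four_le_core F ho hx (four_comm F hx ht).symm)
    fun v hv => Subgroup.mem_centralizer_iff.mpr fun w hw => four_comm_four F hx hw hv

theorem sixteen_pow {x a : G} (hx : orderOf x = 3) (ha : a ∈ sixteen x) : a ^ 128 = 1 := by
  obtain ⟨t, ht, ho⟩ := four_ne_bot F hx
  rw [sixteen_eq F ho hx (four_comm F hx ht).symm] at ha
  exact pow_core F ho ha.1

theorem sixteen_comm {x a v : G} (ha : a ∈ sixteen x) (hv : v ∈ four x) : a * v = v * a :=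
  (Subgroup.mem_centralizer_iff.mp (Subgroup.map_subtype_le _ ha) v hv).symm

theorem map_sixteen_le (g : G) {x : G} (hx : orderOf x = 3) :
    (sixteen x).map (MulAut.conj g).toMonoidHom ≤ sixteen (g * x * g⁻¹) := by
  obtain ⟨t, ht, ho⟩ := four_ne_bot F hx
  have hxt := (four_comm F hx ht).symm
  have hx' : orderOf (g * x * g⁻¹) = 3 := (order_conj g x).trans hx
  have ho' : orderOf (g * t * g⁻¹) = 2 := (order_conj g t).trans ho
  have hxt' : g * x * g⁻¹ * (g * t * g⁻¹) = g * t * g⁻¹ * (g * x * g⁻¹) := by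
    rw [show g * x * g⁻¹ * (g * t * g⁻¹) = g * (x * t) * g⁻¹ by group, hxt]; group
  rw [sixteen_eq F ho' hx' hxt', ← four_map]
  refine le_inf (le_core F ho' hx' hxt' (map_conj_le fun a ha => mem_cen.mpr ?_) ?_ ?_)
    (map_conj_le fun a ha => Subgroup.mem_centralizer_iff.mpr ?_)
  · rw [show g * a * g⁻¹ * (g * t * g⁻¹) = g * (a * t) * g⁻¹ by group, sixteen_comm F ha ht]; group
  · rintro _ ⟨a, ha, rfl⟩
    rw [← map_pow, sixteen_pow F hx ha, map_one]
  · rintro _ ⟨a, ha, rfl⟩
    refine ⟨x * a * x⁻¹, sixteen_conj F (fun v hv => four_conj F hx rfl hv) ha, ?_⟩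
    show g * (x * a * x⁻¹) * g⁻¹ = g * x * g⁻¹ * (g * a * g⁻¹) * (g * x * g⁻¹)⁻¹
    group
  · rintro _ ⟨v, hv, rfl⟩
    show g * v * g⁻¹ * (g * a * g⁻¹) = g * a * g⁻¹ * (g * v * g⁻¹)
    rw [show g * v * g⁻¹ * (g * a * g⁻¹) = g * (v * a) * g⁻¹ by group, ← sixteen_comm F ha hv]; group

/-- All the sixteens have the same order. -/
theorem card_sixteen_eq {x y : G} (hx : orderOf x = 3) (hy : orderOf y = 3) :
    Nat.card (sixteen x) = Nat.card (sixteen y) := by
  obtain ⟨g, hg⟩ := isConj_iff.mp (F.three_conj x y hx hy)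
  obtain ⟨g', hg'⟩ := isConj_iff.mp (F.three_conj y x hy hx)
  have h1 := Subgroup.card_le_of_le (map_sixteen_le F g hx)
  have h2 := Subgroup.card_le_of_le (map_sixteen_le F g' hy)
  rw [card_map_conj, hg] at h1
  rw [card_map_conj, hg'] at h2
  exact le_antisymm h1 h2

/-- The four-groups of two commuting elements of order three generating different subgroups meet trivially. -/
theorem four_inf_four {x y : G} (hx : orderOf x = 3) (hy : orderOf y = 3) (hxy : x * y = y * x)
    (hne : y ∉ Subgroup.zpowers x) : four x ⊓ four y = ⊥ := by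
  refine (Subgroup.eq_bot_iff_forall _).mpr fun w hw => ?_
  by_contra hw1
  obtain ⟨v, hv, i, hi⟩ := cen_fix F hx hw.1 hw1 hxy.symm (four_comm F hy hw.2).symm
  have hc : Commute v (x ^ i) := (show Commute v x from four_comm F hx hv).pow_right i
  have h3 : y ^ 3 = 1 := pow_three_eq hy
  rw [hi, hc.mul_pow, ← pow_mul, mul_comm i 3, pow_mul, pow_three_eq hx, one_pow, mul_one, pow_succ, pow_two,
    four_sq F hx hv, one_mul] at h3
  exact hne (Subgroup.mem_zpowers_iff.mpr ⟨i, by rw [hi, h3, one_mul, zpow_natCast]⟩)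

/-- An element of order three commuting with `x` acts without fixed points on the four-group of `x`. -/
theorem four_fix {x y v : G} (hx : orderOf x = 3) (hy : orderOf y = 3) (hxy : x * y = y * x)
    (hne : y ∉ Subgroup.zpowers x) (hv : v ∈ four x) (hvy : v * y = y * v) : v = 1 := by
  have h2 : v ^ 4 = 1 := by rw [show (4 : ℕ) = 2 * 2 from rfl, pow_mul, pow_two v, four_sq F hx hv, one_pow]
  exact Subgroup.mem_bot.mp (four_inf_four F hx hy hxy hne ▸ (⟨hv, mem_four F hy hvy h2⟩ : v ∈ four x ⊓ four y))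

theorem not_mem_zpowers_symm {x y : G} (hx : orderOf x = 3) (hy : orderOf y = 3)
    (hne : y ∉ Subgroup.zpowers x) : x ∉ Subgroup.zpowers y := fun h => hne (by
  rw [Subgroup.eq_of_le_of_card_ge (Subgroup.zpowers_le.mpr h) (by rw [Nat.card_zpowers, Nat.card_zpowers, hx, hy])]
  exact Subgroup.mem_zpowers y)

/-- A fixed element in an invariant set of order not divisible by nine. -/
theorem exists_fixer {x : G} (hx : orderOf x = 3) (T : Set G)
    (hT : ∀ g : G, g * x = x * g → g ^ 9 = 1 → ∀ a ∈ T, g * a * g⁻¹ ∈ T)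
    (h9 : ¬ 9 ∣ T.ncard) : ∃ g : G, orderOf g = 3 ∧ g * x = x * g ∧ ∃ a ∈ T, a * g = g * a := by
  classical
  haveI : Fact (Nat.Prime 3) := ⟨Nat.prime_three⟩
  set C := Subgroup.centralizer ({x} : Set G) with hC
  have hfac3 : (Nat.card C).factorization 3 = 2 := by
    rw [card_cen_three F hx, show (36 : ℕ) = 3 ^ 2 * 4 by norm_num, Nat.factorization_mul (by norm_num)
      (by norm_num), Finsupp.add_apply, Nat.factorization_pow, Finsupp.smul_apply,
      Nat.Prime.factorization_self Nat.prime_three,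
      Nat.factorization_eq_zero_of_not_dvd (show ¬ 3 ∣ 4 by norm_num)]
    rfl
  obtain ⟨S⟩ := (inferInstance : Nonempty (Sylow 3 C))
  have hS : Nat.card (S : Subgroup C) = 9 := by rw [S.card_eq_multiplicity, hfac3]; norm_num
  have h9' : ∀ s : (S : Subgroup C), ((s : C) : G) ^ 9 = 1 := fun s => by
    have : s ^ 9 = 1 := hS ▸ pow_card_eq_one'
    exact congrArg (fun z : (S : Subgroup C) => ((z : C) : G)) this
  letI : MulAction (S : Subgroup C) T :=
    { smul := fun s a => ⟨((s : C) : G) * a * ((s : C) : G)⁻¹, hT _ (mem_cen.mp (s : C).2) (h9' s) a a.2⟩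
      one_smul := fun a => Subtype.ext (by show (1 : G) * a * (1 : G)⁻¹ = a; group)
      mul_smul := fun s s' a => Subtype.ext (by
        show ((s : C) : G) * ((s' : C) : G) * a * (((s : C) : G) * ((s' : C) : G))⁻¹ =
          ((s : C) : G) * (((s' : C) : G) * a * ((s' : C) : G)⁻¹) * ((s : C) : G)⁻¹
        group) }
  by_contra hno
  push Not at hno
  have hfree : ∀ a : T, MulAction.stabilizer (S : Subgroup C) a = ⊥ := by
    intro a
    refine (Subgroup.eq_bot_iff_forall _).mpr fun s hs => ?_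
    by_contra hs1
    have hs1' : ((s : C) : G) ≠ 1 := fun e => hs1 (Subtype.ext (Subtype.ext e))
    have hc : (a : G) * ((s : C) : G) = ((s : C) : G) * a :=
      (mul_inv_eq_iff_eq_mul.mp (congrArg Subtype.val hs : ((s : C) : G) * a * ((s : C) : G)⁻¹ = a)).symm
    obtain ⟨k, hk, hk'⟩ := (Nat.dvd_prime_pow Nat.prime_three).mp
      (orderOf_dvd_of_pow_eq_one (show ((s : C) : G) ^ 3 ^ 2 = 1 from h9' s))
    have hk1 : 1 ≤ k := by
      rcases Nat.eq_zero_or_pos k with rfl | h
      · exact absurd (orderOf_eq_one_iff.mp (by simpa using hk')) hs1'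
      · exact h
    refine hno (((s : C) : G) ^ 3 ^ (k - 1)) ?_ ((show Commute ((s : C) : G) x from mem_cen.mp (s : C).2).pow_left _)
      a a.2 ((show Commute (a : G) ((s : C) : G) from hc).pow_right _)
    rw [orderOf_pow' _ (by positivity), hk', Nat.gcd_eq_right (pow_dvd_pow 3 (by omega)), Nat.pow_div (by omega)
      (by norm_num), show k - (k - 1) = 1 by omega, pow_one]
  have hcard := Nat.card_congr (MulAction.selfEquivOrbitsQuotientProd hfree)
  rw [Nat.card_prod, hS, Nat.card_coe_set_eq] at hcard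
  exact h9 ⟨_, by rw [hcard, mul_comm]⟩

/-- A partner of `x`: an element of order three whose four-group lies in the sixteen of `x`. -/
theorem exists_partner {x : G} (hx : orderOf x = 3) :
    ∃ y : G, orderOf y = 3 ∧ x * y = y * x ∧ y ∉ Subgroup.zpowers x ∧ four y ≤ sixteen x := by
  classical
  set A := sixteen x with hA
  set V := four x with hV
  have hVA : V ≤ A := four_le_sixteen F hx
  have hTn : ((A : Set G) \ (V : Set G)).ncard = Nat.card A - 4 := by
    rw [Set.ncard_sdiff hVA, ← Nat.card_coe_set_eq, ← Nat.card_coe_set_eq]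
    exact congrArg (Nat.card A - ·) (card_four F hx)
  obtain ⟨y, hy, hyx, a, ha, hay⟩ := exists_fixer F hx ((A : Set G) \ V) (fun g hg _ a ha =>
      ⟨sixteen_conj F (fun v hv => four_conj F hx hg hv) ha.1, fun h => ha.2 (by
        have := conj_mem_inv (g := g) (fun v hv => four_conj F hx hg hv) h
        rwa [show g⁻¹ * (g * a * g⁻¹) * g = a by group] at this)⟩) (by
    rw [hTn]; rcases card_sixteen F hx with h | h <;> rw [h] <;> norm_num)
  have hne : y ∉ Subgroup.zpowers x := by
    intro h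
    apply ha.2
    refine two_mem_four F hx ?_ (sixteen_pow F hx ha.1)
    have he : Subgroup.zpowers y = Subgroup.zpowers x :=
      Subgroup.eq_of_le_of_card_ge (Subgroup.zpowers_le.mpr h) (by rw [Nat.card_zpowers, Nat.card_zpowers, hx, hy])
    obtain ⟨i, hi⟩ := Subgroup.mem_zpowers_iff.mp (he ▸ Subgroup.mem_zpowers x : x ∈ Subgroup.zpowers y)
    rw [← hi]
    exact ((show Commute a y from hay).zpow_right i).eq
  refine ⟨y, hy, hyx.symm, hne, ?_⟩
  set D := A ⊓ four y with hD
  have hinv : ∀ k ∈ D, x * k * x⁻¹ ∈ D := fun k hk =>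
    ⟨sixteen_conj F (fun v hv => four_conj F hx rfl hv) hk.1, four_conj F hy hyx.symm hk.2⟩
  have hfix : D ⊓ Subgroup.centralizer ({x} : Set G) = ⊥ := by
    refine (Subgroup.eq_bot_iff_forall _).mpr fun k hk => ?_
    exact four_fix F hy hx hyx (not_mem_zpowers_symm F hx hy hne) hk.1.2 (mem_cen.mp hk.2)
  have hmod := card_mod_of_fixed (pow_three_eq hx) D ⊥ hinv hfix
  rw [Subgroup.card_bot] at hmod
  have hd : Nat.card D ∣ 4 := card_four F hy ▸ Subgroup.card_dvd_of_le inf_le_right
  have haD : a ∈ D := ⟨ha.1, two_mem_four F hy hay (sixteen_pow F hx ha.1)⟩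
  have hne1 : Nat.card D ≠ 1 := fun h => ha.2 (by
    rw [Subgroup.card_eq_one.mp h] at haD
    rw [Subgroup.mem_bot.mp haD]; exact one_mem _)
  have hle := Nat.le_of_dvd (by norm_num) hd
  have h4 : Nat.card D = 4 := by interval_cases h : Nat.card D <;> omega
  exact (Subgroup.eq_of_le_of_card_ge (inf_le_right : D ≤ four y) (by rw [h4, card_four F hy])).ge.trans inf_le_left

end CfsgLib.M22Order
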