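import Cfsg.Agent.Lib.M22Order.Normal

/-!
# Simple groups of order 443520: the normaliser of the block modulo the block
-/

set_option autoImplicit false
set_option linter.unusedSectionVars false
set_option linter.style.haveILetI false

namespace CfsgLib.M22Order

open Cfsg CfsgLib

universe u

variable {G : Type u} [Group G] [Finite G]

set_option synthInstance.maxSize 1000 in
theorem key_invert : ∀ τ σ : Equiv.Perm (Fin 3), τ ≠ 1 → σ ^ 3 = 1 → σ ≠ 1 → τ ^ 3 ≠ 1 →
    σ * (τ * σ * τ⁻¹) = 1 := by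
  decide +kernel

theorem three_ne_one {τ : Equiv.Perm (Fin 3)} (h : τ ^ 128 = 1) (h1 : τ ≠ 1) : τ ^ 3 ≠ 1 := fun h3 => h1 (by
  rw [show 128 = 3 * 42 + 2 by norm_num, pow_add, pow_mul, h3, one_pow, one_mul] at h
  rw [pow_succ, h, one_mul] at h3
  exact h3)

theorem Block.comm {E : Subgroup G} (hB : Block E) {a b : G} (ha : a ∈ E) (hb : b ∈ E) : a * b = b * a :=
  (Subgroup.mem_centralizer_iff.mp (hB.self_cen.ge hb) a ha)

theorem Block.inv_eq {E : Subgroup G} (hB : Block E) {a : G} (ha : a ∈ E) : a⁻¹ = a :=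
  inv_eq_of_mul_eq_one_left (hB.sq a ha)

theorem Block.order_two {E : Subgroup G} (hB : Block E) {a : G} (ha : a ∈ E) (h1 : a ≠ 1) : orderOf a = 2 :=
  order_of_sq (hB.sq a ha) h1

/-- The fixed points of an involution on an elementary abelian group of order 16 number at least four. -/
theorem Block.fix_four {E : Subgroup G} (hB : Block E) {a : G} (ha : a * a = 1)
    (hn : ∀ e ∈ E, a * e * a⁻¹ ∈ E) : 4 ≤ Nat.card ↥(E ⊓ Subgroup.centralizer ({a} : Set G)) := by
  classical
  set C := E ⊓ Subgroup.centralizer ({a} : Set G) with hC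
  let f : E →* E :=
    { toFun := fun e => ⟨(e : G) * (a * e * a⁻¹), mul_mem e.2 (hn e e.2)⟩
      map_one' := Subtype.ext (by show (1 : G) * (a * 1 * a⁻¹) = 1; group)
      map_mul' := fun e e' => Subtype.ext (by
        show (e : G) * e' * (a * (e * e') * a⁻¹) = (e : G) * (a * e * a⁻¹) * ((e' : G) * (a * e' * a⁻¹))
        rw [show (a * ((e : G) * e') * a⁻¹) = (a * e * a⁻¹) * (a * e' * a⁻¹) by group]
        exact (show Commute (e' : G) (a * e * a⁻¹) from hB.comm e'.2 (hn e e.2)).mul_mul_mul_comm _ _) }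
  have hker : Nat.card f.ker ≤ Nat.card C := by
    refine Nat.card_le_card_of_injective (fun k : f.ker => (⟨(k : E), (k : E).2, ?_⟩ : C))
      fun k k' h => Subtype.ext (Subtype.ext (congrArg (fun c : C => (c : G)) h))
    have h := congrArg Subtype.val (MonoidHom.mem_ker.mp k.2 : f (k : E) = 1)
    have h' : a * ((k : E) : G) * a⁻¹ = (k : E) := by
      rw [eq_inv_of_mul_eq_one_right h, hB.inv_eq (k : E).2]
    exact mem_cen.mpr (mul_inv_eq_iff_eq_mul.mp h').symm
  have haa : a⁻¹ = a := inv_eq_of_mul_eq_one_left ha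
  have hran : Nat.card f.range ≤ Nat.card C := by
    refine Nat.card_le_card_of_injective (fun k : f.range => (⟨(k : E), (k : E).2, ?_⟩ : C))
      fun k k' h => Subtype.ext (Subtype.ext (congrArg (fun c : C => (c : G)) h))
    obtain ⟨e, he⟩ := k.2
    rw [← he]
    refine mem_cen.mpr (mul_inv_eq_iff_eq_mul.mp ?_).symm
    show a * ((e : G) * (a * e * a⁻¹)) * a⁻¹ = (e : G) * (a * e * a⁻¹)
    calc a * ((e : G) * (a * e * a⁻¹)) * a⁻¹ = (a * e * a⁻¹) * ((a * a) * e * (a * a)⁻¹) := by group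
      _ = (a * e * a⁻¹) * e := by rw [ha, one_mul, inv_one, mul_one]
      _ = _ := hB.comm (hn e e.2) e.2
  have h := f.ker.card_mul_index
  rw [Subgroup.index_ker, hB.card] at h
  by_contra hlt
  push Not at hlt
  have := Nat.mul_le_mul hker hran
  rw [h] at this
  have := Nat.mul_le_mul (show Nat.card C ≤ 3 by omega) (show Nat.card C ≤ 3 by omega)
  omega

variable (F : Facts G)
include F

theorem Block.index_norm {E : Subgroup G} (hB : Block E) : (Subgroup.normalizer (E : Set G)).index = 77 := by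
  have h := (Subgroup.normalizer (E : Set G)).index_mul_card
  rw [hB.card_norm, F.card] at h
  omega

/-- An elementary abelian subgroup of the normaliser meeting the block trivially has order below eight. -/
theorem Block.small {E : Subgroup G} (hB : Block E) (D : Subgroup G)
    (hD : D ≤ Subgroup.normalizer (E : Set G)) (h8 : Nat.card D = 8) (hcomm : ∀ a ∈ D, ∀ b ∈ D, a * b = b * a)
    (hdis : D ⊓ E = ⊥) : False := by
  classical
  haveI : Fact (Nat.Prime 2) := ⟨Nat.prime_two⟩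
  set M := Subgroup.normalizer (E : Set G) with hM
  set E' := E.subgroupOf M with hE'
  haveI : E'.Normal := Subgroup.normal_in_normalizer
  set π := QuotientGroup.mk' E' with hπ
  have hπ1 : ∀ a : M, π a = 1 ↔ (a : G) ∈ E := fun a =>
    (QuotientGroup.eq_one_iff a).trans Subgroup.mem_subgroupOf
  have hq : Nat.card (M ⧸ E') = 360 := by
    have h := Subgroup.card_eq_card_quotient_mul_card_subgroup E'
    rw [hB.card_norm, Nat.card_congr (Subgroup.subgroupOfEquivOfLe Subgroup.le_normalizer).toEquiv, hB.card] at h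
    omega
  set D1 := (D.subgroupOf M).map π with hD1
  have hD1c : Nat.card D1 = 8 := by
    refine Eq.trans ?_ h8
    refine (Nat.card_congr (Equiv.ofBijective (fun d : D =>
      (⟨π ⟨d, hD d.2⟩, ⟨⟨d, hD d.2⟩, Subgroup.mem_subgroupOf.mpr d.2, rfl⟩⟩ : D1)) ⟨?_, ?_⟩)).symm
    · intro a b h
      have hab : π ((⟨a, hD a.2⟩ : M)⁻¹ * ⟨b, hD b.2⟩) = 1 := by
        rw [map_mul, map_inv, show π ⟨a, hD a.2⟩ = π ⟨b, hD b.2⟩ from congrArg Subtype.val h, inv_mul_cancel]
      have hm : (a : G)⁻¹ * b ∈ D ⊓ E := ⟨D.mul_mem (D.inv_mem a.2) b.2, (hπ1 _).mp hab⟩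
      rw [hdis, Subgroup.mem_bot, inv_mul_eq_one] at hm
      exact Subtype.ext hm
    · rintro ⟨_, d, hd, rfl⟩
      exact ⟨⟨d, Subgroup.mem_subgroupOf.mp hd⟩, rfl⟩
  let P0 : Sylow 2 (M ⧸ E') := Sylow.ofCard D1 (by
    rw [hD1c, hq, show (360 : ℕ) = 2 ^ 3 * 45 by norm_num, Nat.factorization_mul (by norm_num) (by norm_num),
      Finsupp.add_apply, Nat.factorization_pow, Finsupp.smul_apply, Nat.Prime.factorization_self Nat.prime_two,
      Nat.factorization_eq_zero_of_not_dvd (show ¬ 2 ∣ 45 by norm_num)]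
    norm_num)
  -- an involution of the block
  obtain ⟨t, htE, ht1⟩ : ∃ t ∈ E, t ≠ 1 := by
    by_contra h; push Not at h
    have h16 := hB.card
    rw [(Subgroup.eq_bot_iff_forall _).mpr h, Subgroup.card_bot] at h16
    omega
  have ht := hB.order_two htE ht1
  set C := Subgroup.centralizer ({t} : Set G) with hC
  have hCM : C ≤ M := hB.cen_le t htE ht1
  have hEC : E ≤ C := fun e he => mem_cen.mpr (hB.comm he htE)
  obtain ⟨x, hx, hxt⟩ := exists_three F ht
  have hxC : x ∈ C := mem_cen.mpr hxt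
  have hEQ : E ≤ core t := le_core F ht hx hxt hEC
    (fun k hk => by rw [show (128 : ℕ) = 2 * 64 from rfl, pow_mul, pow_two k, hB.sq k hk, one_pow])
    (fun k hk => norm_conj (hCM hxC) hk)
  have htV := self_mem_four F ht hx hxt
  have hVE : four x ≤ E := by
    set D' := E ⊓ four x with hD'
    have hmod := card_mod_of_fixed (pow_three_eq hx) E D' (fun k hk => norm_conj (hCM hxC) hk)
      (inf_cen_eq F hx E fun k hk => pow_core F ht (hEQ hk))
    rw [hB.card] at hmod
    have hd : Nat.card D' ∣ 4 := card_four F hx ▸ Subgroup.card_dvd_of_le inf_le_right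
    have hne : Nat.card D' ≠ 1 := fun h => ht1 (by
      have : t ∈ D' := ⟨htE, htV⟩
      rwa [Subgroup.card_eq_one.mp h, Subgroup.mem_bot] at this)
    have hle := Nat.le_of_dvd (by norm_num) hd
    have h4 : Nat.card D' = 4 := by interval_cases h : Nat.card D' <;> omega
    exact (Subgroup.eq_of_le_of_card_ge (inf_le_right : D' ≤ four x) (by rw [h4, card_four F hx])).ge.trans
      inf_le_left
  obtain ⟨φ, -, hk⟩ := exists_hom F ht
  obtain ⟨S⟩ := (inferInstance : Nonempty (Sylow 2 C))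
  have hS : Nat.card (S : Subgroup C) = 128 := by
    rw [S.card_eq_multiplicity, F.card_invol t ht, show (384 : ℕ) = 2 ^ 7 * 3 by norm_num,
      Nat.factorization_mul (by norm_num) (by norm_num), Finsupp.add_apply, Nat.factorization_pow,
      Finsupp.smul_apply, Nat.Prime.factorization_self Nat.prime_two,
      Nat.factorization_eq_zero_of_not_dvd (show ¬ 2 ∣ 3 by norm_num)]
    norm_num
  have hkS : φ.ker ≤ (S : Subgroup C) := hk ▸ HallHigman.pCore_le_sylow_of S
  obtain ⟨r, hrS, hrk⟩ : ∃ r ∈ (S : Subgroup C), r ∉ φ.ker := by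
    by_contra h; push Not at h
    have hle := Subgroup.card_le_of_le (show (S : Subgroup C) ≤ φ.ker from h)
    have hcore := card_core F ht
    rw [core, Subgroup.card_map_of_injective (Subgroup.subtype_injective _)] at hcore
    have h64 : Nat.card φ.ker = 64 := by rw [hk]; exact hcore
    rw [hS, h64] at hle
    omega
  let ι : C →* M ⧸ E' := π.comp (Subgroup.inclusion hCM)
  obtain ⟨R, hR⟩ := (S.2.map ι).exists_le_sylow
  obtain ⟨g, hg⟩ := MulAction.exists_smul_eq (M ⧸ E') P0 R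
  have hRc : ∀ a ∈ (R : Subgroup (M ⧸ E')), ∀ b ∈ (R : Subgroup (M ⧸ E')), a * b = b * a := by
    intro a ha b hb
    rw [← hg] at ha hb
    have e : ∀ c, c ∈ ((g • P0 : Sylow 2 (M ⧸ E')) : Subgroup (M ⧸ E')) → ∃ d ∈ D1, c = g * d * g⁻¹ := by
      intro c hc
      rw [Sylow.smul_def, Sylow.pointwise_smul_def] at hc
      obtain ⟨d, hd, rfl⟩ := hc
      exact ⟨d, hd, rfl⟩
    obtain ⟨d, ⟨d', hd', rfl⟩, rfl⟩ := e a ha
    obtain ⟨f, ⟨f', hf', rfl⟩, rfl⟩ := e b hb
    have hdf : d' * f' = f' * d' := Subtype.ext (hcomm _ hd' _ hf')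
    rw [show g * π d' * g⁻¹ * (g * π f' * g⁻¹) = g * (π d' * π f') * g⁻¹ by group, ← map_mul, hdf, map_mul]
    group
  set x' : C := ⟨x, hxC⟩ with hx'
  have hφx : φ x' ^ 3 = 1 := by rw [← map_pow, show x' ^ 3 = 1 from Subtype.ext (pow_three_eq hx), map_one]
  have hφx1 : φ x' ≠ 1 := fun h => three_not_mem F ht hx
    (mem_core.mpr (hk ▸ MonoidHom.mem_ker.mpr h : x' ∈ Cfsg.pCore 2 C))
  have hr128 : φ r ^ 128 = 1 := by
    rw [← map_pow]
    have : (⟨r, hrS⟩ : (S : Subgroup C)) ^ 128 = 1 := hS ▸ pow_card_eq_one'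
    rw [show r ^ 128 = 1 from congrArg Subtype.val this, map_one]
  have hrne : φ r ≠ 1 := fun h => hrk (MonoidHom.mem_ker.mpr h)
  set w := x' * (r * x' * r⁻¹) with hw
  have hwk : w ∈ φ.ker := MonoidHom.mem_ker.mpr (by
    rw [hw, map_mul, map_mul, map_mul, map_inv]
    exact key_invert _ _ hrne hφx hφx1 (three_ne_one hr128 hrne))
  have hQE : core t ≤ E := by
    intro q hq
    set q' : C := ⟨q, core_le t hq⟩ with hq'
    have hqk : q' ∈ φ.ker := hk ▸ mem_core.mp hq
    set X := ι x' with hX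
    set Q := ι q' with hQdef
    have hmem : ∀ c ∈ (S : Subgroup C), ι c ∈ (R : Subgroup (M ⧸ E')) := fun c hc => hR ⟨c, hc, rfl⟩
    set q'' := x' * q' * x'⁻¹ with hq''
    have hq''k : q'' ∈ φ.ker := φ.normal_ker.conj_mem q' hqk x'
    have h1 : ι r * ι q' = ι q' * ι r := hRc _ (hmem _ hrS) _ (hmem _ (hkS hqk))
    have h2 : ι r * ι q'' = ι q'' * ι r := hRc _ (hmem _ hrS) _ (hmem _ (hkS hq''k))
    have h3 : ι w * ι q' = ι q' * ι w := hRc _ (hmem _ (hkS hwk)) _ (hmem _ (hkS hqk))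
    -- the conjugate by x equals the conjugate by its inverse
    have h4 : X * Q * X⁻¹ = X⁻¹ * Q * X := by
      calc X * Q * X⁻¹ = ι q'' := by rw [hq'', map_mul, map_mul, map_inv]
        _ = ι r * ι q'' * (ι r)⁻¹ := by rw [h2, mul_inv_cancel_right]
        _ = X⁻¹ * (ι w) * (ι r * ι q' * (ι r)⁻¹) * (ι w)⁻¹ * X := by
          rw [hq'', hw]; simp only [map_mul, map_inv, ← hX]; group
        _ = X⁻¹ * (ι w) * ι q' * (ι w)⁻¹ * X := by rw [h1, mul_inv_cancel_right]
        _ = X⁻¹ * Q * X := by rw [mul_assoc X⁻¹ (ι w), h3, ← mul_assoc, mul_inv_cancel_right]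
    have hX3 : X ^ 3 = 1 := by rw [hX, ← map_pow, show x' ^ 3 = 1 from Subtype.ext (pow_three_eq hx), map_one]
    have h5 : X * Q * X⁻¹ = Q := by
      have h6 : X * (X * Q * X⁻¹) * X⁻¹ = Q := by rw [h4]; group
      calc X * Q * X⁻¹ = X * (X * (X * Q * X⁻¹) * X⁻¹) * X⁻¹ := by rw [h6]
        _ = X * X * X * Q * (X * X * X)⁻¹ := by group
        _ = X ^ 3 * Q * (X ^ 3)⁻¹ := by rw [pow_three']
        _ = Q := by rw [hX3, one_mul, inv_one, mul_one]
    have hfixE : q⁻¹ * (x * q * x⁻¹) ∈ E := by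
      refine (hπ1 (Subgroup.inclusion hCM (q'⁻¹ * (x' * q' * x'⁻¹)))).mp ?_
      show ι (q'⁻¹ * (x' * q' * x'⁻¹)) = 1
      rw [map_mul, map_inv, map_mul, map_mul, map_inv, ← hX, ← hQdef, h5, inv_mul_cancel]
    -- a fixed point in the coset
    let f : E → E := fun e => ⟨q⁻¹ * (x * (q * e) * x⁻¹), by
      have hm := E.mul_mem hfixE (norm_conj (hCM hxC) e.2)
      rwa [show q⁻¹ * (x * q * x⁻¹) * (x * e * x⁻¹) = q⁻¹ * (x * (q * e) * x⁻¹) by group] at hm⟩
    have hf3 : ∀ e, f (f (f e)) = e := fun e => Subtype.ext (by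
      show q⁻¹ * (x * (q * (q⁻¹ * (x * (q * (q⁻¹ * (x * (q * e) * x⁻¹))) * x⁻¹))) * x⁻¹) = (e : G)
      have hx3 : x * x * x = 1 := by rw [← pow_three', pow_three_eq hx]
      calc q⁻¹ * (x * (q * (q⁻¹ * (x * (q * (q⁻¹ * (x * (q * e) * x⁻¹))) * x⁻¹))) * x⁻¹)
          = q⁻¹ * ((x * x * x) * (q * e) * (x * x * x)⁻¹) := by group
        _ = e := by rw [hx3, one_mul, inv_one, mul_one, inv_mul_cancel_left])
    have hm3 := card_mod_three f hf3
    rw [hB.card] at hm3
    obtain ⟨⟨e, he⟩⟩ : Nonempty {e : E // f e = e} :=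
      (Nat.card_pos_iff.mp (show 0 < Nat.card {e : E // f e = e} by omega)).1
    have he' : x * (q * e) * x⁻¹ = q * e := inv_mul_eq_iff_eq_mul.mp (congrArg Subtype.val he)
    have hqe : q * e ∈ four x := two_mem_four F hx (mul_inv_eq_iff_eq_mul.mp he').symm
      (pow_core F ht (mul_mem hq (hEQ e.2)))
    have := E.mul_mem (hVE hqe) (E.inv_mem e.2)
    rwa [mul_inv_cancel_right] at this
  have := Subgroup.card_le_of_le hQE
  rw [card_core F ht, hB.card] at this
  omega

end CfsgLib.M22Order
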